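import Mathlib.GroupTheory.Transfer
import Mathlib.GroupTheory.Sylow
import Mathlib.GroupTheory.Perm.Cycle.Type

/-!
# Thompson's transfer lemma and the transfer of elements with controlled fusion
-/

namespace Cfsg.Agent.Lib.Fusion.Thompson

open Subgroup

variable {G : Type*} [Group G]

/-- If every conjugate of a power of `g` that lies in `H` has the same value under `φ` as that
power, the transfer of `g` is `φ g ^ index`. -/
theorem transfer_controlled {H : Subgroup G} [H.FiniteIndex] {A : Type*} [CommGroup A]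
    (φ : H →* A) (g : G) (hg : g ∈ H)
    (hctrl : ∀ (m : ℕ) (a : G) (h : a * g ^ m * a⁻¹ ∈ H),
      φ ⟨a * g ^ m * a⁻¹, h⟩ = φ ⟨g, hg⟩ ^ m) :
    MonoidHom.transfer φ g = φ ⟨g, hg⟩ ^ H.index := by
  have : Fintype (Quotient (MulAction.orbitRel (zpowers g) (G ⧸ H))) := Fintype.ofFinite _
  rw [index_eq_sum_minimalPeriod H g, ← Finset.prod_pow_eq_pow_sum,
    MonoidHom.transfer_eq_prod_quotient_orbitRel_zpowers_quot]
  refine Finset.prod_congr rfl fun q _ => ?_
  have hmem := QuotientGroup.out_conj_pow_minimalPeriod_mem H g q.out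
  have h' : q.out.out⁻¹ * g ^ Function.minimalPeriod (g • ·) q.out * (q.out.out⁻¹)⁻¹ ∈ H := by
    rwa [inv_inv]
  rw [← hctrl _ q.out.out⁻¹ h']
  exact congrArg φ (Subtype.ext (by simp only [inv_inv]))

/-- An element of order two without fixed points on a set of size twice an odd number gives an
odd permutation, so a subgroup of index two. -/
theorem exists_index_two_of_fixedPointFree {α : Type*} [Finite α] [MulAction G α]
    (hα : Nat.card α % 4 = 2) (t : G) (ht : orderOf t = 2) (hfpf : ∀ x : α, t • x ≠ x) :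
    ∃ N : Subgroup G, N.index = 2 ∧ t ∉ N := by
  classical
  have := Fintype.ofFinite α
  let χ : G →* ℤˣ := Equiv.Perm.sign.comp (MulAction.toPermHom G α)
  set σ := MulAction.toPermHom G α t with hσ
  have hpow : σ ^ 2 = 1 := by rw [hσ, ← map_pow, ← ht, pow_orderOf_eq_one, map_one]
  have hfix : Fintype.card (Function.fixedPoints σ) = 0 := by
    rw [Fintype.card_eq_zero_iff]
    exact ⟨fun x => hfpf x.1 x.2⟩
  have hsign : χ t = -1 := by
    show Equiv.Perm.sign σ = -1
    rw [Equiv.Perm.sign_of_cycleType_eq_replicate (n := 2) (by norm_num)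
      (Equiv.Perm.cycleType_of_pow_prime_eq_one hpow), hfix, if_neg (by decide), Nat.sub_zero]
    rw [← Nat.card_eq_fintype_card]
    exact Odd.neg_one_pow (Nat.odd_iff.2 (by omega))
  refine ⟨χ.ker, ?_, fun h => ?_⟩
  · rw [Subgroup.index_ker, MonoidHom.range_eq_top.2 ?_, Subgroup.card_top,
      Nat.card_eq_fintype_card, Fintype.card_units_int]
    intro x
    rcases Int.units_eq_one_or x with rfl | rfl
    · exact ⟨1, map_one χ⟩
    · exact ⟨t, hsign⟩
  · rw [MonoidHom.mem_ker, hsign] at h
    exact absurd h (by decide)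

/-- **Thompson's transfer lemma**: if `M` has index `2·odd` and no subgroup of index two exists,
every involution is conjugate into `M`. -/
theorem exists_conj_mem (M : Subgroup G) [M.FiniteIndex] (hM : M.index % 4 = 2)
    (hG : ∀ N : Subgroup G, N.index ≠ 2) (t : G) (ht : orderOf t = 2) :
    ∃ g : G, g * t * g⁻¹ ∈ M := by
  by_contra hcon
  push Not at hcon
  have : Finite (G ⧸ M) := finite_quotient_of_finiteIndex
  obtain ⟨N, hN, -⟩ := exists_index_two_of_fixedPointFree (G := G) (α := G ⧸ M) hM t ht
    (fun x => by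
      induction x using QuotientGroup.induction_on with
      | H k =>
        intro he
        rw [MulAction.Quotient.smul_mk, smul_eq_mul, QuotientGroup.eq] at he
        refine hcon k⁻¹ ?_
        simpa [mul_assoc] using M.inv_mem he)
  exact hG N hN

/-- Thompson's transfer lemma for a subgroup of index two in a Sylow 2-subgroup. -/
theorem exists_conj_mem_maximal [Finite G] (S : Sylow 2 G) (M : Subgroup G) (hMS : M ≤ S)
    (hM : M.relIndex S = 2) (hG : ∀ N : Subgroup G, N.index ≠ 2) (t : G) (ht : orderOf t = 2) :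
    ∃ g : G, g * t * g⁻¹ ∈ M := by
  refine exists_conj_mem M ?_ hG t ht
  have h1 := relIndex_mul_index hMS
  rw [hM] at h1
  obtain ⟨k, hk⟩ := Nat.odd_iff.2 (Nat.two_dvd_ne_zero.1 S.not_dvd_index)
  omega

end Cfsg.Agent.Lib.Fusion.Thompson
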