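import Mathlib.GroupTheory.Sylow
import Mathlib.GroupTheory.Nilpotent
import Mathlib.Algebra.Group.Subgroup.Pointwise

/-!
# Alperin's fusion theorem for finite groups

`IsFusionBase P R` says that `R ≤ P` has a Sylow `p`-subgroup of its normalizer inside `P` and that
`R` is equal to `P` or is the largest normal `p`-subgroup of its normalizer (radical).

`alperin`: if `A ≤ P` and `g A g⁻¹ ≤ P` then `FusionChain p P A g`: `g` is exactly a product
of elements normalizing such subgroups, with all intermediate images of `A` inside them.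
-/

namespace Cfsg.Agent.Lib.Fusion.Alperin

open Subgroup

variable {G : Type*} [Group G]

/-- The conjugate `g A g⁻¹`. -/
def conjS (g : G) (A : Subgroup G) : Subgroup G := A.map (MulAut.conj g).toMonoidHom

theorem mem_conjS {g : G} {A : Subgroup G} {x : G} : x ∈ conjS g A ↔ g⁻¹ * x * g ∈ A := by
  constructor
  · rintro ⟨a, ha, rfl⟩
    simpa [mul_assoc] using ha
  · intro h
    exact ⟨g⁻¹ * x * g, h, by simp [mul_assoc]⟩

theorem conj_mem_conjS {g a : G} {A : Subgroup G} (ha : a ∈ A) : g * a * g⁻¹ ∈ conjS g A :=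
  mem_conjS.2 (by simpa [mul_assoc] using ha)

theorem conjS_one (A : Subgroup G) : conjS (1 : G) A = A := by
  ext x; simp [mem_conjS]

theorem conjS_mul (g h : G) (A : Subgroup G) : conjS (g * h) A = conjS g (conjS h A) := by
  ext x; simp [mem_conjS, mul_assoc]

theorem conjS_mono {g : G} {A B : Subgroup G} (h : A ≤ B) : conjS g A ≤ conjS g B :=
  Subgroup.map_mono h

theorem conjS_inv_conjS (g : G) (A : Subgroup G) : conjS g⁻¹ (conjS g A) = A := by
  rw [← conjS_mul, inv_mul_cancel, conjS_one]

theorem conjS_le_iff {g : G} {A B : Subgroup G} : conjS g A ≤ B ↔ A ≤ conjS g⁻¹ B := by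
  constructor
  · intro h; have := conjS_mono (g := g⁻¹) h; rwa [conjS_inv_conjS] at this
  · intro h
    have := conjS_mono (g := g) h
    rwa [← conjS_mul, mul_inv_cancel, conjS_one] at this

theorem card_conjS (g : G) (A : Subgroup G) : Nat.card (conjS g A) = Nat.card A :=
  Subgroup.card_map_of_injective (MulEquiv.injective _)

theorem conjS_eq_of_mem_normalizer {g : G} {A : Subgroup G} (h : g ∈ normalizer (A : Set G)) :
    conjS g A = A := by
  ext x
  rw [mem_conjS, mem_normalizer_iff.1 h]
  simp [mul_assoc]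

theorem mem_normalizer_of_conjS_eq {g : G} {A : Subgroup G} (h : conjS g A = A) :
    g ∈ normalizer (A : Set G) := by
  rw [mem_normalizer_iff]
  intro x
  constructor
  · intro hx; rw [← h]; exact conj_mem_conjS hx
  · intro hx; rw [← h, mem_conjS] at hx; simpa [mul_assoc] using hx

theorem mem_normalizer_conjS {g n : G} {A : Subgroup G} (h : n ∈ normalizer (A : Set G)) :
    g * n * g⁻¹ ∈ normalizer (conjS g A : Set G) := by
  apply mem_normalizer_of_conjS_eq
  rw [conjS_mul, conjS_mul, conjS_inv_conjS, conjS_eq_of_mem_normalizer h]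

theorem conjS_normalizer (g : G) (A : Subgroup G) :
    conjS g (normalizer (A : Set G)) = normalizer (conjS g A : Set G) := by
  ext x
  rw [mem_conjS]
  constructor
  · intro h
    have := mem_normalizer_conjS (g := g) h
    simpa [mul_assoc] using this
  · intro h
    have := mem_normalizer_conjS (g := g⁻¹) h
    rw [conjS_inv_conjS] at this
    simpa [mul_assoc] using this

/-- `P ⊓ N_G(R)` is a Sylow `p`-subgroup of `N_G(R)`. -/
def IsFullyNormalized (p : ℕ) (P R : Subgroup G) : Prop :=
  ∀ T : Subgroup G, IsPGroup p T → T ≤ normalizer (R : Set G) → P ⊓ normalizer (R : Set G) ≤ T →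
    T = P ⊓ normalizer (R : Set G)

/-- Every normal `p`-subgroup of `N_G(R)` lies in `R`. -/
def IsRadical (p : ℕ) (R : Subgroup G) : Prop :=
  ∀ T : Subgroup G, IsPGroup p T → T ≤ normalizer (R : Set G) →
    normalizer (R : Set G) ≤ normalizer (T : Set G) → T ≤ R

/-- The members of the conjugation family. -/
def IsFusionBase (p : ℕ) (P R : Subgroup G) : Prop :=
  R ≤ P ∧ IsFullyNormalized p P R ∧ IsRadical p R

/-- `g` moves `A` inside `P` through a chain of normalizers of members of the conjugation family. -/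
inductive FusionChain (p : ℕ) (P : Subgroup G) : Subgroup G → G → Prop
  | base {A R : Subgroup G} {n : G} (hR : IsFusionBase p P R) (hAR : A ≤ R)
      (hn : n ∈ normalizer (R : Set G)) : FusionChain p P A n
  | comp {A : Subgroup G} {g h : G} (h₁ : FusionChain p P A g)
      (h₂ : FusionChain p P (conjS g A) h) : FusionChain p P A (h * g)

theorem FusionChain.le_and_conj_le {p : ℕ} {P A : Subgroup G} {g : G}
    (h : FusionChain p P A g) : A ≤ P ∧ conjS g A ≤ P := by
  induction h with
  | base hR hAR hn =>
    exact ⟨hAR.trans hR.1, (conjS_mono hAR).trans ((conjS_eq_of_mem_normalizer hn).le.trans hR.1)⟩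
  | comp _ _ ih₁ ih₂ => exact ⟨ih₁.1, by rw [conjS_mul]; exact ih₂.2⟩

theorem FusionChain.mono {p : ℕ} {P A : Subgroup G} {g : G} (h : FusionChain p P A g) :
    ∀ {B : Subgroup G}, B ≤ A → FusionChain p P B g := by
  induction h with
  | base hR hAR hn => exact fun hB => .base hR (hB.trans hAR) hn
  | comp _ _ ih₁ ih₂ => exact fun hB => .comp (ih₁ hB) (ih₂ (conjS_mono hB))

variable [Finite G] {p : ℕ} [Fact p.Prime]

/-- In a `p`-subgroup, a proper subgroup grows in its normalizer. -/
theorem lt_inf_normalizer {P A : Subgroup G} (hP : IsPGroup p P) (h : A < P) :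
    A < P ⊓ normalizer (A : Set G) := by
  have : Group.IsNilpotent P := hP.isNilpotent
  have h1 : A.subgroupOf P < ⊤ := by
    rw [lt_top_iff_ne_top, Ne, subgroupOf_eq_top]
    exact fun h' => absurd h' (not_le_of_gt h)
  have h2 := Group.normalizerCondition_of_isNilpotent _ h1
  refine lt_of_le_of_ne (le_inf h.le le_normalizer) fun he => ?_
  refine absurd h2.le (fun hle => ?_)
  obtain ⟨x, hx, hx'⟩ := SetLike.exists_of_lt h2
  apply hx'
  rw [mem_subgroupOf]
  rw [mem_normalizer_iff] at hx
  rw [he]
  refine ⟨x.2, mem_normalizer_iff.2 fun a => ?_⟩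
  constructor
  · intro ha
    have := (hx ⟨a, h.le ha⟩).1 (by simpa [mem_subgroupOf] using ha)
    simpa [mem_subgroupOf] using this
  · intro ha
    have hmem : a ∈ P := by
      have := P.mul_mem (P.mul_mem (P.inv_mem x.2) (h.le ha)) x.2
      simpa [mul_assoc] using this
    have := (hx ⟨a, hmem⟩).2 (by simpa [mem_subgroupOf] using ha)
    simpa [mem_subgroupOf] using this

/-- Every `p`-subgroup `T` of a subgroup `N` can be moved by an element of `N` into a given
maximal `p`-subgroup `S` of `N`. -/
theorem exists_conj_le_of_maximal {N S T : Subgroup G} (hS : IsPGroup p S) (hSN : S ≤ N)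
    (hmax : ∀ U : Subgroup G, IsPGroup p U → U ≤ N → S ≤ U → U = S)
    (hT : IsPGroup p T) (hTN : T ≤ N) : ∃ n ∈ N, conjS n T ≤ S := by
  classical
  obtain ⟨Q, hQ⟩ := (hS.comap_subtype (K := N)).exists_le_sylow
  have hQmap : (Q : Subgroup N).map N.subtype = S := by
    apply hmax _ (Q.2.map N.subtype) (map_subtype_le _)
    have := map_mono (f := N.subtype) hQ
    rwa [map_comap_eq, range_subtype, inf_eq_right.2 hSN] at this
  obtain ⟨R, hR⟩ := (hT.comap_subtype (K := N)).exists_le_sylow
  obtain ⟨n, hn⟩ := MulAction.exists_smul_eq N R Q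
  refine ⟨n, n.2, ?_⟩
  intro x hx
  rw [mem_conjS] at hx
  have hxN : x ∈ N := by
    have := N.mul_mem (N.mul_mem n.2 (hTN hx)) (N.inv_mem n.2)
    simpa [mul_assoc] using this
  rw [← hQmap]
  refine ⟨⟨x, hxN⟩, ?_, rfl⟩
  rw [← hn]
  have hR' : n⁻¹ * ⟨x, hxN⟩ * n ∈ (R : Subgroup N) := hR (by
    rw [mem_comap]; simpa using hx)
  show (⟨x, hxN⟩ : N) ∈ ((n • R : Sylow p N) : Subgroup N)
  erw [Subgroup.mem_pointwise_smul_iff_inv_smul_mem]
  simpa [mul_assoc] using hR'

/-- A conjugate of `A` in `P` that is fully normalized, reached by an element carrying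
`P ⊓ N(A)` into `P`. -/
theorem exists_fullyNormalized (P : Sylow p G) (A : Subgroup G) (hA : A ≤ P) :
    ∃ k : G, conjS k A ≤ P ∧ conjS k ((P : Subgroup G) ⊓ normalizer (A : Set G)) ≤ P ∧
      IsFullyNormalized p P (conjS k A) := by
  classical
  set N := normalizer (A : Set G) with hN
  have hp : IsPGroup p ((P : Subgroup G) ⊓ N : Subgroup G) := P.2.to_le inf_le_left
  obtain ⟨T, hT⟩ := (hp.comap_subtype (K := N)).exists_le_sylow
  set T' : Subgroup G := (T : Subgroup N).map N.subtype with hT'
  have hT'p : IsPGroup p T' := T.2.map N.subtype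
  have hT'N : T' ≤ N := map_subtype_le _
  have hT'max : ∀ U : Subgroup G, IsPGroup p U → U ≤ N → T' ≤ U → U = T' := by
    intro U hU hUN hTU
    have h1 : U.comap N.subtype = (T : Subgroup N) :=
      T.3 (hU.comap_subtype (K := N)) (fun x hx => hTU ⟨x, hx, rfl⟩)
    have h2 := congrArg (map N.subtype) h1
    rwa [map_comap_eq, range_subtype, inf_eq_right.2 hUN] at h2
  have hle : (P : Subgroup G) ⊓ N ≤ T' := by
    have := map_mono (f := N.subtype) hT
    rwa [map_comap_eq, range_subtype, inf_eq_right.2 inf_le_right] at this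
  obtain ⟨Q, hQ⟩ := hT'p.exists_le_sylow
  obtain ⟨k, hk⟩ := MulAction.exists_smul_eq G Q P
  have hkT : conjS k T' ≤ P := by
    rw [← hk]
    intro x hx
    rw [mem_conjS] at hx
    have := Subgroup.smul_mem_pointwise_smul _ (MulAut.conj k) _ (hQ hx)
    rw [Sylow.coe_subgroup_smul]
    simpa [mul_assoc] using this
  have hAT : A ≤ T' := (le_inf hA le_normalizer).trans hle
  refine ⟨k, (conjS_mono hAT).trans hkT, (conjS_mono hle).trans hkT, ?_⟩
  intro U hU hUN hPU
  apply le_antisymm _ hPU
  have hNk : normalizer (conjS k A : Set G) = conjS k N := (conjS_normalizer k A).symm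
  have h1 : conjS k T' ≤ U := le_trans (le_inf hkT (by rw [hNk]; exact conjS_mono hT'N)) hPU
  have h2 : conjS k⁻¹ U = T' := by
    refine hT'max _ (hU.map _) ?_ ?_
    · rw [hNk] at hUN
      have := conjS_mono (g := k⁻¹) hUN
      rwa [conjS_inv_conjS] at this
    · rw [← conjS_inv_conjS k T']; exact conjS_mono h1
  have h3 : U = conjS k T' := by
    rw [← h2, ← conjS_mul, mul_inv_cancel, conjS_one]
  exact le_inf (h3.le.trans hkT) hUN

/-- **Alperin's fusion theorem**. -/
theorem alperin (P : Sylow p G) (A : Subgroup G) (g : G) (hA : A ≤ P) (hgA : conjS g A ≤ P) :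
    FusionChain p (P : Subgroup G) A g := by
  classical
  -- induction on how far `A` is from `P`
  induction hd : Nat.card P - Nat.card A using Nat.strong_induction_on generalizing A g with
  | _ d ih =>
  subst hd
  have IH : ∀ (B : Subgroup G) (h : G), B ≤ P → conjS h B ≤ P →
      Nat.card A < Nat.card B → FusionChain p (P : Subgroup G) B h := by
    intro B h hB hhB hlt
    refine ih _ ?_ B h hB hhB rfl
    have := Subgroup.card_le_of_le hB
    omega
  by_cases hAP : A = P
  · subst hAP
    have he : conjS g (P : Subgroup G) = P :=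
      eq_of_le_of_card_ge hgA (card_conjS g _).ge
    refine .base ⟨le_rfl, ?_, ?_⟩ le_rfl (mem_normalizer_of_conjS_eq he)
    · intro T hT _ hle
      rw [inf_eq_left.2 le_normalizer] at hle ⊢
      exact P.3 hT hle
    · intro T hT hTN _
      have : T ⊔ P = (P : Subgroup G) :=
        P.3 (hT.to_sup_of_normal_right' P.2 hTN) le_sup_right
      exact le_sup_left.trans this.le
  have hlt : A < P := lt_of_le_of_ne hA hAP
  have grow : ∀ (B : Subgroup G), B ≤ P → Nat.card B = Nat.card A →
      Nat.card A < Nat.card ((P : Subgroup G) ⊓ normalizer (B : Set G) : Subgroup G) := by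
    intro B hB hcard
    have hBlt : B < P := lt_of_le_of_ne hB fun h => by
      subst h
      exact hAP (eq_of_le_of_card_ge hA hcard.le)
    rw [← hcard]
    refine lt_of_le_of_ne (card_le_of_le (lt_inf_normalizer P.2 hBlt).le) fun h => ?_
    exact (lt_inf_normalizer P.2 hBlt).ne (eq_of_le_of_card_ge (lt_inf_normalizer P.2 hBlt).le h.ge)
  -- a step from a fully normalized conjugate
  have step : ∀ (B : Subgroup G) (n : G), B ≤ P → Nat.card B = Nat.card A →
      IsFullyNormalized p (P : Subgroup G) B → n ∈ normalizer (B : Set G) →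
      FusionChain p (P : Subgroup G) B n := by
    intro B n hB hcard hfn hn
    by_cases hrad : IsRadical p B
    · exact .base ⟨hB, hfn, hrad⟩ le_rfl hn
    simp only [IsRadical, not_forall] at hrad
    obtain ⟨T, hT, hTN, hNT, hTB⟩ := hrad
    -- enlarge `T` to contain `B`
    have hT' : IsPGroup p (T ⊔ B : Subgroup G) :=
      hT.to_sup_of_normal_right' (P.2.to_le hB) hTN
    have hN' : normalizer (B : Set G) ≤ normalizer ((T ⊔ B : Subgroup G) : Set G) := by
      intro x hx
      apply mem_normalizer_of_conjS_eq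
      rw [conjS, Subgroup.map_sup]
      exact congrArg₂ (· ⊔ ·) (conjS_eq_of_mem_normalizer (hNT hx))
        (conjS_eq_of_mem_normalizer hx)
    have hTB' : (T ⊔ B : Subgroup G) ≤ normalizer (B : Set G) := sup_le hTN le_normalizer
    have hX : (T ⊔ B : Subgroup G) ≤ P := by
      set S : Subgroup G := (P : Subgroup G) ⊓ normalizer (B : Set G)
      have hsup : IsPGroup p (S ⊔ (T ⊔ B) : Subgroup G) :=
        (P.2.to_le inf_le_left).to_sup_of_normal_right' hT' (inf_le_right.trans hN')
      have := hfn _ hsup (sup_le inf_le_right hTB') le_sup_left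
      exact le_sup_right.trans (this.le.trans inf_le_left)
    refine (IH (T ⊔ B) n hX ?_ ?_).mono le_sup_right
    · rw [conjS_eq_of_mem_normalizer (hN' hn)]; exact hX
    · rw [← hcard]
      refine lt_of_le_of_ne (card_le_of_le le_sup_right) fun h => hTB ?_
      have := eq_of_le_of_card_ge (H := B) (K := T ⊔ B) le_sup_right h.ge
      exact le_sup_left.trans this.symm.le
  obtain ⟨k, hkA, hkN, hkfn⟩ := exists_fullyNormalized P A hA
  have hA' : conjS g A ≤ (P : Subgroup G) := hgA
  obtain ⟨k', hk'A, hk'N, hk'fn⟩ := exists_fullyNormalized P (conjS g A) hA'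
  set B := conjS k A with hBdef
  set B' := conjS k' (conjS g A) with hB'def
  set h := k' * g * k⁻¹ with hh
  have hhB : conjS h B = B' := by
    rw [hBdef, hB'def, hh, conjS_mul, conjS_mul, conjS_inv_conjS]
  -- from `A` to `B`
  have c1 : FusionChain p (P : Subgroup G) A k :=
    (IH _ k inf_le_left hkN (grow A hA rfl)).mono (le_inf hA le_normalizer)
  -- from `B'` back to `g A`
  have c3 : FusionChain p (P : Subgroup G) B' k'⁻¹ := by
    have h1 : conjS k'⁻¹ (conjS k' ((P : Subgroup G) ⊓ normalizer (conjS g A : Set G))) ≤ P := by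
      rw [conjS_inv_conjS]; exact inf_le_left
    refine (IH _ k'⁻¹ hk'N h1 ?_).mono (conjS_mono (le_inf hA' le_normalizer))
    rw [card_conjS]
    exact grow _ hA' (card_conjS g A)
  -- from `B` to `B'`
  have c2 : FusionChain p (P : Subgroup G) B h := by
    set S := (P : Subgroup G) ⊓ normalizer (B : Set G)
    set S' := (P : Subgroup G) ⊓ normalizer (B' : Set G)
    have hS : IsPGroup p (conjS h S) := (P.2.to_le inf_le_left).map _
    have hSN : conjS h S ≤ normalizer (B' : Set G) := by
      rw [← hhB, ← conjS_normalizer]; exact conjS_mono inf_le_right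
    obtain ⟨n, hn, hnS⟩ := exists_conj_le_of_maximal (P.2.to_le inf_le_left)
      (inf_le_right (a := (P : Subgroup G))) hk'fn hS hSN
    rw [← conjS_mul] at hnS
    have hcB : Nat.card B = Nat.card A := card_conjS k A
    have d1 : FusionChain p (P : Subgroup G) B (n * h) :=
      (IH S (n * h) inf_le_left (hnS.trans inf_le_left) (grow B hkA hcB)).mono
        (le_inf hkA le_normalizer)
    have hnhB : conjS (n * h) B = B' := by
      rw [conjS_mul, hhB, conjS_eq_of_mem_normalizer hn]
    have d2 : FusionChain p (P : Subgroup G) (conjS (n * h) B) n⁻¹ := by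
      rw [hnhB]
      exact step B' n⁻¹ hk'A ((card_conjS _ _).trans (card_conjS _ _)) hk'fn (inv_mem hn)
    simpa using d1.comp d2
  have c12 : FusionChain p (P : Subgroup G) A (h * k) := c1.comp c2
  have : conjS (h * k) A = B' := by rw [conjS_mul, ← hBdef, hhB]
  have c := c12.comp (this.symm ▸ c3)
  simpa [hh, mul_assoc] using c

/-- Element form of Alperin's theorem. -/
theorem alperin_element (P : Sylow p G) (x g : G) (hx : x ∈ P) (hgx : g * x * g⁻¹ ∈ P) :
    FusionChain p (P : Subgroup G) (zpowers x) g := by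
  refine alperin P _ g (zpowers_le.2 hx) ?_
  rw [conjS, MonoidHom.map_zpowers]
  exact zpowers_le.2 hgx

/-- Induction on a fusion chain for one element: a property of elements of `P` preserved by
normalizers of members of the conjugation family is preserved by fusion in `P`. -/
theorem fusion_invariant (P : Sylow p G) (Φ : G → Prop)
    (hΦ : ∀ R : Subgroup G, IsFusionBase p (P : Subgroup G) R → ∀ n ∈ normalizer (R : Set G),
      ∀ x ∈ R, Φ x → Φ (n * x * n⁻¹))
    (x g : G) (hx : x ∈ P) (hgx : g * x * g⁻¹ ∈ P) (h : Φ x) : Φ (g * x * g⁻¹) := by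
  suffices H : ∀ (A : Subgroup G) (g : G), FusionChain p (P : Subgroup G) A g →
      ∀ a ∈ A, Φ a → Φ (g * a * g⁻¹) from
    H _ g (alperin_element P x g hx hgx) x (mem_zpowers x) h
  intro A g hc
  induction hc with
  | base hR hAR hn => exact fun a ha => hΦ _ hR _ hn a (hAR ha)
  | @comp B g₁ g₂ _ _ ih₁ ih₂ =>
    intro a ha hf
    have := ih₂ _ (conj_mem_conjS ha) (ih₁ a ha hf)
    simpa [mul_assoc] using this

end Cfsg.Agent.Lib.Fusion.Alperin
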