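import Mathlib
import Cfsg.Prelude.Def_Involutions
import Cfsg.Agent.Lib.Involutions.Basic
import Cfsg.Agent.Lib.Fusion.Alperin

/-!
# Groups in which every involution centralizer is an elementary abelian 2-group

Standing hypothesis `EAHyp T`: the Sylow 2-subgroup `T` is neither cyclic nor normal and every
involution centralizer is elementary abelian. With `H = N(T)`: `G` is sharply 3-transitive
on `G ⧸ H`, and `H` is strongly embedded.
-/

namespace Cfsg.Agent.Lib.Fusion.EACentralizers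

open Subgroup Cfsg.Agent.Lib.Fusion.Alperin

variable {G : Type*} [Group G]

/-- The standing hypothesis. -/
structure EAHyp (T : Sylow 2 G) : Prop where
  nc : ¬ IsCyclic (T : Subgroup G)
  nn : ¬ (T : Subgroup G).Normal
  hC : ∀ t : G, orderOf t = 2 → IsMulCommutative (centralizer ({t} : Set G)) ∧
    ∀ c ∈ centralizer ({t} : Set G), c ^ 2 = 1

/-- `H = N(T)`. -/
def nrm (T : Sylow 2 G) : Subgroup G := normalizer ((T : Subgroup G) : Set G)

/-- `N(T) ⊓ g N(T) g⁻¹`. -/
def two (T : Sylow 2 G) (g : G) : Subgroup G := nrm T ⊓ (nrm T).map (MulAut.conj g).toMonoidHom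

variable {T : Sylow 2 G}

theorem mem_two {g x : G} : x ∈ two T g ↔ x ∈ nrm T ∧ g⁻¹ * x * g ∈ nrm T := by
  show x ∈ _ ⊓ conjS g (nrm T) ↔ _
  rw [mem_inf, mem_conjS]

theorem T_le : (T : Subgroup G) ≤ nrm T := le_normalizer

theorem conj_mem_T {h x : G} (hh : h ∈ nrm T) (hx : x ∈ T) : h * x * h⁻¹ ∈ T :=
  (mem_normalizer_iff.1 hh x).1 hx

theorem mul_self_of_orderOf {t : G} (ht : orderOf t = 2) : t * t = 1 := by
  rw [← pow_two, ← ht]; exact pow_orderOf_eq_one t

theorem inv_of_orderOf {t : G} (ht : orderOf t = 2) : t⁻¹ = t :=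
  inv_eq_of_mul_eq_one_right (mul_self_of_orderOf ht)

theorem ne_one_of_orderOf {t : G} (ht : orderOf t = 2) : t ≠ 1 := by
  rintro rfl; simp at ht

theorem orderOf_conj (g t : G) : orderOf (g * t * g⁻¹) = orderOf t :=
  Cfsg.Agent.Lib.Involutions.Basic.orderOf_conj_eq g t

theorem orderOf_conj' (g t : G) : orderOf (g⁻¹ * t * g) = orderOf t := by
  simpa using orderOf_conj g⁻¹ t

theorem two_dvd_orderOf {t : G} (h : t ^ 2 = 1) (hne : t ≠ 1) : orderOf t = 2 :=
  orderOf_eq_prime h hne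

/-- Two involutions with product of odd order are interchanged by an involution of their closure. -/
theorem exists_swapping_involution {a c : G} (ha : orderOf a = 2) (hc : orderOf c = 2)
    (hodd : Odd (orderOf (a * c))) : ∃ w : G, orderOf w = 2 ∧ w * a * w⁻¹ = c := by
  obtain ⟨k, hk⟩ := hodd
  have haa := mul_self_of_orderOf ha
  have hinv : a * (a * c) ^ (k + 1) * a = ((a * c) ^ (k + 1))⁻¹ := by
    rw [← zpow_natCast, ← zpow_neg]
    exact Cfsg.Agent.Lib.Involutions.Basic.invert_zpow haa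
      (Cfsg.Agent.Lib.Involutions.Basic.invert_mul haa (mul_self_of_orderOf hc)) _
  have hr : ((a * c) ^ (k + 1)) ^ 2 = a * c := by
    rw [← pow_mul, show (k + 1) * 2 = orderOf (a * c) + 1 by omega, pow_succ,
      pow_orderOf_eq_one, one_mul]
  refine ⟨a * (a * c) ^ (k + 1), two_dvd_orderOf ?_ ?_, ?_⟩
  · rw [_root_.pow_two, ← mul_assoc, hinv, inv_mul_cancel]
  · intro e
    have h1 : a = ((a * c) ^ (k + 1))⁻¹ := eq_inv_of_mul_eq_one_left e
    have h3 : orderOf a ∣ orderOf (a * c) := by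
      have := congrArg orderOf h1
      rw [orderOf_inv] at this
      rw [this]; exact orderOf_pow_dvd _
    rw [ha, hk] at h3
    omega
  · generalize (a * c) ^ (k + 1) = r at hinv hr
    calc (a * r) * a * (a * r)⁻¹ = (a * r * a) * (r⁻¹ * a⁻¹) := by group
      _ = (r ^ 2)⁻¹ * a⁻¹ := by rw [hinv]; group
      _ = c⁻¹ * (a⁻¹ * a⁻¹) := by rw [hr]; group
      _ = c := by rw [inv_of_orderOf ha, inv_of_orderOf hc, haa, mul_one]

variable [Finite G]

theorem EAHyp.ne_bot (h : EAHyp T) : (T : Subgroup G) ≠ ⊥ := fun e =>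
  h.nn (by rw [e]; infer_instance)

theorem EAHyp.exists_central (h : EAHyp T) :
    ∃ z : G, orderOf z = 2 ∧ z ∈ T ∧ (T : Subgroup G) ≤ centralizer ({z} : Set G) := by
  have hnt : Nontrivial (T : Subgroup G) := (nontrivial_iff_ne_bot _).2 h.ne_bot
  have := T.2.center_nontrivial
  have h2 : 2 ∣ Nat.card (center (T : Subgroup G)) := by
    obtain ⟨n, hn⟩ := (T.2.to_subgroup (center (T : Subgroup G))).exists_card_eq
    have h1 := Finite.one_lt_card (α := center (T : Subgroup G))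
    rw [hn] at h1 ⊢
    exact dvd_pow_self 2 fun h0 => by simp [h0] at h1
  obtain ⟨z, hz⟩ := exists_prime_orderOf_dvd_card' 2 h2
  refine ⟨((z : (T : Subgroup G)) : G), ?_, (z : (T : Subgroup G)).2, ?_⟩
  · rw [orderOf_coe, orderOf_coe, hz]
  · intro x hx
    rw [mem_centralizer_singleton_iff]
    have h1 := (mem_center_iff.1 z.2) ⟨x, hx⟩
    have h2' := congrArg Subtype.val h1
    simp only [coe_mul] at h2'
    first | exact h2' | exact h2'.symm

theorem EAHyp.pow_two (h : EAHyp T) {t : G} (ht : t ∈ T) : t ^ 2 = 1 := by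
  obtain ⟨z, hz, -, hle⟩ := h.exists_central
  exact (h.hC z hz).2 t (hle ht)

theorem EAHyp.mul_self (h : EAHyp T) {t : G} (ht : t ∈ T) : t * t = 1 := by
  rw [← _root_.pow_two]; exact h.pow_two ht

theorem EAHyp.comm (h : EAHyp T) {s t : G} (hs : s ∈ T) (ht : t ∈ T) : s * t = t * s := by
  obtain ⟨z, hz, -, hle⟩ := h.exists_central
  have := (h.hC z hz).1
  exact congrArg Subtype.val (this.is_comm.comm ⟨s, hle hs⟩ ⟨t, hle ht⟩)

theorem EAHyp.orderOf_mem (h : EAHyp T) {t : G} (ht : t ∈ T) (hne : t ≠ 1) : orderOf t = 2 :=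
  two_dvd_orderOf (h.pow_two ht) hne

theorem EAHyp.centralizer_eq (h : EAHyp T) {t : G} (ht : t ∈ T) (hne : t ≠ 1) :
    centralizer ({t} : Set G) = (T : Subgroup G) := by
  have h2 := h.orderOf_mem ht hne
  refine T.3 ?_ ?_
  · intro c
    refine ⟨1, ?_⟩
    apply Subtype.ext
    simpa using (h.hC t h2).2 c c.2
  · intro x hx
    rw [mem_centralizer_singleton_iff]
    first | exact h.comm ht hx | exact h.comm hx ht

theorem EAHyp.mem_of_commute (h : EAHyp T) {t x : G} (ht : t ∈ T) (hne : t ≠ 1)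
    (hc : x * t = t * x) : x ∈ T := by
  show x ∈ (T : Subgroup G)
  rw [← h.centralizer_eq ht hne, mem_centralizer_singleton_iff]
  first | exact hc | exact hc.symm

/-- An involution normalizing `T` lies in `T`. -/
theorem invol_mem_of_mem_nrm {t : G} (ht : orderOf t = 2) (htN : t ∈ nrm T) : t ∈ T := by
  have hp : IsPGroup 2 (zpowers t) :=
    IsPGroup.of_card (n := 1) (by rw [Nat.card_zpowers, ht]; rfl)
  have := T.3 (hp.to_sup_of_normal_right' T.2 (zpowers_le.2 htN)) le_sup_right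
  exact this.le (mem_sup_left (mem_zpowers t))

theorem EAHyp.mem_nrm_of_conj_mem (h : EAHyp T) {t g : G} (ht : t ∈ T) (hne : t ≠ 1)
    (hg : g * t * g⁻¹ ∈ T) : g ∈ nrm T := by
  have hne' : g * t * g⁻¹ ≠ 1 := fun e => hne (conj_eq_one_iff.1 e)
  show g ∈ normalizer _
  apply mem_normalizer_of_conjS_eq
  refine eq_of_le_of_card_ge (fun x hx => ?_) (card_conjS g _).ge
  rw [mem_conjS] at hx
  apply h.mem_of_commute hg hne'
  have := congrArg (fun y => g * y * g⁻¹) (h.comm hx ht)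
  simpa [mul_assoc] using this

theorem EAHyp.isStronglyEmbedded (h : EAHyp T) : Cfsg.IsStronglyEmbedded (nrm T) := by
  refine ⟨fun e => h.nn (normalizer_eq_top_iff.1 e), ?_, fun g hg => ?_⟩
  · obtain ⟨z, hz, hzT, -⟩ := h.exists_central
    rw [even_iff_two_dvd, ← hz]
    exact orderOf_dvd_natCard _ (T_le hzT)
  · by_contra he
    rw [Nat.not_odd_iff_even, even_iff_two_dvd] at he
    obtain ⟨t, ht⟩ := exists_prime_orderOf_dvd_card' 2 he
    have ht2 : orderOf (t : G) = 2 := by rw [orderOf_coe]; exact ht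
    obtain ⟨h1, h2⟩ := (mem_two (T := T) (g := g) (x := (t : G))).1 t.2
    have a := invol_mem_of_mem_nrm ht2 h1
    have b := invol_mem_of_mem_nrm (by rw [orderOf_conj']; exact ht2) h2
    apply hg
    have := h.mem_nrm_of_conj_mem (g := g) b (ne_one_of_orderOf (by rw [orderOf_conj']; exact ht2))
      (by simpa [mul_assoc] using a)
    exact this

theorem EAHyp.odd_two (h : EAHyp T) {g : G} (hg : g ∉ nrm T) : Odd (Nat.card (two T g)) :=
  h.isStronglyEmbedded.2.2 g hg

theorem EAHyp.eq_one_of_mem_two (h : EAHyp T) {g x : G} (hg : g ∉ nrm T) (hx : x ∈ two T g)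
    (h2 : x ^ 2 = 1) : x = 1 := by
  by_contra hne
  have := orderOf_dvd_natCard _ hx
  rw [two_dvd_orderOf h2 hne] at this
  exact Nat.not_even_iff_odd.2 (h.odd_two hg) (even_iff_two_dvd.2 this)

theorem EAHyp.two_inf_T (h : EAHyp T) {g x : G} (hg : g ∉ nrm T) (hx : x ∈ two T g)
    (hxT : x ∈ T) : x = 1 :=
  h.eq_one_of_mem_two hg hx (h.pow_two hxT)

/-- An element of a two point stabilizer centralizing an involution is trivial. -/
theorem EAHyp.eq_one_of_commute (h : EAHyp T) {g x t : G} (hg : g ∉ nrm T) (hx : x ∈ two T g)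
    (ht : orderOf t = 2) (hc : x * t = t * x) : x = 1 := by
  refine h.eq_one_of_mem_two hg hx ((h.hC t ht).2 x ?_)
  rw [mem_centralizer_singleton_iff]
  first | exact hc | exact hc.symm

theorem EAHyp.exists_invol_notMem (h : EAHyp T) : ∃ u : G, orderOf u = 2 ∧ u ∉ nrm T := by
  by_contra hcon
  push Not at hcon
  apply h.nn
  constructor
  intro t ht g
  by_cases hne : t = 1
  · simp [hne]
  · exact invol_mem_of_mem_nrm (by rw [orderOf_conj]; exact h.orderOf_mem ht hne)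
      (hcon _ (by rw [orderOf_conj]; exact h.orderOf_mem ht hne))

/-- An involution of `T` and a conjugate of one outside it are interchanged by an involution. -/
theorem EAHyp.exists_swap (h : EAHyp T) {g a b : G} (hg : g ∉ nrm T) (ha : a ∈ T) (hane : a ≠ 1)
    (hb : b ∈ T) (hbne : b ≠ 1) :
    ∃ w : G, orderOf w = 2 ∧ w * a * w⁻¹ = g * b * g⁻¹ ∧ g⁻¹ * w ∈ nrm T := by
  have ha2 := h.orderOf_mem ha hane
  set c := g * b * g⁻¹ with hc
  have hc2 : orderOf c = 2 := by rw [hc, orderOf_conj]; exact h.orderOf_mem hb hbne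
  have hcT : c ∉ T := fun hcT => hg (h.mem_nrm_of_conj_mem hb hbne hcT)
  have hac : a ≠ c := fun e => hcT (e ▸ ha)
  have hodd : Odd (orderOf (a * c)) := by
    by_contra he
    rw [Nat.not_odd_iff_even] at he
    obtain ⟨hz, hza, hzc⟩ := Cfsg.Agent.Lib.Involutions.Basic.central_invol ha2 hc2 he
    have hzT := h.mem_of_commute ha hane hza.eq
    exact hcT (h.mem_of_commute hzT (ne_one_of_orderOf hz) hzc.eq.symm)
  obtain ⟨w, hw, hwa⟩ := exists_swapping_involution ha2 hc2 hodd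
  refine ⟨w, hw, hwa, h.mem_nrm_of_conj_mem (t := a) ha hane ?_⟩
  have : g⁻¹ * w * a * (g⁻¹ * w)⁻¹ = g⁻¹ * (w * a * w⁻¹) * g := by group
  rw [this, hwa, hc]
  simpa [mul_assoc] using hb

/-- Every coset other than `H` contains an involution. -/
theorem EAHyp.exists_invol_coset (h : EAHyp T) {g : G} (hg : g ∉ nrm T) :
    ∃ v : G, orderOf v = 2 ∧ g⁻¹ * v ∈ nrm T := by
  obtain ⟨z, hz, hzT, -⟩ := h.exists_central
  obtain ⟨w, hw, -, hw'⟩ := h.exists_swap hg hzT (ne_one_of_orderOf hz) hzT (ne_one_of_orderOf hz)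
  exact ⟨w, hw, hw'⟩

section D

variable {u : G}

omit [Finite G] in
theorem two_swap (hu : orderOf u = 2) {x : G} (hx : x ∈ two T u) : u * x * u⁻¹ ∈ two T u := by
  obtain ⟨h1, h2⟩ := mem_two.1 hx
  rw [inv_of_orderOf hu] at h2 ⊢
  rw [mem_two, inv_of_orderOf hu]
  refine ⟨h2, ?_⟩
  have : u * (u * x * u) * u = x := by
    rw [show u * (u * x * u) * u = u * u * x * (u * u) by group, mul_self_of_orderOf hu]
    simp
  rw [this]; exact h1

theorem EAHyp.invert (h : EAHyp T) (hu : orderOf u = 2) (huH : u ∉ nrm T) :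
    ∀ d ∈ two T u, u * d * u⁻¹ = d⁻¹ := by
  let φ : two T u → two T u :=
    fun x => ⟨(x : G)⁻¹ * (u * x * u⁻¹), mul_mem (inv_mem x.2) (two_swap hu x.2)⟩
  have hinj : Function.Injective φ := by
    intro x y hxy
    have h1 : (x : G)⁻¹ * (u * x * u⁻¹) = (y : G)⁻¹ * (u * y * u⁻¹) := congrArg Subtype.val hxy
    have h2 : ((y : G) * (x : G)⁻¹) * u = u * ((y : G) * (x : G)⁻¹) := by
      have h3 := congrArg (fun z => (y : G) * z * u * (x : G)⁻¹) h1
      simpa [mul_assoc] using h3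
    have := h.eq_one_of_commute huH (mul_mem y.2 (inv_mem x.2)) hu h2
    exact Subtype.ext (mul_inv_eq_one.1 this).symm
  intro d hd
  obtain ⟨x, hx⟩ := (Finite.injective_iff_surjective.1 hinj) ⟨d, hd⟩
  have h1 : (x : G)⁻¹ * (u * x * u⁻¹) = d := congrArg Subtype.val hx
  rw [← h1, inv_of_orderOf hu]
  have h2 := mul_self_of_orderOf hu
  calc u * ((x : G)⁻¹ * (u * x * u)) * u = u * (x : G)⁻¹ * u * x * (u * u) := by group
    _ = ((x : G)⁻¹ * (u * x * u))⁻¹ := by
      rw [h2, mul_one, mul_inv_rev, mul_inv_rev, mul_inv_rev, inv_inv, inv_of_orderOf hu]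
      group

theorem EAHyp.two_comm (h : EAHyp T) (hu : orderOf u = 2) (huH : u ∉ nrm T)
    {d e : G} (hd : d ∈ two T u) (he : e ∈ two T u) : d * e = e * d := by
  have h1 := h.invert hu huH _ (mul_mem hd he)
  have h2 : u * (d * e) * u⁻¹ = (u * d * u⁻¹) * (u * e * u⁻¹) := by group
  rw [h2, h.invert hu huH d hd, h.invert hu huH e he] at h1
  have := congrArg (·⁻¹) h1
  simpa using this.symm

/-- `D` is transitive on the involutions of `T`. -/
theorem EAHyp.two_transitive (h : EAHyp T) (hu : orderOf u = 2) (huH : u ∉ nrm T)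
    {s t : G} (hs : s ∈ T) (hsne : s ≠ 1) (ht : t ∈ T) (htne : t ≠ 1) :
    ∃ d ∈ two T u, d * s * d⁻¹ = t := by
  obtain ⟨w, hw, hws, hwH⟩ := h.exists_swap huH hs hsne ht htne
  refine ⟨u⁻¹ * w, mem_two.2 ⟨hwH, ?_⟩, ?_⟩
  · rw [inv_of_orderOf hu] at hwH ⊢
    have : u * (u * w) * u = (u * w)⁻¹ := by
      rw [mul_inv_rev, inv_of_orderOf hu, inv_of_orderOf hw]
      rw [← mul_assoc u u w, mul_self_of_orderOf hu, one_mul]
    rw [this]; exact inv_mem hwH
  · have := congrArg (fun z => u⁻¹ * z * u) hws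
    simpa [mul_assoc] using this

theorem EAHyp.two_free (h : EAHyp T) (huH : u ∉ nrm T) {d s : G}
    (hd : d ∈ two T u) (hs : s ∈ T) (hsne : s ≠ 1) (hc : d * s * d⁻¹ = s) : d = 1 :=
  h.eq_one_of_commute huH hd (h.orderOf_mem hs hsne) (mul_inv_eq_iff_eq_mul.1 hc)

theorem card_nontriv : Nat.card {t : G // t ∈ T ∧ t ≠ 1} = Nat.card T - 1 := by
  classical
  have e : {t : G // t ∈ T ∧ t ≠ 1} ≃ {t : T // t ≠ 1} :=
    { toFun := fun t => ⟨⟨t.1, t.2.1⟩, fun e => t.2.2 (congrArg Subtype.val e)⟩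
      invFun := fun t => ⟨t.1.1, t.1.2, fun e => t.2 (Subtype.ext e)⟩ }
  have := Fintype.ofFinite T
  rw [Nat.card_congr e, Nat.card_eq_fintype_card, Nat.card_eq_fintype_card,
    Fintype.card_subtype_compl, Fintype.card_subtype_eq]
  first | rfl | exact congrArg (· - 1) (Fintype.card_congr (Equiv.refl _))

theorem EAHyp.card_T_ge (h : EAHyp T) : 4 ≤ Nat.card T := by
  obtain ⟨n, hn⟩ := T.2.exists_card_eq
  have hn : Nat.card T = 2 ^ n := hn
  rcases n with _ | _ | n
  · exact absurd (card_eq_one.1 (by simpa using hn)) h.ne_bot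
  · exact absurd (isCyclic_of_prime_card (p := 2) (by simpa using hn)) h.nc
  · rw [hn]; calc 4 = 2 ^ 2 := rfl
      _ ≤ _ := Nat.pow_le_pow_right (by norm_num) (by omega)

theorem EAHyp.card_two (h : EAHyp T) (hu : orderOf u = 2) (huH : u ∉ nrm T) :
    Nat.card (two T u) = Nat.card T - 1 := by
  obtain ⟨z, hz, hzT, -⟩ := h.exists_central
  have hzne := ne_one_of_orderOf hz
  rw [← card_nontriv]
  refine Nat.card_eq_of_bijective
    (fun d : two T u => (⟨(d : G) * z * (d : G)⁻¹, conj_mem_T (mem_two.1 d.2).1 hzT,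
      fun e => hzne (conj_eq_one_iff.1 e)⟩ : {t : G // t ∈ T ∧ t ≠ 1})) ⟨?_, ?_⟩
  · intro d e hde
    have h1 : (d : G) * z * (d : G)⁻¹ = (e : G) * z * (e : G)⁻¹ := congrArg Subtype.val hde
    have h2 : ((e : G)⁻¹ * d) * z * ((e : G)⁻¹ * d)⁻¹ = z := by
      have := congrArg (fun y => (e : G)⁻¹ * y * e) h1
      simpa [mul_assoc] using this
    exact Subtype.ext (inv_mul_eq_one.1 (h.two_free huH (mul_mem (inv_mem e.2) d.2) hzT hzne h2)).symm
  · intro t
    obtain ⟨d, hd, hdt⟩ := h.two_transitive hu huH hzT hzne t.2.1 t.2.2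
    exact ⟨⟨d, hd⟩, Subtype.ext hdt⟩

theorem EAHyp.exists_two_ne_one (h : EAHyp T) (hu : orderOf u = 2) (huH : u ∉ nrm T) :
    ∃ d ∈ two T u, d ≠ 1 := by
  by_contra hcon
  push Not at hcon
  have : two T u = ⊥ := (eq_bot_iff_forall _).2 hcon
  have h1 := h.card_two hu huH
  rw [this, card_bot] at h1
  have := h.card_T_ge
  omega

/-- Every element of `N(T)` is uniquely a product of an element of `D` and one of `T`. -/
theorem EAHyp.decomp (h : EAHyp T) (hu : orderOf u = 2) (huH : u ∉ nrm T) {x : G}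
    (hx : x ∈ nrm T) : ∃ d ∈ two T u, d⁻¹ * x ∈ T := by
  obtain ⟨z, hz, hzT, -⟩ := h.exists_central
  have hzne := ne_one_of_orderOf hz
  obtain ⟨d, hd, hdt⟩ := h.two_transitive hu huH hzT hzne (conj_mem_T hx hzT)
    (fun e => hzne (conj_eq_one_iff.1 e))
  refine ⟨d, hd, h.mem_of_commute hzT hzne ?_⟩
  have h1 := congrArg (fun y => d⁻¹ * y * x) hdt
  simpa [mul_assoc] using h1.symm

theorem EAHyp.card_nrm (h : EAHyp T) :
    Nat.card (nrm T) = Nat.card T * (Nat.card T - 1) := by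
  obtain ⟨u, hu, huH⟩ := h.exists_invol_notMem
  rw [← h.card_two hu huH, ← Nat.card_prod]
  refine (Nat.card_eq_of_bijective (fun p : T × two T u =>
    (⟨(p.2 : G) * (p.1 : G), mul_mem (mem_two.1 p.2.2).1 (T_le p.1.2)⟩ : nrm T)) ⟨?_, ?_⟩).symm
  · rintro ⟨⟨t, ht⟩, ⟨d, hd⟩⟩ ⟨⟨t', ht'⟩, ⟨d', hd'⟩⟩ heq
    have h1 : d * t = d' * t' := congrArg Subtype.val heq
    have h2 : d'⁻¹ * d = t' * t⁻¹ := by
      rw [eq_mul_inv_iff_mul_eq, mul_assoc, h1, inv_mul_cancel_left]
    have h3 := h.two_inf_T huH (mul_mem (inv_mem hd') hd)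
      (by rw [h2]; exact mul_mem ht' (inv_mem ht))
    obtain rfl := inv_mul_eq_one.1 h3
    obtain rfl := mul_left_cancel h1
    rfl
  · rintro ⟨x, hx⟩
    obtain ⟨d, hd, hdt⟩ := h.decomp hu huH hx
    exact ⟨(⟨_, hdt⟩, ⟨d, hd⟩), Subtype.ext (by simp)⟩

end D

end Cfsg.Agent.Lib.Fusion.EACentralizers
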