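import Mathlib
import Cfsg.Prelude.Def_Involutions
import Cfsg.Agent.Lib.Involutions.StronglyEmbedded
import Cfsg.Agent.Lib.Fusion.EACentralizers

/-!
# Involutions interchanging two cosets of a strongly embedded subgroup
-/

namespace Cfsg.Agent.Lib.Fusion.Swappers

open Subgroup
open Cfsg.Agent.Lib.Involutions.Basic Cfsg.Agent.Lib.Involutions.StronglyEmbedded

variable {G : Type*} [Group G] [Finite G] {H : Subgroup G}

/-- An involution of `H` and one of another conjugate of `H` are interchanged by an involution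
carrying one coset to the other. -/
theorem exists_swap (hH : Cfsg.IsStronglyEmbedded H) {g a b : G} (hg : g ∉ H)
    (ha : orderOf a = 2) (haH : a ∈ H) (hb : orderOf b = 2) (hbH : b ∈ H) :
    ∃ w : G, orderOf w = 2 ∧ w * a * w⁻¹ = g * b * g⁻¹ ∧ g⁻¹ * w ∈ H := by
  have hc : orderOf (g * b * g⁻¹) = 2 := (orderOf_conj_eq g b).trans hb
  have hodd : Odd (orderOf (a * (g * b * g⁻¹))) := by
    by_contra he
    rw [Nat.not_odd_iff_even] at he
    obtain ⟨hz, hza, hzc⟩ := central_invol ha hc he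
    have hzH := centralizer_le hH ha haH (mem_centralizer_singleton_iff.2 hza.eq)
    have hcH := centralizer_le hH hz hzH (mem_centralizer_singleton_iff.2 hzc.eq.symm)
    exact hg (mem_of_conj_mem hH hb hbH hcH)
  obtain ⟨w, hw, hwa⟩ :=
    Cfsg.Agent.Lib.Fusion.EACentralizers.exists_swapping_involution ha hc hodd
  refine ⟨w, hw, hwa, mem_of_conj_mem hH ha haH ?_⟩
  have : g⁻¹ * w * a * (g⁻¹ * w)⁻¹ = g⁻¹ * (w * a * w⁻¹) * g := by group
  rw [this, hwa]
  simpa [mul_assoc] using hbH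

/-- `H ⊓ u H u⁻¹` is transitive on the involutions of `H`. -/
theorem two_transitive (hH : Cfsg.IsStronglyEmbedded H) {u s t : G} (hu : orderOf u = 2)
    (huH : u ∉ H) (hs : orderOf s = 2) (hsH : s ∈ H) (ht : orderOf t = 2) (htH : t ∈ H) :
    ∃ d ∈ H ⊓ H.map (MulAut.conj u).toMonoidHom, d * s * d⁻¹ = t := by
  obtain ⟨w, hw, hws, hwH⟩ := exists_swap hH huH hs hsH ht htH
  refine ⟨u⁻¹ * w, mem_inf.2 ⟨hwH, mem_conj_iff.2 ?_⟩, ?_⟩
  · rw [invol_inv hu] at hwH ⊢
    have : u * (u * w) * u = (u * w)⁻¹ := by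
      rw [mul_inv_rev, invol_inv hu, invol_inv hw, ← mul_assoc u u w, invol_mul_self hu, one_mul]
    rw [this]; exact inv_mem hwH
  · have := congrArg (fun z => u⁻¹ * z * u) hws
    simpa [mul_assoc] using this

/-- Every involution fixes exactly one coset. -/
theorem existsUnique_fixed (hH : Cfsg.IsStronglyEmbedded H) {t : G} (ht : orderOf t = 2) :
    ∃! x : G ⧸ H, t • x = x := by
  obtain ⟨g, hg⟩ := exists_conj_mem hH ht
  refine ⟨((g⁻¹ : G) : G ⧸ H), smul_coset_eq_iff.2 (by simpa using hg), ?_⟩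
  intro x hx
  induction x using QuotientGroup.induction_on with
  | H k =>
    rw [smul_coset_eq_iff] at hx
    rw [QuotientGroup.eq]
    have h1 : orderOf (k⁻¹ * t * k) = 2 := by
      have := orderOf_conj_eq k⁻¹ t
      rw [inv_inv] at this
      exact this.trans ht
    have h2 := mem_of_conj_mem hH (t := k⁻¹ * t * k) (g := g * k) h1 hx (by
      simpa [mul_assoc] using hg)
    simpa [mul_inv_rev] using inv_mem h2

/-- The involutions interchanging `H` and `y`. -/
abbrev Sw (H : Subgroup G) (y : G ⧸ H) : Type _ :=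
  {i : G // orderOf i = 2 ∧ i • ((1 : G) : G ⧸ H) = y}

/-- The involutions of `H`. -/
abbrev Inv (H : Subgroup G) : Type _ := {t : G // orderOf t = 2 ∧ t ∈ H}

omit [Finite G] in
theorem smul_one_coset (i : G) : i • ((1 : G) : G ⧸ H) = (i : G ⧸ H) := by
  rw [MulAction.Quotient.smul_mk, smul_eq_mul, mul_one]

omit [Finite G] in
theorem mk_eq_one_iff {g : G} : (g : G ⧸ H) = ((1 : G) : G ⧸ H) ↔ g ∈ H := by
  rw [QuotientGroup.eq, mul_one, inv_mem_iff]

/-- The map `w ↦ w⁻¹ (g b g⁻¹) w` from swappers to the involutions of `H`. -/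
def swapMap (g b : G) (hb : orderOf b = 2) (hbH : b ∈ H)
    (w : Sw H (g : G ⧸ H)) : Inv H :=
  ⟨(w : G)⁻¹ * (g * b * g⁻¹) * w, by
    have h1 := w.2.2
    rw [smul_one_coset, QuotientGroup.eq] at h1
    refine ⟨?_, ?_⟩
    · have := orderOf_conj_eq ((w : G)⁻¹ * g) b
      simp only [mul_inv_rev, inv_inv] at this
      rw [show (w : G)⁻¹ * (g * b * g⁻¹) * w = (w : G)⁻¹ * g * b * (g⁻¹ * w) by group]
      exact this.trans hb
    · rw [show (w : G)⁻¹ * (g * b * g⁻¹) * w = ((w : G)⁻¹ * g) * b * ((w : G)⁻¹ * g)⁻¹ by group]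
      exact mul_mem (mul_mem h1 hbH) (inv_mem h1)⟩

theorem swapMap_surjective (hH : Cfsg.IsStronglyEmbedded H) {g b : G} (hg : g ∉ H)
    (hb : orderOf b = 2) (hbH : b ∈ H) :
    Function.Surjective (swapMap (H := H) g b hb hbH) := by
  intro t
  obtain ⟨w, hw, hwt, hwH⟩ := exists_swap hH hg t.2.1 t.2.2 hb hbH
  refine ⟨⟨w, hw, ?_⟩, Subtype.ext ?_⟩
  · rw [smul_one_coset, QuotientGroup.eq]
    have := inv_mem hwH
    simpa [mul_inv_rev, invol_inv hw] using this
  · show w⁻¹ * (g * b * g⁻¹) * w = t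
    rw [← hwt]; group

theorem exists_invol_mem (hH : Cfsg.IsStronglyEmbedded H) : ∃ b : G, orderOf b = 2 ∧ b ∈ H := by
  obtain ⟨b, hb⟩ := exists_invol (G := H) hH.2.1
  exact ⟨b, by rw [Subgroup.orderOf_coe]; exact hb, b.2⟩

theorem card_inv_le_card_sw (hH : Cfsg.IsStronglyEmbedded H) {y : G ⧸ H}
    (hy : y ≠ ((1 : G) : G ⧸ H)) : Nat.card (Inv H) ≤ Nat.card (Sw H y) := by
  obtain ⟨b, hb, hbH⟩ := exists_invol_mem hH
  induction y using QuotientGroup.induction_on with
  | H g =>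
    exact Nat.card_le_card_of_surjective _
      (swapMap_surjective hH (fun h => hy (mk_eq_one_iff.2 h)) hb hbH)

/-- The number of involutions is `|G : H|` times the number in `H`. -/
theorem card_invol (hH : Cfsg.IsStronglyEmbedded H) :
    Nat.card {i : G // orderOf i = 2} = Nat.card (G ⧸ H) * Nat.card (Inv H) := by
  rw [← Nat.card_prod]
  refine Nat.card_congr (Equiv.ofBijective (α := (G ⧸ H) × Inv H)
    (β := {i : G // orderOf i = 2})
    (fun p => ⟨p.1.out * (p.2 : G) * (p.1.out)⁻¹, (orderOf_conj_eq _ _).trans p.2.2.1⟩)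
    ⟨?_, ?_⟩).symm
  · rintro ⟨x, t⟩ ⟨x', t'⟩ he
    have he' : x.out * (t : G) * x.out⁻¹ = x'.out * (t' : G) * x'.out⁻¹ := congrArg Subtype.val he
    have hfix : ∀ (x : G ⧸ H) (t : Inv H), (x.out * (t : G) * x.out⁻¹) • x = x := by
      intro x t
      conv_lhs => arg 2; rw [← QuotientGroup.out_eq' x]
      conv_rhs => rw [← QuotientGroup.out_eq' x]
      rw [smul_coset_eq_iff]
      simpa [mul_assoc] using t.2.2
    have hx : x = x' := ExistsUnique.unique
      (existsUnique_fixed hH ((orderOf_conj_eq x.out (t : G)).trans t.2.1))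
      (hfix x t) (by rw [he']; exact hfix x' t')
    subst hx
    simpa [Prod.ext_iff, Subtype.ext_iff] using he'
  · rintro ⟨i, hi⟩
    obtain ⟨x, hx, -⟩ := existsUnique_fixed hH hi
    rw [← QuotientGroup.out_eq' x, smul_coset_eq_iff] at hx
    refine ⟨(x, ⟨x.out⁻¹ * i * x.out, ?_, hx⟩), Subtype.ext (by simp [mul_assoc])⟩
    have := orderOf_conj_eq x.out⁻¹ i
    rw [inv_inv] at this
    exact this.trans hi

/-- Exactly `|I(H)|` involutions interchange `H` and another coset. -/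
theorem card_sw (hH : Cfsg.IsStronglyEmbedded H) {y : G ⧸ H}
    (hy : y ≠ ((1 : G) : G ⧸ H)) : Nat.card (Sw H y) = Nat.card (Inv H) := by
  classical
  have : Fintype (G ⧸ H) := Fintype.ofFinite _
  set o : G ⧸ H := ((1 : G) : G ⧸ H)
  have htot : ∑ z : G ⧸ H, Nat.card (Sw H z) = Nat.card {i : G // orderOf i = 2} := by
    rw [← Nat.card_sigma]
    exact Nat.card_congr
      { toFun := fun p => ⟨p.2.1, p.2.2.1⟩
        invFun := fun i => ⟨i.1 • o, ⟨i.1, i.2, rfl⟩⟩
        left_inv := by rintro ⟨z, i, hi, rfl⟩; rfl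
        right_inv := fun _ => rfl }
  have ho : Nat.card (Sw H o) = Nat.card (Inv H) :=
    Nat.card_congr (Equiv.subtypeEquivRight fun i => by
      show orderOf i = 2 ∧ i • ((1 : G) : G ⧸ H) = ((1 : G) : G ⧸ H) ↔ _
      rw [smul_one_coset, mk_eq_one_iff])
  have hle : ∀ z : G ⧸ H, Nat.card (Inv H) ≤ Nat.card (Sw H z) := by
    intro z
    by_cases hz : z = o
    · subst hz; exact ho.ge
    · exact card_inv_le_card_sw hH hz
  have heq : ∑ z : G ⧸ H, Nat.card (Inv H) = ∑ z : G ⧸ H, Nat.card (Sw H z) := by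
    rw [htot, card_invol hH, Finset.sum_const, Finset.card_univ, smul_eq_mul,
      Nat.card_eq_fintype_card (α := G ⧸ H)]
  exact ((Finset.sum_eq_sum_iff_of_le fun z _ => hle z).1 heq y (Finset.mem_univ y)).symm

/-- Translation of the count to an arbitrary pair of cosets. -/
theorem card_swap_pair (hH : Cfsg.IsStronglyEmbedded H) {x y : G ⧸ H} (hxy : x ≠ y) :
    Nat.card {i : G // orderOf i = 2 ∧ i • x = y} = Nat.card (Inv H) := by
  obtain ⟨g, rfl⟩ : ∃ g : G, g • ((1 : G) : G ⧸ H) = x := MulAction.exists_smul_eq G _ _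
  rw [← card_sw hH (y := g⁻¹ • y) (fun e => hxy (by rw [← e, smul_inv_smul]))]
  exact Nat.card_congr
    { toFun := fun i => ⟨g⁻¹ * i * g, by
        refine ⟨by rw [show g⁻¹ * (i : G) * g = g⁻¹ * (i : G) * g⁻¹⁻¹ by rw [inv_inv]]
                   exact (orderOf_conj_eq _ _).trans i.2.1, ?_⟩
        rw [mul_smul, mul_smul, i.2.2]⟩
      invFun := fun i => ⟨g * i * g⁻¹, (orderOf_conj_eq _ _).trans i.2.1, by
        rw [mul_smul, inv_smul_smul, mul_smul, i.2.2, smul_inv_smul]⟩
      left_inv := fun i => Subtype.ext (by simp [mul_assoc])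
      right_inv := fun i => Subtype.ext (by simp [mul_assoc]) }

/-- The map to the involutions of `H` is a bijection, so an element of a two point stabilizer
inverted by a swapper centralizes no involution of `H`. -/
theorem eq_one_of_inverted_of_commute (hH : Cfsg.IsStronglyEmbedded H) {u j t : G}
    (hu : orderOf u = 2) (huH : u ∉ H) (hj : j ∈ H) (hinv : u * j * u⁻¹ = j⁻¹)
    (ht : orderOf t = 2) (htH : t ∈ H) (hc : j * t = t * j) : j = 1 := by
  have huu := invol_mul_self hu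
  have hinv' : u * j * u = j⁻¹ := by rwa [invol_inv hu] at hinv
  by_contra hj1
  have huj : orderOf (u * j) = 2 := by
    refine orderOf_eq_prime ?_ ?_
    · rw [pow_two, ← mul_assoc, hinv', inv_mul_cancel]
    · intro h
      have : u = j⁻¹ := eq_inv_of_mul_eq_one_left h
      exact huH (this ▸ inv_mem hj)
  have hsurj := swapMap_surjective hH huH ht htH
  have hy : ((u : G) : G ⧸ H) ≠ ((1 : G) : G ⧸ H) := fun e => huH (mk_eq_one_iff.1 e)
  have hbij := hsurj.bijective_of_nat_card_le (card_sw hH hy).le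
  have w1 : u • ((1 : G) : G ⧸ H) = (u : G ⧸ H) := smul_one_coset u
  have w2 : (u * j) • ((1 : G) : G ⧸ H) = (u : G ⧸ H) := by
    rw [smul_one_coset, QuotientGroup.eq]
    simpa [mul_assoc, huu] using inv_mem hj
  have heq : swapMap u t ht htH ⟨u * j, huj, w2⟩ = swapMap u t ht htH ⟨u, hu, w1⟩ := by
    apply Subtype.ext
    show (u * j)⁻¹ * (u * t * u⁻¹) * (u * j) = u⁻¹ * (u * t * u⁻¹) * u
    have e1 : (u * j)⁻¹ * (u * t * u⁻¹) * (u * j) = j⁻¹ * (t * j) := by group
    rw [e1, ← hc, inv_mul_cancel_left]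
    group
  exact hj1 (mul_eq_left.1 (congrArg Subtype.val (hbij.1 heq)))

end Cfsg.Agent.Lib.Fusion.Swappers
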