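import Mathlib
import Cfsg.Agent.Lib.Fusion.Alperin
import Cfsg.Agent.Lib.Transfer.Frobenius

/-!
# Consequences of Alperin's theorem: control of fusion by a Sylow subgroup
-/

namespace Cfsg.Agent.Lib.Fusion.Control

open Subgroup Cfsg.Agent.Lib.Fusion.Alperin

variable {G : Type*} [Group G] [Finite G] {p : ℕ} [hp : Fact p.Prime]

/-- Every element has a power by a power of `p` of order prime to `p`. -/
theorem exists_pow_coprime (g : G) : ∃ k : ℕ, (orderOf (g ^ p ^ k)).Coprime p := by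
  obtain ⟨a, b, hpb, hab⟩ :=
    Nat.exists_eq_pow_mul_and_not_dvd (orderOf_pos g).ne' p hp.out.ne_one
  refine ⟨a, Nat.Coprime.coprime_dvd_left (k := b) (orderOf_dvd_of_pow_eq_one ?_)
    (hp.out.coprime_iff_not_dvd.2 hpb).symm⟩
  rw [← pow_mul, ← hab, pow_orderOf_eq_one]

/-- In a fully normalized subgroup with all `p'`-elements of the normalizer centralizing it,
the normalizer induces only conjugations from the Sylow subgroup. -/
theorem exists_eq_conj (P : Sylow p G) {R : Subgroup G}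
    (hfn : IsFullyNormalized p (P : Subgroup G) R)
    (hodd : ∀ n ∈ normalizer (R : Set G), (orderOf n).Coprime p → ∀ x ∈ R, n * x = x * n)
    {n : G} (hn : n ∈ normalizer (R : Set G)) :
    ∃ s ∈ (P : Subgroup G) ⊓ normalizer (R : Set G), ∀ x ∈ R, n * x * n⁻¹ = s * x * s⁻¹ := by
  classical
  set N := normalizer (R : Set G)
  set C := (centralizer (R : Set G)).subgroupOf N with hC
  have hCn : C.Normal := normal_subgroupOf_centralizer_normalizer _
  set T := ((P : Subgroup G) ⊓ N).subgroupOf N with hT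
  have hTp : IsPGroup p T := (P.2.to_le inf_le_left).comap_subtype
  obtain ⟨Q, hQ⟩ := hTp.exists_le_sylow
  have hQT : (Q : Subgroup N) = T := by
    have h1 := hfn ((Q : Subgroup N).map N.subtype) (Q.2.map _) (map_subtype_le _) (by
      have := map_mono (f := N.subtype) hQ
      rwa [hT, map_subgroupOf_eq_of_le inf_le_right] at this)
    apply map_injective (f := N.subtype) Subtype.val_injective
    rw [h1, hT, map_subgroupOf_eq_of_le inf_le_right]
  have hCp : IsPGroup p (N ⧸ C) := by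
    intro x
    induction x using QuotientGroup.induction_on with
    | H g =>
      obtain ⟨k, hk⟩ := exists_pow_coprime (p := p) g
      refine ⟨k, ?_⟩
      rw [← QuotientGroup.mk_pow, QuotientGroup.eq_one_iff, hC, mem_subgroupOf, mem_centralizer_iff]
      intro x hx
      exact (hodd _ (g ^ p ^ k).2 (by rwa [orderOf_coe]) x hx).symm
  obtain ⟨j, hj⟩ := hCp.exists_card_eq
  have htop : T ⊔ C = ⊤ := by
    rw [← index_eq_one]
    apply Nat.eq_one_of_dvd_coprimes (a := p ^ j) (b := T.index)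
    · refine Nat.Coprime.pow_left _ ?_
      rw [← hQT]
      exact hp.out.coprime_iff_not_dvd.2 Q.not_dvd_index
    · rw [← hj]
      exact index_dvd_of_le le_sup_right
    · exact index_dvd_of_le le_sup_left
  have hmem : (⟨n, hn⟩ : N) ∈ T ⊔ C := by rw [htop]; exact mem_top _
  rw [← SetLike.mem_coe, mul_normal] at hmem
  obtain ⟨s, hs, c, hc, hsc⟩ := hmem
  refine ⟨s, mem_subgroupOf.1 hs, fun x hx => ?_⟩
  have hn' : n = (s : G) * (c : G) := congrArg Subtype.val hsc.symm
  have hcx := mem_centralizer_iff.1 (mem_subgroupOf.1 hc) x hx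
  rw [hn', mul_inv_rev]
  calc (s : G) * c * x * ((c : G)⁻¹ * (s : G)⁻¹) = s * ((c : G) * x) * (c : G)⁻¹ * (s : G)⁻¹ := by group
    _ = s * (x * c) * (c : G)⁻¹ * (s : G)⁻¹ := by rw [hcx]
    _ = _ := by group

/-- `P` controls fusion when all bases have trivial `p'`-automisers. -/
theorem controls (P : Sylow p G)
    (hb : ∀ R, IsFusionBase p (P : Subgroup G) R → ∀ n ∈ normalizer (R : Set G),
      (orderOf n).Coprime p → ∀ x ∈ R, n * x = x * n)
    {A : Subgroup G} {g : G} (hA : A ≤ P) (hgA : conjS g A ≤ P) :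
    ∃ s ∈ (P : Subgroup G), ∀ a ∈ A, g * a * g⁻¹ = s * a * s⁻¹ := by
  have h := alperin P A g hA hgA
  clear hA hgA
  induction h with
  | base hR hAR hn =>
    obtain ⟨s, hs, hsx⟩ := exists_eq_conj P hR.2.1 (hb _ hR) hn
    exact ⟨s, hs.1, fun a ha => hsx a (hAR ha)⟩
  | @comp B g₁ g₂ _ _ ih₁ ih₂ =>
    obtain ⟨s₁, hs₁, h1⟩ := ih₁
    obtain ⟨s₂, hs₂, h2⟩ := ih₂
    refine ⟨s₂ * s₁, mul_mem hs₂ hs₁, fun a ha => ?_⟩
    have := h2 _ (conj_mem_conjS ha)
    rw [h1 a ha] at this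
    calc g₂ * g₁ * a * (g₂ * g₁)⁻¹ = g₂ * (g₁ * a * g₁⁻¹) * g₂⁻¹ := by group
      _ = s₂ * (s₁ * a * s₁⁻¹) * s₂⁻¹ := by rw [h1 a ha, this]
      _ = _ := by group

/-- Trivial `p'`-automisers of the fusion bases give a normal `p`-complement. -/
theorem hasNormalPComplement (P : Sylow p G)
    (hb : ∀ R, IsFusionBase p (P : Subgroup G) R → ∀ n ∈ normalizer (R : Set G),
      (orderOf n).Coprime p → ∀ x ∈ R, n * x = x * n) :
    Cfsg.HasNormalPComplement p G := by
  refine Cfsg.Agent.Lib.Transfer.Frobenius.hasNormalPComplement_of_forall_centralizes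
    fun Q hQ _ g hg hgo => ?_
  obtain ⟨Q', hQ'⟩ := hQ.exists_le_sylow
  obtain ⟨k, hk⟩ := MulAction.exists_smul_eq G Q' P
  have hkQ : conjS k Q ≤ P := by
    rw [← hk]
    intro x hx
    rw [mem_conjS] at hx
    have := Subgroup.smul_mem_pointwise_smul _ (MulAut.conj k) _ (hQ' hx)
    rw [Sylow.coe_subgroup_smul]
    simpa [mul_assoc] using this
  set g' := k * g * k⁻¹ with hg'
  have hg'N : g' ∈ normalizer (conjS k Q : Set G) := mem_normalizer_conjS hg
  have hle : conjS g' (conjS k Q) ≤ P := by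
    rw [conjS_eq_of_mem_normalizer hg'N]; exact hkQ
  obtain ⟨s, hs, hsa⟩ := controls P hb hkQ hle
  obtain ⟨j, hj⟩ := P.2 ⟨s, hs⟩
  have hj' : s ^ p ^ j = 1 := congrArg Subtype.val hj
  have hpow : ∀ i : ℕ, ∀ a ∈ conjS k Q, g' ^ i * a * (g' ^ i)⁻¹ = s ^ i * a * (s ^ i)⁻¹ := by
    intro i
    induction i with
    | zero => intro a _; simp
    | succ i ih =>
      intro a ha
      have hga : g' * a * g'⁻¹ ∈ conjS k Q := (mem_normalizer_iff.1 hg'N a).1 ha
      calc g' ^ (i + 1) * a * (g' ^ (i + 1))⁻¹ = g' ^ i * (g' * a * g'⁻¹) * (g' ^ i)⁻¹ := by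
            rw [pow_succ]; group
        _ = s ^ i * (g' * a * g'⁻¹) * (s ^ i)⁻¹ := ih _ hga
        _ = s ^ i * (s * a * s⁻¹) * (s ^ i)⁻¹ := by rw [hsa a ha]
        _ = _ := by rw [pow_succ]; group
  have hord : orderOf g' = orderOf g := by
    rw [hg']; simpa using MulEquiv.orderOf_eq (MulAut.conj k) g
  obtain ⟨i, hi⟩ := exists_pow_eq_self_of_coprime (n := p ^ j) (x := g')
    (by rw [hord]; exact (Nat.Coprime.pow_left _ hgo.symm))
  rw [mem_centralizer_iff]
  intro q hq
  have hga := hpow (p ^ j * i) _ (conj_mem_conjS (g := k) hq)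
  rw [pow_mul, hi, pow_mul, hj', one_pow, one_mul, inv_one, mul_one] at hga
  have h2 := congrArg (fun z => k⁻¹ * z * k) hga
  simp only [hg'] at h2
  have h3 : g * q * g⁻¹ = q := by simpa [mul_assoc] using h2
  exact (mul_inv_eq_iff_eq_mul.1 h3).symm

omit hp in
/-- An odd element normalizing a cyclic 2-group centralizes it. -/
theorem commute_of_normalizes_cyclic {w n : G} {k : ℕ} (hw : orderOf w = 2 ^ k)
    (hn : Odd (orderOf n)) (hnw : n * w * n⁻¹ ∈ zpowers w) : n * w = w * n := by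
  obtain ⟨a, ha⟩ := mem_zpowers_iff.1 hnw
  have hiter : ∀ i : ℕ, n ^ i * w * (n ^ i)⁻¹ = w ^ (a ^ i) := by
    intro i
    induction i with
    | zero => simp
    | succ i ih =>
      calc n ^ (i + 1) * w * (n ^ (i + 1))⁻¹ = n ^ i * (n * w * n⁻¹) * (n ^ i)⁻¹ := by
            rw [pow_succ]; group
        _ = n ^ i * w ^ a * (n ^ i)⁻¹ := by rw [ha]
        _ = (n ^ i * w * (n ^ i)⁻¹) ^ a := conj_zpow.symm
        _ = _ := by rw [ih, ← _root_.zpow_mul, pow_succ]
  have h1 : w ^ (a ^ orderOf n) = w ^ (1 : ℤ) := by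
    rw [← hiter, pow_orderOf_eq_one, zpow_one]; simp
  rw [← orderOf_dvd_sub_iff_zpow_eq_zpow, hw, ← ZMod.intCast_zmod_eq_zero_iff_dvd,
    Int.cast_sub, sub_eq_zero, Int.cast_pow, Int.cast_one] at h1
  have : NeZero (2 ^ k) := ⟨by positivity⟩
  let u : (ZMod (2 ^ k))ˣ := Units.ofPowEqOne _ _ h1 (orderOf_pos n).ne'
  have hu : u = 1 := by
    rw [← orderOf_eq_one_iff]
    refine Nat.eq_one_of_dvd_coprimes (a := orderOf n) (b := 2 ^ k) (Nat.Coprime.pow_right _ hn.coprime_two_right)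
      (orderOf_dvd_of_pow_eq_one (Units.ext (by simpa [u] using h1))) ?_
    refine (orderOf_dvd_natCard u).trans ?_
    rw [Nat.card_eq_fintype_card, ZMod.card_units_eq_totient]
    rcases k with _ | k
    · simp
    · rw [Nat.totient_prime_pow Nat.prime_two (by omega)]
      simp [pow_succ]
  have ha1 : w ^ a = w ^ (1 : ℤ) := by
    rw [← orderOf_dvd_sub_iff_zpow_eq_zpow, hw, ← ZMod.intCast_zmod_eq_zero_iff_dvd,
      Int.cast_sub, sub_eq_zero, Int.cast_one]
    exact congrArg Units.val hu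
  rw [zpow_one] at ha1
  exact mul_inv_eq_iff_eq_mul.1 (ha.symm.trans ha1)

end Cfsg.Agent.Lib.Fusion.Control
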