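import Mathlib
import Cfsg.Agent.Lib.Fusion.Control
import Cfsg.Agent.Lib.Fusion.Thompson
import Cfsg.Agent.Lib.TwoGroups.Recognition

/-!
# Fusion in groups with dihedral Sylow 2-subgroups
-/

namespace Cfsg.Agent.Lib.Fusion.Dihedral

open Subgroup DihedralGroup Cfsg.Agent.Lib.Fusion.Alperin

variable {X : Type*} [Group X]

/-- A dihedral Sylow 2-subgroup, given by coordinates. -/
structure Coords (S : Sylow 2 X) (m : ℕ) where
  /-- the coordinate map -/
  φ : DihedralGroup m →* X
  inj : Function.Injective φ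
  range_eq : φ.range = (S : Subgroup X)

/-- Coordinates from an isomorphism. -/
def Coords.ofEquiv {S : Sylow 2 X} {m : ℕ} (e : (S : Subgroup X) ≃* DihedralGroup m) : Coords S m where
  φ := (S : Subgroup X).subtype.comp e.symm.toMonoidHom
  inj := fun a b h => e.symm.injective (Subtype.ext h)
  range_eq := by
    rw [MonoidHom.range_comp, MonoidHom.range_eq_top.2 e.symm.surjective]
    rw [← MonoidHom.range_eq_map, range_subtype]

/-- A four-group condition. -/
def IsFour (R : Subgroup X) : Prop := Nat.card R = 4 ∧ ∀ x ∈ R, x * x = 1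

theorem isFour_iff {R : Subgroup X} : IsFour R ↔ IsKleinFour R :=
  ⟨fun h => Cfsg.Agent.Lib.TwoGroups.Recognition.isKleinFour_of_card h.1 h.2,
    fun h => ⟨h.card_four, fun _ hx =>
      Cfsg.Agent.Lib.TwoGroups.Recognition.sq_of_mem_kleinFour h hx⟩⟩

theorem IsFour.comm {R : Subgroup X} (h : IsFour R) {a b : X} (ha : a ∈ R) (hb : b ∈ R) :
    a * b = b * a := by
  have h1 := h.2 _ (mul_mem ha hb)
  calc a * b = (a * b)⁻¹ := (inv_eq_of_mul_eq_one_right h1).symm
    _ = b⁻¹ * a⁻¹ := _root_.mul_inv_rev a b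
    _ = b * a := by
      rw [inv_eq_of_mul_eq_one_right (h.2 a ha), inv_eq_of_mul_eq_one_right (h.2 b hb)]

theorem IsFour.map {R : Subgroup X} (h : IsFour R) (g : X) : IsFour (conjS g R) := by
  refine ⟨(card_conjS g R).trans h.1, fun x hx => ?_⟩
  have h1 := h.2 _ (mem_conjS.1 hx)
  have h2 := congrArg (fun z => g * z * g⁻¹) h1
  simpa [mul_assoc] using h2

theorem IsFour.isPGroup {R : Subgroup X} (h : IsFour R) : IsPGroup 2 R :=
  IsPGroup.of_card (n := 2) h.1

variable {S : Sylow 2 X} {m : ℕ} (D : Coords S m)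

theorem Coords.mem (g : DihedralGroup m) : D.φ g ∈ (S : Subgroup X) :=
  D.range_eq ▸ ⟨g, rfl⟩

theorem Coords.exists_eq {x : X} (hx : x ∈ (S : Subgroup X)) : ∃ g, D.φ g = x := by
  rw [← D.range_eq] at hx
  exact hx

include D in
theorem Coords.card : Nat.card (S : Subgroup X) = 2 * m := by
  rw [← D.range_eq, ← Nat.card_congr (MonoidHom.ofInjective D.inj).toEquiv, DihedralGroup.nat_card]

theorem Coords.cases {x : X} (hx : x ∈ (S : Subgroup X)) :
    (∃ i, D.φ (r i) = x) ∨ ∃ i, D.φ (sr i) = x := by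
  obtain ⟨g, rfl⟩ := D.exists_eq hx
  cases g with
  | r i => exact Or.inl ⟨i, rfl⟩
  | sr i => exact Or.inr ⟨i, rfl⟩

theorem Coords.sr_sq (i : ZMod m) : D.φ (sr i) * D.φ (sr i) = 1 := by
  rw [← map_mul, sr_mul_sr, sub_self, ← one_def, map_one]

/-- The rotations. -/
def Coords.rot : Subgroup X := zpowers (D.φ (r 1))

theorem Coords.r_mem_rot (i : ZMod m) : D.φ (r i) ∈ D.rot := by
  obtain ⟨k, rfl⟩ := ZMod.intCast_surjective i
  refine ⟨k, ?_⟩
  show D.φ (r 1) ^ k = _
  rw [← map_zpow, r_one_zpow]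

theorem Coords.rot_le : D.rot ≤ (S : Subgroup X) := zpowers_le.2 (D.mem _)

theorem Coords.sr_notMem_rot (i : ZMod m) : D.φ (sr i) ∉ D.rot := by
  rintro ⟨k, hk⟩
  have hk' : D.φ (r 1) ^ k = D.φ (sr i) := hk
  rw [← map_zpow, r_one_zpow] at hk'
  exact absurd (D.inj hk') (by simp)

theorem Coords.sq_of_notMem_rot {x : X} (hx : x ∈ (S : Subgroup X)) (hr : x ∉ D.rot) : x * x = 1 := by
  rcases D.cases hx with ⟨i, rfl⟩ | ⟨i, rfl⟩
  · exact absurd (D.r_mem_rot i) hr
  · exact D.sr_sq i

theorem Coords.mul_mem_rot {x y : X} (hx : x ∈ (S : Subgroup X)) (hy : y ∈ (S : Subgroup X))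
    (hxr : x ∉ D.rot) (hyr : y ∉ D.rot) : x * y ∈ D.rot := by
  rcases D.cases hx with ⟨i, rfl⟩ | ⟨i, rfl⟩
  · exact absurd (D.r_mem_rot i) hxr
  rcases D.cases hy with ⟨j, rfl⟩ | ⟨j, rfl⟩
  · exact absurd (D.r_mem_rot j) hyr
  rw [← map_mul, sr_mul_sr]
  exact D.r_mem_rot _

variable [Finite X]

include D in
theorem Coords.exists_pow (hm : 2 ≤ m) : ∃ k : ℕ, m = 2 ^ (k + 1) := by
  have : Fact (Nat.Prime 2) := ⟨Nat.prime_two⟩
  obtain ⟨j, hj⟩ := S.2.exists_card_eq
  have h1 := D.card
  have hj' : Nat.card (S : Subgroup X) = 2 ^ j := hj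
  rw [hj'] at h1
  rcases j with _ | _ | j
  · simp at h1; omega
  · simp at h1; omega
  · exact ⟨j, by rw [pow_succ] at h1; omega⟩

include D in
/-- An odd element normalizing a subgroup of `S` that is not a four-group centralizes it. -/
theorem Coords.odd_centralizes {R : Subgroup X} (hR : R ≤ S) (hfour : ¬ IsFour R) {n : X}
    (hn : n ∈ normalizer (R : Set X)) (hodd : Odd (orderOf n)) : ∀ x ∈ R, n * x = x * n := by
  have : Fact (Nat.Prime 2) := ⟨Nat.prime_two⟩
  set C := R ⊓ D.rot with hC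
  have hcyc : IsCyclic C := by
    have : IsCyclic D.rot := by unfold Coords.rot; infer_instance
    exact isCyclic_of_injective (inclusion (inf_le_right : C ≤ D.rot)) (inclusion_injective _)
  obtain ⟨c, hc⟩ := hcyc.exists_generator
  have hgen : ∀ x ∈ C, x ∈ zpowers (c : X) := by
    intro x hx
    obtain ⟨k, hk⟩ := mem_zpowers_iff.1 (hc ⟨x, hx⟩)
    exact ⟨k, by simpa using congrArg Subtype.val hk⟩
  obtain ⟨k, hk⟩ : ∃ k, orderOf (c : X) = 2 ^ k := by
    have h2 : orderOf (c : X) ∣ Nat.card (S : Subgroup X) :=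
      orderOf_dvd_natCard _ (hR c.2.1)
    obtain ⟨j, hj⟩ := S.2.exists_card_eq
    rw [show Nat.card (S : Subgroup X) = 2 ^ j from hj] at h2
    obtain ⟨i, -, hi⟩ := (Nat.dvd_prime_pow Nat.prime_two).1 h2
    exact ⟨i, hi⟩
  have hconjR : ∀ x ∈ R, n * x * n⁻¹ ∈ R := fun x hx => (mem_normalizer_iff.1 hn x).1 hx
  have hnc : n * (c : X) = c * n := by
    by_cases hrot : n * (c : X) * n⁻¹ ∈ D.rot
    · exact Control.commute_of_normalizes_cyclic hk hodd (hgen _ ⟨hconjR _ c.2.1, hrot⟩)
    · exfalso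
      have hy := hconjR _ c.2.1
      have hsq := D.sq_of_notMem_rot (hR hy) hrot
      have hcsq : (c : X) * c = 1 := by
        have := congrArg (fun z => n⁻¹ * z * n) hsq
        simpa [mul_assoc] using this
      have hcne : (c : X) ≠ 1 := fun e => hrot (by rw [e]; simp)
      have hCmem : ∀ x ∈ C, x = 1 ∨ x = (c : X) := by
        intro x hx
        obtain ⟨j, rfl⟩ := mem_zpowers_iff.1 (hgen x hx)
        rcases Int.even_or_odd j with ⟨l, rfl⟩ | ⟨l, rfl⟩
        · left
          rw [zpow_add, ← (Commute.refl (c : X)).mul_zpow, hcsq, _root_.one_zpow]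
        · right
          rw [zpow_add, two_mul, zpow_add, ← (Commute.refl (c : X)).mul_zpow, hcsq, _root_.one_zpow, one_mul,
            zpow_one]
      set y := n * (c : X) * n⁻¹ with hy'
      have hyc : y * c = c * y := by
        have h1 : (y * c) * (y * c) = 1 := by
          by_cases hcr : y * (c : X) ∈ D.rot
          · rcases hCmem _ ⟨mul_mem hy c.2.1, hcr⟩ with h | h
            · rw [h, one_mul]
            · rw [h, hcsq]
          · exact D.sq_of_notMem_rot (hR (mul_mem hy c.2.1)) hcr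
        calc y * (c : X) = (y * c)⁻¹ := (inv_eq_of_mul_eq_one_right h1).symm
          _ = (c : X)⁻¹ * y⁻¹ := _root_.mul_inv_rev y (c : X)
          _ = c * y := by rw [inv_eq_of_mul_eq_one_right hcsq, inv_eq_of_mul_eq_one_right hsq]
      apply hfour
      have hRmem : ∀ x ∈ R, x = 1 ∨ x = (c : X) ∨ x = y ∨ x = y * c := by
        intro x hx
        by_cases hxr : x ∈ D.rot
        · rcases hCmem x ⟨hx, hxr⟩ with h | h <;> simp [h]
        · have hxy := hCmem (y * x) ⟨mul_mem hy hx, D.mul_mem_rot (hR hy) (hR hx) hrot hxr⟩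
          have hxe : x = y * (y * x) := by rw [← mul_assoc, hsq, one_mul]
          rcases hxy with h | h <;> rw [h] at hxe
          · simp [hxe]
          · exact Or.inr (Or.inr (Or.inr hxe))
      refine ⟨?_, ?_⟩
      · have hne : y ≠ c := fun e => hrot (e ▸ c.2.2)
        have hyne : y ≠ 1 := fun e => hrot (e ▸ one_mem _)
        have hycne : y * (c : X) ≠ 1 := fun e => hne (by
          have := eq_inv_of_mul_eq_one_left e
          rwa [inv_eq_of_mul_eq_one_right hcsq] at this)
        have hset : (R : Set X) = {1, (c : X), y, y * c} := by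
          ext x
          refine ⟨fun hx => by simpa using hRmem x hx, ?_⟩
          simp only [Set.mem_insert_iff, Set.mem_singleton_iff, SetLike.mem_coe]
          rintro (rfl | rfl | rfl | rfl)
          exacts [one_mem _, c.2.1, hy, mul_mem hy c.2.1]
        have h4 : Nat.card (R : Set X) = 4 := by
          rw [hset, Nat.card_coe_set_eq,
            Set.ncard_insert_of_notMem (by simp [hcne.symm, hyne.symm, hycne.symm]),
            Set.ncard_insert_of_notMem (by
              simp only [Set.mem_insert_iff, Set.mem_singleton_iff, not_or]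
              exact ⟨hne.symm, fun e => hyne (by simpa using e)⟩),
            Set.ncard_pair (fun e => hcne (by simpa using e))]
        exact h4
      · intro x hx
        rcases hRmem x hx with rfl | rfl | rfl | rfl
        · simp
        · exact hcsq
        · exact hsq
        · calc y * c * (y * c) = y * (c * y) * c := by group
            _ = (y * y) * (c * c) := by rw [← hyc]; group
            _ = 1 := by rw [hsq, hcsq, one_mul]
  have hncC : ∀ x ∈ C, n * x = x * n := by
    intro x hx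
    obtain ⟨j, rfl⟩ := mem_zpowers_iff.1 (hgen x hx)
    exact (Commute.zpow_right (show Commute n (c : X) from hnc) j).eq
  intro x hx
  by_cases hxr : x ∈ D.rot
  · exact hncC x ⟨hx, hxr⟩
  set y := n * x * n⁻¹ with hy
  have hyR := hconjR x hx
  have hyr : y ∉ D.rot := by
    intro h
    have h1 := hncC y ⟨hyR, h⟩
    rw [hy] at h1
    have h2 : n * x * n⁻¹ = x := by
      have := congrArg (fun z => n⁻¹ * z) h1
      simpa [mul_assoc] using this
    exact hxr (h2 ▸ h)
  set d := x * y with hd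
  have hyd : x * d = y := by
    rw [hd, ← mul_assoc, D.sq_of_notMem_rot (hR hx) hxr, one_mul]
  have hdC : d ∈ C := ⟨mul_mem hx hyR, D.mul_mem_rot (hR hx) (hR hyR) hxr hyr⟩
  have hxx := D.sq_of_notMem_rot (hR hx) hxr
  have hiter : ∀ i : ℕ, n ^ i * x * (n ^ i)⁻¹ = x * d ^ i := by
    intro i
    induction i with
    | zero => simp
    | succ i ih =>
      have hnd : n * d ^ i = d ^ i * n := (Commute.pow_right (show Commute n d from hncC d hdC) i).eq
      calc n ^ (i + 1) * x * (n ^ (i + 1))⁻¹ = n * (n ^ i * x * (n ^ i)⁻¹) * n⁻¹ := by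
            rw [pow_succ']; group
        _ = n * x * d ^ i * n⁻¹ := by rw [ih]; group
        _ = n * x * n⁻¹ * (n * d ^ i * n⁻¹) := by group
        _ = y * d ^ i := by rw [hnd, mul_inv_cancel_right]
        _ = x * d ^ (i + 1) := by
          rw [pow_succ', ← mul_assoc x, hyd]
  have hdpow : d ^ orderOf n = 1 := by
    have := hiter (orderOf n)
    rw [pow_orderOf_eq_one, one_mul, inv_one, mul_one] at this
    exact mul_eq_left.1 this.symm
  have hd1 : d = 1 := by
    obtain ⟨j, hj⟩ := S.2.exists_card_eq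
    have hdS : orderOf d ∣ 2 ^ j := by
      rw [← show Nat.card (S : Subgroup X) = 2 ^ j from hj]
      exact orderOf_dvd_natCard _ (hR hdC.1)
    exact orderOf_eq_one_iff.1 (Nat.eq_one_of_dvd_coprimes
      ((Nat.coprime_two_right.2 hodd).pow_right j) (orderOf_dvd_of_pow_eq_one hdpow) hdS)
  have : y = x := by
    have h1 : x * y = x * x := by rw [hxx]; exact hd1
    exact mul_left_cancel h1
  exact mul_inv_eq_iff_eq_mul.1 this

omit [Finite X] in
/-- The parity of the index of a reflection. -/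
noncomputable def par (hm2 : 2 ∣ m) : ZMod m →+* ZMod 2 := ZMod.castHom hm2 (ZMod 2)

omit [Finite X] in
theorem double_eq_zero [NeZero m] {j : ZMod m} (h : j + j = 0) :
    j = 0 ∨ j = ((m / 2 : ℕ) : ZMod m) := by
  have h1 : ((j.val + j.val : ℕ) : ZMod m) = 0 := by simp [h]
  rw [ZMod.natCast_eq_zero_iff] at h1
  obtain ⟨c, hc⟩ := h1
  have := ZMod.val_lt j
  rcases c with _ | _ | c
  · left
    rw [← ZMod.natCast_zmod_val j, show j.val = 0 by omega, Nat.cast_zero]
  · right
    rw [← ZMod.natCast_zmod_val j, show j.val = m / 2 by omega]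
  · nlinarith

omit [Finite X] in
theorem half_add_half (hm4 : 4 ∣ m) :
    ((m / 2 : ℕ) : ZMod m) + ((m / 2 : ℕ) : ZMod m) = 0 := by
  rw [← Nat.cast_add, show m / 2 + m / 2 = m by omega, ZMod.natCast_self]

omit [Finite X] in
theorem par_half (hm4 : 4 ∣ m) : par (dvd_trans (by norm_num) hm4) ((m / 2 : ℕ) : ZMod m) = 0 := by
  rw [map_natCast, ZMod.natCast_eq_zero_iff]
  omega

omit [Finite X] in
theorem half_ne_zero (hm : 2 ≤ m) : ((m / 2 : ℕ) : ZMod m) ≠ 0 := by
  rw [Ne, ZMod.natCast_eq_zero_iff]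
  exact fun h => absurd (Nat.le_of_dvd (by omega) h) (by omega)

omit [Finite X] in
theorem par_surjective_two (hm2 : 2 ∣ m) [NeZero m] {i j : ZMod m} (h : par hm2 i = par hm2 j) :
    ∃ l : ZMod m, i = j + (l + l) := by
  have h1 : par hm2 (i - j) = 0 := by rw [map_sub, h, sub_self]
  rw [← ZMod.natCast_zmod_val (i - j), map_natCast, ZMod.natCast_eq_zero_iff] at h1
  obtain ⟨c, hc⟩ := h1
  refine ⟨(c : ZMod m), ?_⟩
  rw [← Nat.cast_add, show c + c = (i - j).val by omega, ZMod.natCast_zmod_val]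
  abel

/-- The four elements of the four-group of `S` through the reflection `i`. -/
def Coords.fourSet (i : ZMod m) : Set X :=
  {1, D.φ (r ((m / 2 : ℕ) : ZMod m)), D.φ (sr i), D.φ (sr (i + ((m / 2 : ℕ) : ZMod m)))}

theorem Coords.ncard_fourSet (hm : 2 ≤ m) (i : ZMod m) : (D.fourSet i).ncard = 4 := by
  have h := half_ne_zero hm
  have e : ∀ a b, a ≠ b → D.φ a ≠ D.φ b := fun a b hab h => hab (D.inj h)
  rw [Coords.fourSet, Set.ncard_insert_of_notMem ?_, Set.ncard_insert_of_notMem ?_,
    Set.ncard_pair (e _ _ (by simp [h]))]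
  · simp only [Set.mem_insert_iff, Set.mem_singleton_iff, not_or]
    exact ⟨e _ _ (by simp), e _ _ (by simp)⟩
  · simp only [Set.mem_insert_iff, Set.mem_singleton_iff, not_or]
    rw [← map_one D.φ]
    exact ⟨e _ _ (by rw [one_def]; simpa [-r_zero] using h.symm), e _ _ (by rw [one_def]; simp [-r_zero]),
      e _ _ (by rw [one_def]; simp [-r_zero])⟩

theorem Coords.four_contains_sr (hm : 2 ≤ m) {R : Subgroup X} (hR : R ≤ S) (hf : IsFour R) :
    ∃ i, D.φ (sr i) ∈ R := by
  have : NeZero m := ⟨by omega⟩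
  by_contra hcon
  push Not at hcon
  have hsub : (R : Set X) ⊆ {1, D.φ (r ((m / 2 : ℕ) : ZMod m))} := by
    intro x hx
    rcases D.cases (hR hx) with ⟨j, rfl⟩ | ⟨j, rfl⟩
    · have h1 := hf.2 _ hx
      rw [← map_mul, r_mul_r, ← map_one D.φ, one_def] at h1
      rcases double_eq_zero (r.inj (D.inj h1)) with h | h <;> rw [h]
      · simp [← one_def]
      · simp
    · exact absurd hx (hcon j)
  have h2 := Set.ncard_le_ncard hsub (Set.toFinite _)
  have h3 := Set.ncard_insert_le (1 : X) {D.φ (r ((m / 2 : ℕ) : ZMod m))}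
  have h4 : (R : Set X).ncard = 4 := by rw [← Nat.card_coe_set_eq]; exact hf.1
  rw [Set.ncard_singleton] at h3
  omega

theorem Coords.four_eq (hm : 2 ≤ m) {R : Subgroup X} (hR : R ≤ S) (hf : IsFour R) {i : ZMod m}
    (hi : D.φ (sr i) ∈ R) : (R : Set X) = D.fourSet i := by
  have : NeZero m := ⟨by omega⟩
  refine Set.eq_of_subset_of_ncard_le (fun x hx => ?_) ?_ (Set.toFinite _)
  · have h1 := hf.comm hi hx
    rcases D.cases (hR hx) with ⟨j, rfl⟩ | ⟨j, rfl⟩
    · rw [← map_mul, ← map_mul, sr_mul_r, r_mul_sr] at h1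
      rcases double_eq_zero (j := j) (by
        calc j + j = (i + j) - (i - j) := by abel
          _ = 0 := by rw [sr.inj (D.inj h1), sub_self]) with h | h <;> rw [h]
      · simp [Coords.fourSet, ← one_def]
      · simp [Coords.fourSet]
    · rw [← map_mul, ← map_mul, sr_mul_sr, sr_mul_sr] at h1
      rcases double_eq_zero (j := j - i) (by
        calc j - i + (j - i) = (j - i) - (i - j) := by abel
          _ = 0 := by rw [r.inj (D.inj h1), sub_self]) with h | h
      · rw [sub_eq_zero.1 h]; simp [Coords.fourSet]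
      · rw [show j = i + ((m / 2 : ℕ) : ZMod m) by rw [← h]; abel]; simp [Coords.fourSet]
  · rw [D.ncard_fourSet hm, ← Nat.card_coe_set_eq]
    exact hf.1.ge

theorem Coords.eq_of_common (hm : 2 ≤ m) {R R' : Subgroup X} (hR : R ≤ S) (hf : IsFour R)
    (hR' : R' ≤ S) (hf' : IsFour R') {i : ZMod m} (hi : D.φ (sr i) ∈ R) (hi' : D.φ (sr i) ∈ R') :
    R = R' :=
  SetLike.coe_injective ((D.four_eq hm hR hf hi).trans (D.four_eq hm hR' hf' hi').symm)

theorem Coords.exists_four (hm : 2 ≤ m) (hm4 : 4 ∣ m) (i : ZMod m) :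
    ∃ R : Subgroup X, R ≤ S ∧ IsFour R ∧ D.φ (sr i) ∈ R := by
  set h := ((m / 2 : ℕ) : ZMod m) with hh
  have hh2 : h + h = 0 := half_add_half hm4
  have hneg : -h = h := neg_eq_of_add_eq_zero_left hh2
  let K : Subgroup (DihedralGroup m) :=
    { carrier := {r 0, r h, sr i, sr (i + h)}
      one_mem' := Or.inl one_def
      mul_mem' := by
        rintro a b (rfl | rfl | rfl | rfl) (rfl | rfl | rfl | rfl) <;>
          simp [hh2, hneg, add_assoc, sub_eq_add_neg]
      inv_mem' := by
        rintro a (rfl | rfl | rfl | rfl) <;> simp [hneg] }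
  have hset : ((K.map D.φ : Subgroup X) : Set X) = D.fourSet i := by
    rw [Subgroup.coe_map]
    show D.φ '' {r 0, r h, sr i, sr (i + h)} = _
    simp only [Set.image_insert_eq, Set.image_singleton, ← one_def, map_one]
    rfl
  refine ⟨K.map D.φ, ?_, ⟨?_, ?_⟩, ⟨sr i, by simp [K], rfl⟩⟩
  · rintro _ ⟨g, -, rfl⟩; exact D.mem g
  · rw [← SetLike.coe_sort_coe, Nat.card_coe_set_eq, hset, D.ncard_fourSet hm]
  · rintro _ ⟨g, (rfl | rfl | rfl | rfl), rfl⟩
    · simp [← one_def]
    · rw [← map_mul, r_mul_r, hh2, ← one_def, map_one]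
    · exact D.sr_sq i
    · exact D.sr_sq _

omit [Finite X] in
theorem Coords.conj_sr (i j : ZMod m) :
    D.φ (r j) * D.φ (sr i) * (D.φ (r j))⁻¹ = D.φ (sr (i - (j + j))) := by
  rw [← map_inv, ← map_mul, ← map_mul, inv_r, r_mul_sr, sr_mul_r]
  congr 2
  abel

/-- Parity of reflections is preserved by conjugation in `S`. -/
theorem Coords.par_conj (hm2 : 2 ∣ m) {s : X} (hs : s ∈ (S : Subgroup X)) {i j : ZMod m}
    (h : s * D.φ (sr i) * s⁻¹ = D.φ (sr j)) : par hm2 j = par hm2 i := by
  obtain ⟨g, rfl⟩ := D.exists_eq hs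
  rw [← map_inv, ← map_mul, ← map_mul] at h
  have h' := D.inj h
  cases g with
  | r l =>
    rw [inv_r, r_mul_sr, sr_mul_r] at h'
    rw [← sr.inj h']
    simp [map_sub, map_add]
  | sr l =>
    rw [inv_sr, sr_mul_sr, r_mul_sr] at h'
    rw [← sr.inj h', map_sub, map_sub]
    revert hm2
    intro hm2
    generalize par hm2 l = a
    generalize par hm2 i = b
    revert a b
    decide

/-- Four-groups of `S` with reflections of equal parity are conjugate in `S`. -/
theorem Coords.four_conj (hm : 2 ≤ m) (hm2 : 2 ∣ m) {R R' : Subgroup X} (hR : R ≤ S) (hf : IsFour R)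
    (hR' : R' ≤ S) (hf' : IsFour R') {i j : ZMod m} (hi : D.φ (sr i) ∈ R) (hj : D.φ (sr j) ∈ R')
    (hp : par hm2 i = par hm2 j) : ∃ s ∈ (S : Subgroup X), conjS s R = R' := by
  have : NeZero m := ⟨by omega⟩
  obtain ⟨l, rfl⟩ := par_surjective_two hm2 hp
  refine ⟨_, D.mem (r l), D.eq_of_common hm ?_ (hf.map _) hR' hf' (i := j) ?_ hj⟩
  · intro x hx
    rw [mem_conjS] at hx
    have := mul_mem (mul_mem (D.mem (r l)) (hR hx)) (inv_mem (D.mem (r l)))
    simpa [mul_assoc] using this
  · have := conj_mem_conjS (g := D.φ (r l)) hi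
    rwa [D.conj_sr, show j + (l + l) - (l + l) = j by abel] at this

/-- A four-group is normalized by an element of `S` moving its reflections. -/
theorem Coords.exists_swap (hm : 2 ≤ m) (hm4 : 4 ∣ m) {R : Subgroup X} (hR : R ≤ S) (hf : IsFour R)
    {i : ZMod m} (hi : D.φ (sr i) ∈ R) :
    ∃ s ∈ (S : Subgroup X), s ∈ normalizer (R : Set X) ∧
      s * D.φ (sr i) * s⁻¹ = D.φ (sr (i + ((m / 2 : ℕ) : ZMod m))) := by
  set h := ((m / 2 : ℕ) : ZMod m) with hh
  set l := ((m / 4 : ℕ) : ZMod m)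
  have hl : l + l = h := by rw [← Nat.cast_add, hh]; congr 1; omega
  have hneg : i - (l + l) = i + h := by
    rw [hl, sub_eq_add_neg, neg_eq_of_add_eq_zero_left (half_add_half hm4)]
  have he : D.φ (r l) * D.φ (sr i) * (D.φ (r l))⁻¹ = D.φ (sr (i + h)) := by rw [D.conj_sr, hneg]
  refine ⟨D.φ (r l), D.mem _, mem_normalizer_of_conjS_eq
    (D.eq_of_common hm ?_ (hf.map _) hR hf (i := i + h) ?_ ?_), he⟩
  · intro x hx
    rw [mem_conjS] at hx
    have := mul_mem (mul_mem (D.mem (r l)) (hR hx)) (inv_mem (D.mem (r l)))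
    simpa [mul_assoc] using this
  · rw [← he]; exact conj_mem_conjS hi
  · show D.φ (sr (i + h)) ∈ (R : Set X)
    rw [D.four_eq hm hR hf hi]; simp [Coords.fourSet, ← hh]

section Automiser

variable {U : Subgroup X}

/-- The permutation of the nontrivial elements of `U` induced by its normalizer. -/
def autPerm (U : Subgroup X) :
    normalizer (U : Set X) →* Equiv.Perm {x : X // x ∈ U ∧ x ≠ 1} where
  toFun n :=
    { toFun := fun x => ⟨n * x * (n : X)⁻¹, (mem_normalizer_iff.1 n.2 x).1 x.2.1,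
        fun e => x.2.2 (conj_eq_one_iff.1 e)⟩
      invFun := fun x => ⟨(n : X)⁻¹ * x * n, by
          have := (mem_normalizer_iff.1 (inv_mem n.2) x).1 x.2.1
          simpa using this,
        fun e => x.2.2 (by
          have := congrArg (fun z => (n : X) * z * (n : X)⁻¹) e
          simpa [mul_assoc] using this)⟩
      left_inv := fun x => Subtype.ext (by simp [mul_assoc])
      right_inv := fun x => Subtype.ext (by simp [mul_assoc]) }
  map_one' := by ext x; simp
  map_mul' a b := by ext x; simp [mul_assoc]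

omit [Finite X] in
theorem ker_autPerm :
    (autPerm U).ker = (centralizer (U : Set X)).subgroupOf (normalizer (U : Set X)) := by
  ext n
  rw [MonoidHom.mem_ker, mem_subgroupOf, mem_centralizer_iff]
  constructor
  · intro h x hx
    by_cases hx1 : x = 1
    · simp [hx1]
    have := congrArg (fun σ : Equiv.Perm _ => (σ ⟨x, hx, hx1⟩ : {x : X // x ∈ U ∧ x ≠ 1}).1) h
    simp [autPerm] at this
    exact (mul_inv_eq_iff_eq_mul.1 this).symm
  · intro h
    ext x
    show (n : X) * x * (n : X)⁻¹ = x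
    rw [← h x x.2.1, mul_inv_cancel_right]

omit [Finite X] in
theorem relIndex_eq_card_range :
    (centralizer (U : Set X)).relIndex (normalizer (U : Set X)) = Nat.card (autPerm U).range := by
  rw [relIndex, ← ker_autPerm, index_ker]

theorem card_nontriv (hU : IsFour U) : Nat.card {x : X // x ∈ U ∧ x ≠ 1} = 3 := by
  classical
  have := Fintype.ofFinite U
  have e : {x : X // x ∈ U ∧ x ≠ 1} ≃ {x : U // x ≠ 1} :=
    { toFun := fun x => ⟨⟨x.1, x.2.1⟩, fun h => x.2.2 (congrArg Subtype.val h)⟩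
      invFun := fun x => ⟨x.1.1, x.1.2, fun h => x.2 (Subtype.ext h)⟩ }
  rw [Nat.card_congr e, Nat.card_eq_fintype_card, Fintype.card_subtype_compl,
    Fintype.card_subtype_eq, ← Nat.card_eq_fintype_card, hU.1]

theorem relIndex_dvd_six (hU : IsFour U) :
    (centralizer (U : Set X)).relIndex (normalizer (U : Set X)) ∣ 6 := by
  rw [relIndex_eq_card_range]
  refine (card_subgroup_dvd_card _).trans ?_
  rw [Nat.card_perm, card_nontriv hU]
  rfl

/-- If the automiser has order prime to three, odd elements of the normalizer centralize. -/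
theorem commute_of_not_three (hU : IsFour U)
    (h3 : ¬ 3 ∣ (centralizer (U : Set X)).relIndex (normalizer (U : Set X))) {n : X}
    (hn : n ∈ normalizer (U : Set X)) (hodd : Odd (orderOf n)) : ∀ x ∈ U, n * x = x * n := by
  have h6 := relIndex_dvd_six hU
  rw [relIndex_eq_card_range] at h3 h6
  have h2 : Nat.card (autPerm U).range ∣ 2 :=
    (Nat.Coprime.symm ((Nat.Prime.coprime_iff_not_dvd Nat.prime_three).2 h3)).dvd_of_dvd_mul_left
      (show Nat.card (autPerm U).range ∣ 3 * 2 from h6)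
  have hk : (⟨n, hn⟩ : normalizer (U : Set X)) ∈ (autPerm U).ker := by
    rw [MonoidHom.mem_ker, ← orderOf_eq_one_iff]
    refine Nat.eq_one_of_dvd_coprimes (Nat.coprime_two_left.2 hodd) ?_ ?_
    · refine dvd_trans ?_ h2
      have hmem : autPerm U ⟨n, hn⟩ ∈ (autPerm U).range := ⟨_, rfl⟩
      exact orderOf_dvd_natCard _ hmem
    · rw [← Subgroup.orderOf_mk n hn]
      exact orderOf_map_dvd _ _
  rw [ker_autPerm, mem_subgroupOf, mem_centralizer_iff] at hk
  exact fun x hx => (hk x hx).symm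

theorem perm_three {α : Type*} [Finite α] (hα : Nat.card α = 3) (σ : Equiv.Perm α)
    (hσ : orderOf σ = 3) (a b : α) : a = b ∨ σ a = b ∨ σ (σ a) = b := by
  have key : ∀ τ : Equiv.Perm (Fin 3), τ * τ * τ = 1 → τ ≠ 1 →
      ∀ a b : Fin 3, a = b ∨ τ a = b ∨ τ (τ a) = b := by decide +kernel
  let e := (Finite.equivFinOfCardEq hα)
  have h1 := key (e.permCongrHom σ)
    (by
      have h0 : σ * σ * σ = 1 := by
        have := pow_orderOf_eq_one σ
        rw [hσ] at this
        simpa [pow_succ] using this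
      rw [← map_mul, ← map_mul, h0, map_one])
    (fun h => by
      rw [map_eq_one_iff _ e.permCongrHom.injective] at h
      simp [h] at hσ) (e a) (e b)
  simpa [Equiv.permCongrHom] using h1

/-- If three divides the automiser, the normalizer is transitive on nontrivial elements. -/
theorem exists_conj_of_three (hU : IsFour U)
    (h3 : 3 ∣ (centralizer (U : Set X)).relIndex (normalizer (U : Set X))) {a b : X}
    (ha : a ∈ U) (ha1 : a ≠ 1) (hb : b ∈ U) (hb1 : b ≠ 1) :
    ∃ n : X, n * a * n⁻¹ = b := by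
  rw [relIndex_eq_card_range] at h3
  have : Fact (Nat.Prime 3) := ⟨Nat.prime_three⟩
  obtain ⟨σ, hσ⟩ := exists_prime_orderOf_dvd_card' 3 h3
  obtain ⟨⟨σ', n, hn⟩, rfl⟩ : ∃ σ' : (autPerm U).range, σ' = σ := ⟨σ, rfl⟩
  rw [← Subgroup.orderOf_coe] at hσ
  change orderOf σ' = 3 at hσ
  rcases perm_three (card_nontriv hU) σ' hσ ⟨a, ha, ha1⟩ ⟨b, hb, hb1⟩ with h | h | h
  · exact ⟨1, by simpa using congrArg Subtype.val h⟩
  · exact ⟨n, by rw [← hn] at h; exact congrArg Subtype.val h⟩
  · refine ⟨(n : X) * n, ?_⟩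
    rw [← hn] at h
    have h' : (n : X) * ((n : X) * a * (n : X)⁻¹) * (n : X)⁻¹ = b := congrArg Subtype.val h
    rw [← h']
    group

end Automiser

end Cfsg.Agent.Lib.Fusion.Dihedral
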