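import Mathlib
import Cfsg.Prelude.Def_CaseTheorems

/-!
Recognising quasi-dihedral and wreathed Sylow `2`-subgroups from witnesses in the whole group.
-/

namespace Cfsg.Agent.Lib.Fusion.SylowRecognize

open Subgroup

variable {G : Type*} [Group G]

/-- A finite cyclic group has an element of every order dividing the group order. -/
theorem exists_orderOf {C : Type*} [Group C] [Finite C] [IsCyclic C] {d : ℕ}
    (hd : d ∣ Nat.card C) : ∃ a : C, orderOf a = d := by
  obtain ⟨g, hg⟩ := IsCyclic.exists_ofOrder_eq_natCard (α := C)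
  exact ⟨g ^ (orderOf g / d),
    orderOf_pow_orderOf_div (hg ▸ Nat.card_pos.ne') (hg ▸ hd)⟩

/-- Adjoining an involution which normalises a subgroup and lies outside it. -/
theorem exists_adjoin [Finite G] (A : Subgroup G) {z : G} (hz : z * z = 1) (hzA : z ∉ A)
    (hn : ∀ a ∈ A, z * a * z ∈ A) :
    ∃ Q : Subgroup G, A ≤ Q ∧ z ∈ Q ∧ Nat.card Q = 2 * Nat.card A := by
  have hzi : z⁻¹ = z := inv_eq_of_mul_eq_one_right hz
  let Q : Subgroup G :=
    { carrier := {g | g ∈ A ∨ g * z ∈ A}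
      one_mem' := Or.inl A.one_mem
      mul_mem' := by
        rintro g h (hg | hg) (hh | hh)
        · exact Or.inl (A.mul_mem hg hh)
        · exact Or.inr (by rw [mul_assoc]; exact A.mul_mem hg hh)
        · refine Or.inr ?_
          have := A.mul_mem hg (hn h hh)
          rwa [show g * z * (z * h * z) = g * (z * z) * h * z by group, hz, mul_one] at this
        · refine Or.inl ?_
          have := A.mul_mem hg (hn _ hh)
          rwa [show g * z * (z * (h * z) * z) = g * (z * z) * h * (z * z) by group, hz, mul_one,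
            mul_one] at this
      inv_mem' := by
        rintro g (hg | hg)
        · exact Or.inl (A.inv_mem hg)
        · refine Or.inr ?_
          have := hn _ (A.inv_mem hg)
          rwa [mul_inv_rev, hzi, show z * (z * g⁻¹) * z = (z * z) * (g⁻¹ * z) by group, hz,
            one_mul] at this }
  refine ⟨Q, fun a ha => Or.inl ha, Or.inr (by rw [hz]; exact A.one_mem), ?_⟩
  let f : A ⊕ A → Q := Sum.elim (fun a => ⟨a, Or.inl a.2⟩)
    (fun a => ⟨a * z, Or.inr (by rw [mul_assoc, hz, mul_one]; exact a.2)⟩)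
  have hf : Function.Bijective f := by
    constructor
    · rintro (a | a) (b | b) h <;> have h' := congrArg Subtype.val h <;> simp [f] at h'
      · exact congrArg Sum.inl (Subtype.ext (by exact_mod_cast h'))
      · exfalso
        apply hzA
        have e : z = (b : G)⁻¹ * a := eq_inv_mul_of_mul_eq h'.symm
        rw [e]
        exact A.mul_mem (A.inv_mem b.2) a.2
      · exfalso
        apply hzA
        have e : z = (a : G)⁻¹ * b := eq_inv_mul_of_mul_eq h'
        rw [e]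
        exact A.mul_mem (A.inv_mem a.2) b.2
      · exact congrArg Sum.inr (Subtype.ext (by exact_mod_cast h'))
    · rintro ⟨g, hg | hg⟩
      · exact ⟨Sum.inl ⟨g, hg⟩, rfl⟩
      · exact ⟨Sum.inr ⟨_, hg⟩, Subtype.ext (by simp [f, mul_assoc, hz])⟩
  rw [← Nat.card_eq_of_bijective f hf, Nat.card_sum, two_mul]

/-- Any two Sylow subgroups are isomorphic; a subgroup of the right order is one. -/
theorem equiv_sylow [Finite G] (P : Sylow 2 G) (Q : Subgroup G) {k o : ℕ}
    (hG : Nat.card G = 2 ^ k * o) (ho : Odd o) (hQ : Nat.card Q = 2 ^ k) :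
    Nonempty (Q ≃* (P : Subgroup G)) := by
  haveI : Fact (Nat.Prime 2) := ⟨Nat.prime_two⟩
  have ho2 : ¬ 2 ∣ o := by
    rw [← even_iff_two_dvd, Nat.not_even_iff_odd]
    exact ho
  have ho0 : o ≠ 0 := fun h => ho2 (h ▸ dvd_zero 2)
  have hf : (Nat.card G).factorization 2 = k := by
    rw [hG, Nat.factorization_mul (by positivity) ho0,
      Nat.Prime.factorization_pow Nat.prime_two, Finsupp.add_apply, Finsupp.single_eq_same,
      Nat.factorization_eq_zero_of_not_dvd ho2, add_zero]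
  let S : Sylow 2 G := Sylow.ofCard Q (by rw [hQ, hf])
  exact ⟨Sylow.equiv S P⟩

/-- Wreathed Sylow subgroups from two commuting elements and an involution exchanging them. -/
theorem wreathed [Finite G] (P : Sylow 2 G) {n o : ℕ} (hn : 2 ≤ n)
    (hG : Nat.card G = 2 ^ (2 * n + 1) * o) (ho : Odd o) {x y z : G}
    (hx : orderOf x = 2 ^ n) (hxy : x * y = y * x) (hd : zpowers x ⊓ zpowers y = ⊥)
    (hz : orderOf z = 2) (hzx : z * x * z⁻¹ = y) :
    Cfsg.IsWreathed (P : Subgroup G) := by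
  have hy : orderOf y = 2 ^ n := by
    rw [← hzx, ← hx]
    exact orderOf_injective (MulAut.conj z).toMonoidHom (MulAut.conj z).injective x
  have hzz : z * z = 1 := by rw [← pow_two, ← hz, pow_orderOf_eq_one]
  have hzi : z⁻¹ = z := inv_eq_of_mul_eq_one_right hzz
  have hzy : z * y * z⁻¹ = x := by
    rw [← hzx, show z * (z * x * z⁻¹) * z⁻¹ = (z * z) * x * (z * z)⁻¹ by group, hzz]
    group
  have hcomm : ∀ (a : zpowers x) (b : zpowers y), Commute (a : G) (b : G) := by
    rintro ⟨a, i, rfl⟩ ⟨b, j, rfl⟩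
    exact (Commute.zpow_zpow hxy i j)
  let ψ : zpowers x × zpowers y →* G :=
    MonoidHom.noncommCoprod (zpowers x).subtype (zpowers y).subtype hcomm
  have hψ : Function.Injective ψ := by
    rw [injective_iff_map_eq_one]
    rintro ⟨⟨a, ha⟩, ⟨b, hb⟩⟩ h
    have h' : a * b = 1 := h
    have hb' : b = a⁻¹ := eq_inv_of_mul_eq_one_right h'
    have hmem : b ∈ zpowers x ⊓ zpowers y := ⟨hb' ▸ (zpowers x).inv_mem ha, hb⟩
    rw [hd, mem_bot] at hmem
    subst hmem
    rw [mul_one] at h'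
    subst h'
    rfl
  have hA : Nat.card ψ.range = 2 ^ (2 * n) := by
    rw [← Nat.card_congr (MonoidHom.ofInjective hψ).toEquiv, Nat.card_prod, Nat.card_zpowers,
      Nat.card_zpowers, hx, hy, ← pow_add, two_mul]
  have hxA : x ∈ ψ.range := ⟨(⟨x, mem_zpowers x⟩, 1), mul_one x⟩
  have hyA : y ∈ ψ.range := ⟨(1, ⟨y, mem_zpowers y⟩), one_mul y⟩
  have hzA : z ∉ ψ.range := by
    rintro ⟨⟨a, b⟩, hab⟩
    have hc : Commute z x := by
      rw [← hab]
      show Commute ((a : G) * (b : G)) x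
      refine Commute.mul_left ?_ ?_
      · obtain ⟨i, hi⟩ := a.2
        rw [← hi]
        exact Commute.zpow_self x i
      · exact (hcomm ⟨x, mem_zpowers x⟩ b).symm
    have hyx : y = x := by rw [← hzx, hc.eq, mul_inv_cancel_right]
    rw [hyx, inf_idem, zpowers_eq_bot] at hd
    rw [hd, orderOf_one] at hx
    have := Nat.one_lt_two_pow (n := n) (by omega)
    omega
  have hzn : ∀ a ∈ ψ.range, z * a * z ∈ ψ.range := by
    rintro _ ⟨⟨⟨a, i, rfl⟩, ⟨b, j, rfl⟩⟩, rfl⟩
    show z * (x ^ i * y ^ j) * z ∈ ψ.range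
    have : z * (x ^ i * y ^ j) * z = y ^ i * x ^ j := by
      have e1 : z * x ^ i * z = y ^ i := by
        rw [← hzx, conj_zpow, hzi]
      have e2 : z * y ^ j * z = x ^ j := by
        rw [← hzy, conj_zpow, hzi]
      rw [← e1, ← e2, show z * x ^ i * z * (z * y ^ j * z) = z * (x ^ i * (z * z) * y ^ j) * z by
        group, hzz, mul_one]
    rw [this]
    exact mul_mem (zpow_mem hyA i) (zpow_mem hxA j)
  obtain ⟨Q, hAQ, hzQ, hcard⟩ := exists_adjoin ψ.range hzz hzA hzn
  rw [hA] at hcard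
  have hQ : Nat.card Q = 2 ^ (2 * n + 1) := by rw [hcard, pow_succ, mul_comm]
  obtain ⟨e⟩ := equiv_sylow P Q hG ho hQ
  refine ⟨n, hn, ?_, e ⟨x, hAQ hxA⟩, e ⟨y, hAQ hyA⟩, e ⟨z, hzQ⟩, ?_, ?_, ?_, ?_, ?_⟩
  · rw [← Nat.card_congr e.toEquiv, hQ]
  · rw [e.orderOf_eq, Subgroup.orderOf_mk, hx]
  · rw [← map_mul, ← map_mul]
    exact congrArg e (Subtype.ext hxy)
  · refine (Subgroup.eq_bot_iff_forall _).2 ?_
    intro g hg
    obtain ⟨⟨i, hi⟩, ⟨j, hj⟩⟩ := mem_inf.1 hg
    have hi' : (e.symm g : G) = x ^ i := by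
      rw [← hi]; simp [map_zpow]
    have hj' : (e.symm g : G) = y ^ j := by
      rw [← hj]; simp [map_zpow]
    have hmem : (e.symm g : G) ∈ zpowers x ⊓ zpowers y :=
      ⟨hi' ▸ zpow_mem (mem_zpowers x) i, hj' ▸ zpow_mem (mem_zpowers y) j⟩
    rw [hd, mem_bot, OneMemClass.coe_eq_one] at hmem
    exact e.symm.map_eq_one_iff.1 hmem
  · rw [e.orderOf_eq, Subgroup.orderOf_mk, hz]
  · rw [← map_inv, ← map_mul, ← map_mul]
    exact congrArg e (Subtype.ext hzx)

/-- Quasi-dihedral Sylow subgroups from an element and an involution. -/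
theorem quasiDihedral [Finite G] (P : Sylow 2 G) {n o : ℕ} (hn : 3 ≤ n)
    (hG : Nat.card G = 2 ^ (n + 1) * o) (ho : Odd o) {x y : G}
    (hx : orderOf x = 2 ^ n) (hy : orderOf y = 2)
    (hyx : y * x * y⁻¹ = x ^ (2 ^ (n - 1) - 1)) :
    Cfsg.IsQuasiDihedral (P : Subgroup G) := by
  have hyy : y * y = 1 := by rw [← pow_two, ← hy, pow_orderOf_eq_one]
  have hyi : y⁻¹ = y := inv_eq_of_mul_eq_one_right hyy
  have hyA : y ∉ zpowers x := by
    rintro ⟨i, hi⟩
    have hc : y * x * y⁻¹ = x := by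
      rw [← hi, (Commute.zpow_self x i).eq, mul_inv_cancel_right]
    have hm := pow_eq_pow_iff_modEq.1 ((hc.symm.trans hyx).trans rfl |> fun h =>
      (pow_one x).trans h)
    rw [hx] at hm
    obtain ⟨j, rfl⟩ : ∃ j, n = j + 3 := ⟨n - 3, by omega⟩
    have h4 : 4 ∣ 2 ^ (j + 3) := ⟨2 ^ (j + 1), by ring⟩
    have h4' : 2 ^ (j + 3 - 1) = 4 * 2 ^ j := by
      rw [show j + 3 - 1 = j + 2 by omega]; ring
    have hm4 := hm.of_dvd h4
    rw [h4'] at hm4
    unfold Nat.ModEq at hm4
    have := Nat.one_le_two_pow (n := j)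
    omega
  have hn' : ∀ a ∈ zpowers x, y * a * y ∈ zpowers x := by
    rintro _ ⟨i, rfl⟩
    show y * x ^ i * y ∈ zpowers x
    have : y * x ^ i * y = (y * x * y⁻¹) ^ i := by rw [conj_zpow, hyi]
    rw [this, hyx]
    exact zpow_mem (pow_mem (mem_zpowers x) _) i
  obtain ⟨Q, hAQ, hyQ, hcard⟩ := exists_adjoin (zpowers x) hyy hyA hn'
  rw [Nat.card_zpowers, hx] at hcard
  have hQ : Nat.card Q = 2 ^ (n + 1) := by rw [hcard, pow_succ, mul_comm]
  obtain ⟨e⟩ := equiv_sylow P Q hG ho hQ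
  refine ⟨n, hn, ?_, e ⟨x, hAQ (mem_zpowers x)⟩, e ⟨y, hyQ⟩, ?_, ?_, ?_⟩
  · rw [← Nat.card_congr e.toEquiv, hQ]
  · rw [e.orderOf_eq, Subgroup.orderOf_mk, hx]
  · rw [e.orderOf_eq, Subgroup.orderOf_mk, hy]
  · rw [← map_inv, ← map_mul, ← map_mul, ← map_pow]
    exact congrArg e (Subtype.ext (by simpa using hyx))

end Cfsg.Agent.Lib.Fusion.SylowRecognize
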