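import Mathlib
import Cfsg.Agent.Lib.Suzuki2.Basic
import Cfsg.Agent.Lib.PGroups.Omega

/-!
`2`-groups with exactly three involutions permuted transitively by an automorphism of `3`-power
order: homocyclic of rank two, or of order `64` with a standard basis.
-/

set_option autoImplicit false

namespace Cfsg.Agent.Lib.Fusion.TransInvolutions

open Subgroup
open scoped commutatorElement

variable {T : Type*} [Group T]

/-- Three central involutions, the only ones, none fixed by an automorphism of `3`-power order. -/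
structure Hyp (σ : MulAut T) (Z : Subgroup T) : Prop where
  pgroup : IsPGroup 2 T
  order : ∃ k, σ ^ 3 ^ k = 1
  cardZ : Nat.card Z = 4
  central : Z ≤ center T
  invol : ∀ x : T, x * x = 1 ↔ x ∈ Z
  inv : ∀ z ∈ Z, σ z ∈ Z
  moves : ∀ z ∈ Z, σ z = z → z = 1

variable {σ : MulAut T} {Z : Subgroup T}

namespace Hyp

variable (H : Hyp σ Z)
include H

theorem zsq {z : T} (hz : z ∈ Z) : z * z = 1 := (H.invol z).2 hz

theorem zinv {z : T} (hz : z ∈ Z) : z⁻¹ = z := inv_eq_of_mul_eq_one_right (H.zsq hz)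

theorem zcomm {z : T} (hz : z ∈ Z) (x : T) : x * z = z * x := mem_center_iff.1 (H.central hz) x

/-- The orbit of a nontrivial element of `Z`. -/
theorem orbit {z : T} (hz : z ∈ Z) (hz1 : z ≠ 1) :
    σ z ≠ 1 ∧ σ z ≠ z ∧ σ (σ z) = z * σ z ∧ σ (σ (σ z)) = z ∧
      ∀ w ∈ Z, w = 1 ∨ w = z ∨ w = σ z ∨ w = σ (σ z) := by
  classical
  have h1 : σ z ≠ 1 := fun h => hz1 (σ.injective (h.trans σ.map_one.symm))
  have h2 : σ z ≠ z := fun h => hz1 (H.moves z hz h)
  have : Finite Z := Nat.finite_of_card_ne_zero (by rw [H.cardZ]; norm_num)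
  have all : ∀ w ∈ Z, w = 1 ∨ w = z ∨ w = σ z ∨ w = z * σ z := by
    intro w hw
    let f : Fin 4 → Z := ![1, ⟨z, hz⟩, ⟨σ z, H.inv z hz⟩, ⟨z * σ z, Z.mul_mem hz (H.inv z hz)⟩]
    have hzz : z * σ z ≠ 1 := fun h => h2 ((inv_eq_of_mul_eq_one_right h).symm.trans (H.zinv hz))
    have hf : Function.Injective f := by
      intro i j h
      have h' := congrArg Subtype.val h
      fin_cases i <;> fin_cases j <;>
        simp [f, hz1, h1, h2, hzz, Ne.symm hz1, Ne.symm h1, Ne.symm h2, Ne.symm hzz] at h' ⊢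
    have hs := (hf.bijective_of_nat_card_le (by rw [H.cardZ, Nat.card_fin])).2 ⟨w, hw⟩
    obtain ⟨i, hi⟩ := hs
    have hi' := congrArg Subtype.val hi
    fin_cases i <;> simp [f] at hi' <;> simp [← hi']
  have h3 : σ (σ z) = z * σ z := by
    have hm := all _ (H.inv _ (H.inv z hz))
    rcases hm with h | h | h | h
    · exact absurd (σ.injective (h.trans σ.map_one.symm)) h1
    · refine absurd ?_ h2
      have := H.moves (z * σ z) (Z.mul_mem hz (H.inv z hz)) (by
        rw [map_mul, h, H.zcomm hz])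
      exact (inv_eq_of_mul_eq_one_right this).symm.trans (H.zinv hz)
    · exact absurd (σ.injective h) h2
    · exact h
  refine ⟨h1, h2, h3, ?_, fun w hw => by rw [h3]; exact all w hw⟩
  rw [h3, map_mul, h3, ← mul_assoc, H.zcomm hz (σ z), mul_assoc, H.zsq (H.inv z hz), mul_one]

theorem cube {z : T} (hz : z ∈ Z) : σ (σ (σ z)) = z := by
  rcases eq_or_ne z 1 with rfl | h
  · simp
  · exact (H.orbit hz h).2.2.2.1

/-- The product of an orbit in `Z` is trivial. -/
theorem orbit_prod {z : T} (hz : z ∈ Z) : z * σ z * σ (σ z) = 1 := by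
  rcases eq_or_ne z 1 with rfl | h
  · simp
  · rw [(H.orbit hz h).2.2.1]
    exact H.zsq (Z.mul_mem hz (H.inv z hz))

variable [Finite T]

theorem fix {x : T} (hx : σ x = x) : x = 1 := by
  by_contra h
  obtain ⟨j, hj1, hj⟩ := Suzuki2.Basic.exists_involution_pow H.pgroup h
  exact hj1 (H.moves _ ((H.invol _).1 hj) (by rw [map_pow, hx]))

/-- A coset of an invariant subgroup fixed by `σ` is that subgroup. -/
theorem mem_of_fix (N : Subgroup T) (hN : ∀ n ∈ N, σ n ∈ N) {x : T} (hx : x⁻¹ * σ x ∈ N) :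
    x ∈ N := by
  classical
  let f : {y : T // x⁻¹ * y ∈ N} → {y : T // x⁻¹ * y ∈ N} := fun y => ⟨σ y.1, by
    have := N.mul_mem hx (hN _ y.2)
    rwa [map_mul, map_inv, ← mul_assoc, mul_inv_cancel_right] at this⟩
  have hf : Function.Bijective f := Finite.injective_iff_bijective.1 fun a b h =>
    Subtype.ext (σ.injective (congrArg Subtype.val h))
  let π : Equiv.Perm {y : T // x⁻¹ * y ∈ N} := Equiv.ofBijective f hf
  obtain ⟨k, hk⟩ := H.order
  have hπ : ∀ (n : ℕ) y, ((π ^ n) y).1 = (σ ^ n) y.1 := by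
    intro n
    induction n with
    | zero => intro y; rfl
    | succ n ih =>
      intro y
      rw [pow_succ', pow_succ', Equiv.Perm.mul_apply, MulAut.mul_apply, ← ih]
      rfl
  have : Fact (Nat.Prime 3) := ⟨Nat.prime_three⟩
  have : Fintype {y : T // x⁻¹ * y ∈ N} := Fintype.ofFinite _
  have hcard : ¬ 3 ∣ Fintype.card {y : T // x⁻¹ * y ∈ N} := by
    rw [← Nat.card_eq_fintype_card,
      Nat.card_congr ((Equiv.mulLeft x⁻¹).subtypeEquiv (p := fun y => x⁻¹ * y ∈ N) (q := fun y => y ∈ N)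
        (fun y => Iff.rfl))]
    obtain ⟨m, hm⟩ := IsPGroup.iff_card.1 (H.pgroup.to_subgroup N)
    rw [hm]
    intro h
    have := Nat.prime_three.dvd_of_dvd_pow h
    omega
  obtain ⟨y, hy⟩ := Equiv.Perm.exists_fixed_point_of_prime (p := 3) (n := k) hcard (σ := π)
    (Equiv.ext fun y => Subtype.ext (by rw [hπ, hk]; rfl))
  have h1 : σ y.1 = y.1 := congrArg Subtype.val hy
  have := y.2
  rw [H.fix h1, mul_one] at this
  simpa using N.inv_mem this

theorem z_ne_bot : ∃ z ∈ Z, z ≠ 1 := by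
  have : Nontrivial Z := Finite.one_lt_card_iff_nontrivial.1 (by rw [H.cardZ]; norm_num)
  obtain ⟨z, hz⟩ := exists_ne (1 : Z)
  exact ⟨z, z.2, fun h => hz (Subtype.ext h)⟩

theorem transInvol : Suzuki2.Basic.TransInvol (Subgroup.zpowers σ) := by
  refine ⟨?_, fun x y hx1 hx hy1 hy => ?_⟩
  · rintro _ ⟨i, rfl⟩ _ ⟨j, rfl⟩
    exact ((Commute.refl σ).zpow_zpow i j)
  · rcases (H.orbit ((H.invol x).1 hx) hx1).2.2.2.2 y ((H.invol y).1 hy) with h | h | h | h
    · exact absurd h hy1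
    · exact ⟨1, one_mem _, h.symm⟩
    · exact ⟨σ, mem_zpowers σ, h.symm⟩
    · exact ⟨σ * σ, mul_mem (mem_zpowers σ) (mem_zpowers σ), h.symm⟩

theorem center_eq (hnc : ∃ x y : T, x * y ≠ y * x) : center T = Z :=
  le_antisymm (fun z hz => (H.invol z).1
    (Suzuki2.Basic.center_sq_eq_one H.pgroup H.transInvol hnc hz)) H.central

end Hyp

section ClassTwo

variable (H : Hyp σ Z)
include H

theorem cm_left {a b t : T} (h : ⁅b, t⁆ ∈ Z) : ⁅a * b, t⁆ = ⁅a, t⁆ * ⁅b, t⁆ :=
  Suzuki2.Basic.comm_elem_mul_left (H.central h)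

theorem cm_symm {a b : T} (h : ⁅a, b⁆ ∈ Z) : ⁅b, a⁆ = ⁅a, b⁆ := by
  rw [← commutatorElement_inv, H.zinv h]

theorem cm_right {t a b : T} (ha : ⁅t, a⁆ ∈ Z) (hb : ⁅t, b⁆ ∈ Z) :
    ⁅t, a * b⁆ = ⁅t, a⁆ * ⁅t, b⁆ := by
  rw [← commutatorElement_inv, cm_left H (by rw [cm_symm H hb]; exact hb), cm_symm H ha,
    cm_symm H hb, H.zinv (Z.mul_mem ha hb)]

theorem cm_z {z : T} (hz : z ∈ Z) (t : T) : ⁅t, z⁆ = 1 := by
  rw [commutatorElement_def, H.zcomm hz t]; group

theorem cm_z' {z : T} (hz : z ∈ Z) (t : T) : ⁅z, t⁆ = 1 := by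
  rw [commutatorElement_def, ← H.zcomm hz t]; group

omit H in
theorem cm_eq {a b : T} : ⁅a, b⁆ = 1 ↔ a * b = b * a := commutatorElement_eq_one_iff_mul_comm

theorem sq_mul {a b : T} (h : ⁅b, a⁆ ∈ Z) : a * b * (a * b) = a * a * (b * b) * ⁅b, a⁆ := by
  have e : b * a = ⁅b, a⁆ * (a * b) := by rw [commutatorElement_def]; group
  calc a * b * (a * b) = a * (b * a) * b := by group
    _ = a * (⁅b, a⁆ * (a * (b * b))) := by rw [e]; group
    _ = a * ((a * (b * b)) * ⁅b, a⁆) := by rw [H.zcomm h]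
    _ = _ := by group

/-- Two elements with the same central square, commuting, differ by an element of `Z`. -/
theorem mul_mem_of_sq {a b : T} (ha : a * a ∈ Z) (hc : a * b = b * a) (h : a * a = b * b) :
    a * b ∈ Z := by
  rw [← H.invol, sq_mul H (by rw [cm_eq.2 hc.symm]; exact Z.one_mem), cm_eq.2 hc.symm, mul_one,
    ← h, H.zsq ha]

/-- Elements with central square and central commutators. -/
def upper : Subgroup T where
  carrier := {w | w * w ∈ Z ∧ ∀ t : T, ⁅w, t⁆ ∈ Z}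
  one_mem' := ⟨by simp, fun t => by simp [commutatorElement_def]⟩
  mul_mem' := fun {a b} ha hb => ⟨by
      rw [sq_mul H (hb.2 a)]; exact Z.mul_mem (Z.mul_mem ha.1 hb.1) (hb.2 a),
    fun t => by rw [cm_left H (hb.2 t)]; exact Z.mul_mem (ha.2 t) (hb.2 t)⟩
  inv_mem' := fun {a} ha => by
    have e : a⁻¹ = (a * a)⁻¹ * a := by group
    rw [e, H.zinv ha.1]
    refine ⟨?_, fun t => ?_⟩
    · rw [sq_mul H (ha.2 _), H.zsq ha.1, one_mul]
      exact Z.mul_mem ha.1 (ha.2 _)
    · rw [cm_left H (ha.2 t), cm_z' H ha.1, one_mul]; exact ha.2 t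

theorem mem_upper {w : T} : w ∈ upper H ↔ w * w ∈ Z ∧ ∀ t : T, ⁅w, t⁆ ∈ Z := Iff.rfl

theorem le_upper : Z ≤ upper H := fun z hz =>
  ⟨by rw [H.zsq hz]; exact Z.one_mem, fun t => by rw [cm_z' H hz]; exact Z.one_mem⟩

theorem cm_upper {w : T} (hw : w ∈ upper H) (t : T) : ⁅t, w⁆ ∈ Z := by
  rw [cm_symm H (hw.2 t)]; exact hw.2 t

theorem upper_inv {w : T} (hw : w ∈ upper H) : σ w ∈ upper H := by
  refine ⟨by rw [← map_mul]; exact H.inv _ hw.1, fun t => ?_⟩
  rw [← σ.apply_symm_apply t, ← map_commutatorElement]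
  exact H.inv _ (hw.2 _)

variable [Finite T]

omit H in
theorem symm_mem (N : Subgroup T) (hN : ∀ n ∈ N, σ n ∈ N) {n : T} (hn : n ∈ N) :
    σ.symm n ∈ N := by
  let f : N → N := fun m => ⟨σ m, hN _ m.2⟩
  obtain ⟨m, hm⟩ := (Finite.injective_iff_surjective (f := f)).1
    (fun a b h => Subtype.ext (σ.injective (congrArg Subtype.val h))) ⟨n, hn⟩
  have hm' : σ m = n := congrArg Subtype.val hm
  rw [← hm', σ.symm_apply_apply]
  exact m.2

theorem exists_upper (hcen : center T = Z) (N : Subgroup T) [N.Normal] {n₀ : T} (hn₀ : n₀ ∈ N)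
    (hn₀' : n₀ ∉ Z) : ∃ n ∈ N, n ∈ upper H ∧ n ∉ Z := by
  have : Fact (Nat.Prime 2) := ⟨Nat.prime_two⟩
  have hQ : IsPGroup 2 (T ⧸ center T) := H.pgroup.to_quotient _
  have hM : (N.map (QuotientGroup.mk' (center T))).Normal :=
    ‹N.Normal›.map _ (QuotientGroup.mk'_surjective _)
  have hne : N.map (QuotientGroup.mk' (center T)) ≠ ⊥ := by
    intro h
    have := Subgroup.mem_map_of_mem (QuotientGroup.mk' (center T)) hn₀
    rw [h, mem_bot] at this
    exact hn₀' (hcen ▸ (QuotientGroup.eq_one_iff n₀).1 this)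
  obtain ⟨⟨q, hqM, hqc⟩, hq1⟩ : ∃ q : (N.map (QuotientGroup.mk' (center T)) ⊓
      center (T ⧸ center T) : Subgroup (T ⧸ center T)), q ≠ 1 := by
    have : Nontrivial (N.map (QuotientGroup.mk' (center T)) ⊓
        center (T ⧸ center T) : Subgroup (T ⧸ center T)) :=
      (Subgroup.nontrivial_iff_ne_bot _).2
        (Cfsg.Agent.Lib.PGroups.normal_inf_center_ne_bot hQ _ hne)
    exact exists_ne 1
  have hq : q ≠ 1 := fun h => hq1 (Subtype.ext h)
  obtain ⟨j, hj1, hj⟩ := Suzuki2.Basic.exists_involution_pow hQ hq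
  obtain ⟨n, hn, hnq⟩ := Subgroup.pow_mem _ hqM (2 ^ j)
  have hnc := Subgroup.pow_mem _ hqc (2 ^ j)
  rw [← hnq] at hj1 hj hnc
  refine ⟨n, hn, ⟨?_, fun t => ?_⟩, fun h => hj1 ((QuotientGroup.eq_one_iff n).2 (hcen ▸ h))⟩
  · rw [← hcen]
    exact (QuotientGroup.eq_one_iff _).1 hj
  · rw [← hcen]
    exact Suzuki2.Basic.mk_mem_center_iff.1 hnc t

theorem sq_cases {u : T} (hu : u * u ∈ Z) (huZ : u ∉ Z) {z : T} (hz : z ∈ Z) (hz1 : z ≠ 1) :
    z = u * u ∨ z = σ u * σ u ∨ z = σ (σ u) * σ (σ u) := by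
  rcases (H.orbit hu fun h => huZ ((H.invol u).1 h)).2.2.2.2 z hz with h | h | h | h
  · exact absurd h hz1
  · exact Or.inl h
  · exact Or.inr (Or.inl (by rw [h, map_mul]))
  · exact Or.inr (Or.inr (by rw [h, map_mul, map_mul]))

theorem upper_not_commutative (hnc : ∃ x y : T, x * y ≠ y * x) :
    ∃ a ∈ upper H, ∃ b ∈ upper H, a * b ≠ b * a := by
  classical
  by_contra hcon
  push Not at hcon
  have hcen := H.center_eq hnc
  obtain ⟨x₀, y₀, hxy⟩ := hnc
  have hx₀ : x₀ ∉ Z := fun h => hxy (H.zcomm h y₀).symm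
  obtain ⟨u, -, hu, huZ⟩ := exists_upper H hcen ⊤ (mem_top x₀) hx₀
  have iw : ∀ {w}, w ∈ upper H → σ w ∈ upper H := fun hw => upper_inv H hw
  have same : ∀ t : T, ∀ a ∈ upper H, ∀ b ∈ upper H, a * b ∈ Z → ⁅t, a⁆ = ⁅t, b⁆ := by
    intro t a ha b hb h
    have := cm_z H h t
    rw [cm_right H (cm_upper H ha t) (cm_upper H hb t)] at this
    rw [eq_inv_of_mul_eq_one_left this, H.zinv (cm_upper H hb t)]
  have cases3 : ∀ {u}, u ∈ upper H → u ∉ Z → ∀ w ∈ upper H, w ∉ Z →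
      w * u ∈ Z ∨ w * σ u ∈ Z ∨ w * σ (σ u) ∈ Z := by
    intro u hu huZ w hw hwZ
    rcases sq_cases H hu.1 huZ hw.1 (fun h => hwZ ((H.invol w).1 h)) with h | h | h
    · exact Or.inl (mul_mem_of_sq H hw.1 (hcon _ hw _ hu) h)
    · exact Or.inr (Or.inl (mul_mem_of_sq H hw.1 (hcon _ hw _ (iw hu)) h))
    · exact Or.inr (Or.inr (mul_mem_of_sq H hw.1 (hcon _ hw _ (iw (iw hu))) h))
  have hcube : ∀ w ∈ upper H, σ (σ (σ w)) * w ∈ Z := fun w hw =>
    mul_mem_of_sq H (iw (iw (iw hw))).1 (hcon _ (iw (iw (iw hw))) _ hw)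
      (by rw [← map_mul, ← map_mul, ← map_mul, H.cube hw.1])
  set C : Subgroup T := centralizer (upper H : Set T) with hC
  have hmemC : ∀ {t}, t ∈ C ↔ ∀ w ∈ upper H, ⁅t, w⁆ = 1 := by
    intro t
    rw [hC, mem_centralizer_iff]
    exact ⟨fun h w hw => cm_eq.2 (h w hw).symm, fun h w hw => (cm_eq.1 (h w hw)).symm⟩
  have hshift : ∀ t : T, ∀ w ∈ upper H, ⁅σ t, w⁆ = σ ⁅t, σ (σ w)⁆ := by
    intro t w hw
    rw [map_commutatorElement, same (σ t) w hw _ (iw (iw (iw hw)))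
      (by rw [hcon _ hw _ (iw (iw (iw hw)))]; exact hcube w hw)]
  have hCinv : ∀ t ∈ C, σ t ∈ C := fun t ht => hmemC.2 fun w hw => by
    rw [hshift t w hw, hmemC.1 ht _ (iw (iw hw)), map_one]
  have hCn : ∀ t, ∀ d ∈ C, t * d * t⁻¹ ∈ C := by
    intro t d hd
    refine hmemC.2 fun w hw => ?_
    rw [cm_left H (cm_upper H hw _), cm_left H (cm_upper H hw _), hmemC.1 hd w hw, mul_one,
      ← cm_left H (cm_upper H hw _), mul_inv_cancel]
    exact cm_z' H Z.one_mem w
  -- commutation with one element of the upper subgroup outside `Z`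
  have inj : ∀ t : T, ∀ a ∈ upper H, a ∉ Z → ⁅t, a⁆ = 1 → t ∈ C := by
    intro t a ha haZ hta
    have hab : a * σ a ∈ upper H := mul_mem ha (iw ha)
    have habc : a * σ a * σ (σ a) ∈ Z := by
      have hab' : ⁅σ a, a⁆ = 1 := cm_eq.2 (hcon _ (iw ha) _ ha)
      have hc' : ⁅σ (σ a), a * σ a⁆ = 1 := cm_eq.2 (hcon _ (iw (iw ha)) _ hab)
      rw [← H.invol, sq_mul H (by rw [hc']; exact Z.one_mem), hc', mul_one,
        sq_mul H (by rw [hab']; exact Z.one_mem), hab', mul_one, ← map_mul, ← map_mul, ← map_mul]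
      exact H.orbit_prod ha.1
    set y := ⁅t, σ a⁆ with hy
    have hyZ : y ∈ Z := cm_upper H (iw ha) t
    have hy2 : ⁅t, σ (σ a)⁆ = y := by
      rw [← same t _ hab _ (iw (iw ha)) habc, cm_right H (cm_upper H ha t) hyZ, hta, one_mul]
    set s := t * σ t * σ (σ t) with hs
    have e3 : ∀ w ∈ upper H, ⁅σ (σ (σ t)), w⁆ = ⁅t, w⁆ := by
      intro w hw
      rw [← same _ _ (iw (iw (iw hw))) w hw (hcube w hw), ← map_commutatorElement,
        ← map_commutatorElement, ← map_commutatorElement, H.cube (cm_upper H hw t)]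
    have hsC : s ∈ C := by
      refine H.mem_of_fix C hCinv (hmemC.2 fun w hw => ?_)
      have hc := fun g : T => cm_upper H hw g
      have hinv : ⁅s⁻¹, w⁆ = ⁅s, w⁆ := by
        have := cm_left H (a := s⁻¹) (hc s)
        rw [inv_mul_cancel, cm_z' H Z.one_mem] at this
        rw [eq_inv_of_mul_eq_one_left this.symm, H.zinv (hc s)]
      rw [cm_left H (hc _), hinv]
      have e1 : ⁅σ s, w⁆ = ⁅s, w⁆ := by
        rw [hs, map_mul, map_mul, cm_left H (hc _), cm_left H (hc _), cm_left H (hc _),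
          cm_left H (hc _), e3 w hw]
        exact (H.zcomm (hc t) _).trans (mul_assoc _ _ _).symm
      rw [e1, H.zsq (hc s)]
    have hsa := hmemC.1 hsC a ha
    rw [hs, cm_left H (cm_upper H ha _), cm_left H (cm_upper H ha _), hta, one_mul,
      hshift t a ha, hy2, hshift (σ t) a ha, hshift t _ (iw (iw ha))] at hsa
    have e4 : ⁅t, σ (σ (σ (σ a)))⁆ = y := by
      rw [hy]
      refine same t _ (iw (iw (iw (iw ha)))) _ (iw ha) ?_
      rw [← map_mul]; exact H.inv _ (hcube a ha)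
    rw [e4] at hsa
    have hy1 : y = 1 := by
      have := H.orbit_prod hyZ
      rwa [mul_assoc, hsa, mul_one] at this
    refine hmemC.2 fun w hw => ?_
    by_cases hwZ : w ∈ Z
    · exact cm_z H hwZ t
    rcases cases3 ha haZ w hw hwZ with h | h | h
    · rw [same t w hw a ha h, hta]
    · rw [same t w hw _ (iw ha) h, ← hy, hy1]
    · rw [same t w hw _ (iw (iw ha)) h, hy2, hy1]
  have hWC : upper H ≤ C := fun w hw => hmemC.2 fun v hv => cm_eq.2 (hcon w hw v hv)
  obtain ⟨t, ht⟩ : ∃ t, t ∉ C := by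
    by_contra h
    push Not at h
    refine huZ (hcen ▸ mem_center_iff.2 fun g => ?_)
    exact cm_eq.1 (hmemC.1 (h g) u hu)
  have hsqC : ∀ g, g * g ∈ C := fun g => hmemC.2 fun w hw => by
    rw [cm_left H (cm_upper H hw g)]; exact H.zsq (cm_upper H hw g)
  -- the centralizer is commutative
  have hCcomm : ∀ a ∈ C, ∀ b ∈ C, a * b = b * a := by
    let f : C → C := fun c => ⟨σ c, hCinv _ c.2⟩
    have hf : Function.Bijective f := Finite.injective_iff_bijective.1 fun a b h =>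
      Subtype.ext (σ.injective (congrArg Subtype.val h))
    let τ : MulAut C := { Equiv.ofBijective f hf with
      map_mul' := fun a b => Subtype.ext (map_mul σ (a : T) b) }
    have hτ : ∀ c : C, ((τ c : C) : T) = σ c := fun c => rfl
    have hK : Suzuki2.Basic.TransInvol (Subgroup.zpowers τ) := by
      refine ⟨?_, fun x y hx1 hx hy1 hy => ?_⟩
      · rintro _ ⟨i, rfl⟩ _ ⟨j, rfl⟩
        exact ((Commute.refl τ).zpow_zpow i j)
      · have hxZ := (H.invol (x : T)).1 (congrArg Subtype.val hx)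
        have hyZ := (H.invol (y : T)).1 (congrArg Subtype.val hy)
        rcases (H.orbit hxZ fun h => hx1 (Subtype.ext h)).2.2.2.2 y hyZ with h | h | h | h
        · exact absurd (Subtype.ext h) hy1
        · exact ⟨1, one_mem _, Subtype.ext h.symm⟩
        · exact ⟨τ, mem_zpowers τ, Subtype.ext ((hτ x).trans h.symm)⟩
        · exact ⟨τ * τ, mul_mem (mem_zpowers τ) (mem_zpowers τ), Subtype.ext (by
            rw [MulAut.mul_apply, hτ, hτ, h])⟩
    intro a ha b hb
    have := Suzuki2.Basic.higman (H.pgroup.to_subgroup C) hK (z := ⟨u, hWC hu⟩)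
      (mem_center_iff.2 fun g => Subtype.ext (cm_eq.1 (hmemC.1 g.2 u hu)))
      (fun h => huZ ((H.invol u).1 (congrArg Subtype.val h))) ⟨a, ha⟩ ⟨b, hb⟩
    exact congrArg Subtype.val this
  have hrootW : ∀ c ∈ C, c * c ∈ Z → c ∈ upper H := by
    intro c hc hcc
    by_cases h1 : c * c = 1
    · exact le_upper H ((H.invol c).1 h1)
    obtain ⟨p, hp, hpp⟩ : ∃ p ∈ upper H, c * c = p * p := by
      rcases sq_cases H hu.1 huZ hcc h1 with h | h | h
      · exact ⟨u, hu, h⟩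
      · exact ⟨_, iw hu, h⟩
      · exact ⟨_, iw (iw hu), h⟩
    have := mul_mem (le_upper H (mul_mem_of_sq H hcc (hCcomm _ hc _ (hWC hp)) hpp))
      ((upper H).inv_mem hp)
    rwa [mul_inv_cancel_right] at this
  have hdown : ∀ c ∈ C, c ∉ upper H → ∃ i : ℕ,
      c ^ 2 ^ i * c ^ 2 ^ i ∈ upper H ∧ c ^ 2 ^ i * c ^ 2 ^ i ∉ Z := by
    intro c hc hcW
    obtain ⟨n, hn⟩ := H.pgroup c
    have hex : ∃ j, c ^ 2 ^ j ∈ upper H := ⟨n, by rw [hn]; exact one_mem _⟩
    obtain ⟨i, hi⟩ : ∃ i, Nat.find hex = i + 1 := ⟨Nat.find hex - 1, by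
      have : Nat.find hex ≠ 0 := fun h => hcW (by simpa [h] using Nat.find_spec hex)
      omega⟩
    have h1 := Nat.find_spec hex
    rw [hi, pow_succ, pow_mul, pow_two] at h1
    exact ⟨i, h1, fun h => Nat.find_min hex (show i < Nat.find hex by omega)
      (hrootW _ (pow_mem hc _) h)⟩
  have fixpt : ∀ g, g ∉ C → ∀ f ∈ C, g * f = f * g → f ∈ Z := by
    intro g hg f hf hgf
    by_contra hfZ
    by_cases hfW : f ∈ upper H
    · exact hg (inj g f hfW hfZ (cm_eq.2 hgf))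
    obtain ⟨i, hi1, hi2⟩ := hdown f hf hfW
    have hc : Commute g (f ^ 2 ^ i * f ^ 2 ^ i) :=
      (Commute.pow_right hgf _).mul_right (Commute.pow_right hgf _)
    exact hg (inj g _ hi1 hi2 (cm_eq.2 hc.eq))
  by_cases hCW : C ≤ upper H
  · have hall : ∀ g, g * g ∈ Z := by
      intro g
      by_cases hg : g ∈ C
      · exact (hCW hg).1
      · exact fixpt g hg _ (hsqC g) (by group)
    have htop : ∀ g, g ∈ upper H := fun g => ⟨hall g, fun r => by
      have e : ⁅g, r⁆ = g * r * (g * r) * ((r⁻¹ * g⁻¹ * r) * (r⁻¹ * g⁻¹ * r)) *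
          (r⁻¹ * r⁻¹) := by
        rw [commutatorElement_def]; group
      rw [e]
      exact Z.mul_mem (Z.mul_mem (hall _) (hall _)) (hall _)⟩
    exact hxy (hcon _ (htop x₀) _ (htop y₀))
  obtain ⟨c, hc, hcW⟩ := SetLike.not_le_iff_exists.1 hCW
  obtain ⟨i, hd1, hd2⟩ := hdown c hc hcW
  set d := c ^ 2 ^ i with hd
  have hdC : d ∈ C := pow_mem hc _
  have key : ∀ g, g ∉ C → ⁅g, d * d⁆ = d * d * (d * d) := by
    intro g hg
    have he : g * d * g⁻¹ ∈ C := hCn g d hdC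
    have h2 : g * (g * d * g⁻¹) * g⁻¹ = d := by
      rw [show g * (g * d * g⁻¹) * g⁻¹ = g * g * d * (g * g)⁻¹ by group,
        hCcomm _ (hsqC g) _ hdC, mul_inv_cancel_right]
    have hfix : g * (d * (g * d * g⁻¹)) = d * (g * d * g⁻¹) * g := by
      rw [← mul_inv_eq_iff_eq_mul,
        show g * (d * (g * d * g⁻¹)) * g⁻¹ = g * d * g⁻¹ * (g * (g * d * g⁻¹) * g⁻¹) by group,
        h2, hCcomm _ hdC _ he]
    have h3 := H.zsq (fixpt g hg _ (mul_mem hdC he) hfix)
    rw [show d * (g * d * g⁻¹) * (d * (g * d * g⁻¹)) = d * (g * d * g⁻¹ * d) * (g * d * g⁻¹) by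
      group, hCcomm _ he _ hdC, show d * (d * (g * d * g⁻¹)) * (g * d * g⁻¹) =
      d * d * (g * (d * d) * g⁻¹) by group] at h3
    rw [commutatorElement_def, eq_inv_of_mul_eq_one_right h3, ← mul_inv_rev, H.zinv hd1.1]
  have hσt : σ t ∉ C := fun h => ht (by simpa using symm_mem C hCinv h)
  have hprod : t * σ t ∈ C := inj _ _ hd1 hd2 (by
    rw [cm_left H (cm_upper H hd1 _), key t ht, key _ hσt]
    exact H.zsq hd1.1)
  refine ht (H.mem_of_fix C hCinv ?_)
  rw [show t⁻¹ * σ t = (t * t)⁻¹ * (t * σ t) by group]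
  exact mul_mem (inv_mem (hsqC t)) hprod

/-- All squares and commutators lie in `Z`. -/
theorem upper_eq_top (hnc : ∃ x y : T, x * y ≠ y * x) : upper H = ⊤ := by
  classical
  have hcen := H.center_eq hnc
  obtain ⟨a, ha, b, hb, hab⟩ := upper_not_commutative H hnc
  have iw : ∀ {w}, w ∈ upper H → σ w ∈ upper H := fun hw => upper_inv H hw
  have hrad : ∀ r ∈ upper H, (∀ v ∈ upper H, r * v = v * r) → r ∈ Z := by
    intro r hr hrc
    by_contra hrZ
    have hσ : ∀ r, (∀ v ∈ upper H, r * v = v * r) → ∀ v ∈ upper H, σ r * v = v * σ r := by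
      intro r hrc v hv
      have h := congrArg σ (hrc _ (symm_mem (upper H) (fun _ h => upper_inv H h) hv))
      simpa using h
    have key : ∀ v ∈ upper H, ∀ w ∈ upper H, v * w = w * v := by
      intro v hv w hw
      by_cases hvZ : v ∈ Z
      · exact (H.zcomm hvZ w).symm
      obtain ⟨p, hpc, hvp⟩ : ∃ p, (∀ v ∈ upper H, p * v = v * p) ∧ v * v = p * p := by
        rcases sq_cases H hr.1 hrZ hv.1 (fun h => hvZ ((H.invol v).1 h)) with h | h | h
        · exact ⟨r, hrc, h⟩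
        · exact ⟨_, hσ r hrc, h⟩
        · exact ⟨_, hσ _ (hσ r hrc), h⟩
      have hz := mul_mem_of_sq H hv.1 (hpc v hv).symm hvp
      calc v * w = v * p * p⁻¹ * w := by group
        _ = v * p * (p⁻¹ * w) := by group
        _ = w * (v * p) * p⁻¹ := by
          rw [show p⁻¹ * w = w * p⁻¹ by
            rw [inv_mul_eq_iff_eq_mul, ← mul_assoc, hpc w hw, mul_inv_cancel_right],
            ← mul_assoc, ← H.zcomm hz w]
        _ = w * v := by group
    exact hab (key a ha b hb)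
  set C : Subgroup T := centralizer (upper H : Set T) with hC
  have hCn : C.Normal := by
    refine ⟨fun d hd t => mem_centralizer_iff.2 fun w hw => ?_⟩
    rw [mem_centralizer_iff] at hd
    have hw' : t⁻¹ * w * t ∈ upper H := by
      have e : t⁻¹ * w * t = ⁅t⁻¹, w⁆ * w := by rw [commutatorElement_def]; group
      rw [e]
      exact mul_mem (le_upper H (cm_upper H hw _)) hw
    have := congrArg (fun g => t * g * t⁻¹) (hd _ hw')
    simpa [mul_assoc] using this
  have hCZ : ∀ g ∈ C, g ∈ Z := by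
    intro g hg
    by_contra hgZ
    obtain ⟨n, hnC, hnW, hnZ⟩ := exists_upper H hcen C hg hgZ
    exact hnZ (hrad n hnW fun v hv => (mem_centralizer_iff.1 hnC v hv).symm)
  have hall : ∀ g : T, g * g ∈ Z := fun g => hCZ _ (mem_centralizer_iff.2 fun w hw => by
    refine (cm_eq.1 ?_).symm
    rw [cm_left H (cm_upper H hw g)]; exact H.zsq (cm_upper H hw g))
  refine eq_top_iff.2 fun g _ => ⟨hall g, fun r => ?_⟩
  have e : ⁅g, r⁆ = g * r * (g * r) * ((r⁻¹ * g⁻¹ * r) * (r⁻¹ * g⁻¹ * r)) * (r⁻¹ * r⁻¹) := by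
    rw [commutatorElement_def]; group
  rw [e]
  exact Z.mul_mem (Z.mul_mem (hall _) (hall _)) (hall _)

end ClassTwo

end Cfsg.Agent.Lib.Fusion.TransInvolutions
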