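import Mathlib
import Cfsg.Agent.Lib.Fusion.TransInvolutions

/-!
Nonabelian `2`-groups with three involutions permuted by an automorphism of `3`-power order have
order `64` and a standard basis; any two groups with such a basis are isomorphic.
-/

set_option autoImplicit false

namespace Cfsg.Agent.Lib.Fusion.TransInvolutions

open Subgroup
open scoped commutatorElement

/-- The relations of the standard basis. -/
structure Rel {G : Type*} [Group G] (b : Fin 6 → G) : Prop where
  z1c : ∀ i, b i * b 4 = b 4 * b i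
  z2c : ∀ i, b i * b 5 = b 5 * b i
  z1q : b 4 * b 4 = 1
  z2q : b 5 * b 5 = 1
  x1q : b 0 * b 0 = b 4
  x2q : b 1 * b 1 = b 5
  y1q : b 2 * b 2 = b 4
  y2q : b 3 * b 3 = b 5
  c10 : ⁅b 1, b 0⁆ = 1
  c32 : ⁅b 3, b 2⁆ = 1
  c20 : ⁅b 2, b 0⁆ = b 4 * b 5
  c30 : ⁅b 3, b 0⁆ = b 5
  c21 : ⁅b 2, b 1⁆ = b 5
  c31 : ⁅b 3, b 1⁆ = b 4

section Adjoin

variable {G : Type*} [Group G]

theorem adjoin_le (s : Set G) (g : G) (hg : g * g ∈ closure s)
    (hn : ∀ x ∈ s, g * x * g⁻¹ ∈ closure s) (n : ℕ) [Finite (closure s)]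
    (hcard : Nat.card (closure s) ≤ n) :
    Finite (closure (insert g s)) ∧ Nat.card (closure (insert g s)) ≤ 2 * n := by
  classical
  set A := closure s with hA
  have hconj : ∀ a ∈ A, g * a * g⁻¹ ∈ A := by
    intro a ha
    exact ((closure_le (A.comap (MulAut.conj g).toMonoidHom)).2 (fun x hx => hn x hx) ha : _)
  have hconj' : ∀ a ∈ A, g⁻¹ * a * g ∈ A := by
    intro a ha
    have h := A.mul_mem (A.mul_mem (A.inv_mem hg) (hconj a ha)) hg
    rwa [show (g * g)⁻¹ * (g * a * g⁻¹) * (g * g) = g⁻¹ * a * g by group] at h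
  let Q : Subgroup G :=
    { carrier := {h | h ∈ A ∨ h * g ∈ A}
      one_mem' := Or.inl A.one_mem
      mul_mem' := by
        rintro a c (ha | ha) (hc | hc)
        · exact Or.inl (A.mul_mem ha hc)
        · exact Or.inr (by rw [mul_assoc]; exact A.mul_mem ha hc)
        · refine Or.inr ?_
          have := A.mul_mem ha (hconj' c hc)
          rwa [show a * g * (g⁻¹ * c * g) = a * c * g by group] at this
        · refine Or.inl ?_
          have := A.mul_mem (A.mul_mem ha (hconj' _ hc)) (A.inv_mem hg)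
          rwa [show a * g * (g⁻¹ * (c * g) * g) * (g * g)⁻¹ = a * c by group] at this
      inv_mem' := by
        rintro a (ha | ha)
        · exact Or.inl (A.inv_mem ha)
        · refine Or.inr ?_
          have := A.mul_mem (hconj _ (A.inv_mem ha)) hg
          rwa [show g * (a * g)⁻¹ * g⁻¹ * (g * g) = a⁻¹ * g by group] at this }
  have hle : closure (insert g s) ≤ Q := (closure_le Q).2 (by
    rintro x (rfl | hx)
    · exact Or.inr hg
    · exact Or.inl (Subgroup.subset_closure hx))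
  let f : Bool × A → G := fun p => if p.1 then (p.2 : G) * g⁻¹ else p.2
  have hsub : (closure (insert g s) : Set G) ⊆ Set.range f := by
    intro x hx
    rcases hle hx with h | h
    · exact ⟨(false, ⟨x, h⟩), rfl⟩
    · exact ⟨(true, ⟨_, h⟩), by simp [f]⟩
  refine ⟨((Set.finite_range f).subset hsub).to_subtype, ?_⟩
  calc Nat.card (closure (insert g s)) ≤ Nat.card (Set.range f) :=
        Nat.card_mono (Set.finite_range f) hsub
    _ ≤ Nat.card (Bool × A) := Finite.card_range_le f
    _ ≤ 2 * n := by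
      rw [Nat.card_prod, Nat.card_eq_fintype_card (α := Bool), Fintype.card_bool]
      exact Nat.mul_le_mul_left 2 hcard

theorem conj_eq_comm_mul (g x : G) : g * x * g⁻¹ = ⁅g, x⁆ * x := by
  rw [commutatorElement_def]; group

theorem card_le_of_rel {b : Fin 6 → G} (R : Rel b) :
    Finite (closure (Set.range b)) ∧ Nat.card (closure (Set.range b)) ≤ 64 := by
  have hc : ∀ (i : Fin 6) (g : G), b i * g = g * b i → g * b i * g⁻¹ = b i := fun i g h => by
    rw [← h, mul_inv_cancel_right]
  have : Finite (closure (∅ : Set G)) := by rw [Subgroup.closure_empty]; infer_instance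
  have m : ∀ {s : Set G} {x : G}, x ∈ s → x ∈ closure s := fun h => Subgroup.subset_closure h
  obtain ⟨f1, c1⟩ := adjoin_le ∅ (b 4) (by rw [R.z1q]; exact one_mem _) (fun x hx => hx.elim) 1
    (by rw [Subgroup.closure_empty, Subgroup.card_bot])
  obtain ⟨f2, c2⟩ := adjoin_le (insert (b 4) ∅) (b 5) (by rw [R.z2q]; exact one_mem _)
    (by
      rintro x (rfl | h)
      · rw [hc 4 _ (R.z1c 5).symm]; exact m (by simp)
      · exact h.elim) _ c1
  obtain ⟨f3, c3⟩ := adjoin_le (insert (b 5) (insert (b 4) ∅)) (b 0) (by rw [R.x1q]; exact m (by simp))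
    (by
      rintro x (rfl | rfl | h)
      · rw [hc 5 _ (R.z2c 0).symm]; exact m (by simp)
      · rw [hc 4 _ (R.z1c 0).symm]; exact m (by simp)
      · exact h.elim) _ c2
  obtain ⟨f4, c4⟩ := adjoin_le (insert (b 0) (insert (b 5) (insert (b 4) ∅))) (b 1)
    (by rw [R.x2q]; exact m (by simp))
    (by
      rintro x (rfl | rfl | rfl | h)
      · rw [conj_eq_comm_mul, R.c10, one_mul]; exact m (by simp)
      · rw [hc 5 _ (R.z2c 1).symm]; exact m (by simp)
      · rw [hc 4 _ (R.z1c 1).symm]; exact m (by simp)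
      · exact h.elim) _ c3
  obtain ⟨f5, c5⟩ := adjoin_le (insert (b 1) (insert (b 0) (insert (b 5) (insert (b 4) ∅)))) (b 2)
    (by rw [R.y1q]; exact m (by simp))
    (by
      rintro x (rfl | rfl | rfl | rfl | h)
      · rw [conj_eq_comm_mul, R.c21]; exact mul_mem (m (by simp)) (m (by simp))
      · rw [conj_eq_comm_mul, R.c20]; exact mul_mem (mul_mem (m (by simp)) (m (by simp))) (m (by simp))
      · rw [hc 5 _ (R.z2c 2).symm]; exact m (by simp)
      · rw [hc 4 _ (R.z1c 2).symm]; exact m (by simp)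
      · exact h.elim) _ c4
  obtain ⟨f6, c6⟩ := adjoin_le
    (insert (b 2) (insert (b 1) (insert (b 0) (insert (b 5) (insert (b 4) ∅))))) (b 3)
    (by rw [R.y2q]; exact m (by simp))
    (by
      rintro x (rfl | rfl | rfl | rfl | rfl | h)
      · rw [conj_eq_comm_mul, R.c32, one_mul]; exact m (by simp)
      · rw [conj_eq_comm_mul, R.c31]; exact mul_mem (m (by simp)) (m (by simp))
      · rw [conj_eq_comm_mul, R.c30]; exact mul_mem (m (by simp)) (m (by simp))
      · rw [hc 5 _ (R.z2c 3).symm]; exact m (by simp)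
      · rw [hc 4 _ (R.z1c 3).symm]; exact m (by simp)
      · exact h.elim) _ c5
  have e : Set.range b =
      insert (b 3) (insert (b 2) (insert (b 1) (insert (b 0) (insert (b 5) (insert (b 4) ∅))))) := by
    ext x
    simp only [Set.mem_range, Set.mem_insert_iff, Set.mem_empty_iff_false, or_false,
      Fin.exists_fin_succ, Fin.succ_zero_eq_one]
    simp [eq_comm]
    tauto
  rw [e]
  exact ⟨f6, c6.trans (by norm_num)⟩

/-- Two groups of order `64` generated by standard bases are isomorphic. -/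
theorem nonempty_equiv {G' : Type*} [Group G'] [Finite G] [Finite G'] {b : Fin 6 → G}
    {b' : Fin 6 → G'} (R : Rel b) (R' : Rel b') (hg : closure (Set.range b) = ⊤)
    (hg' : closure (Set.range b') = ⊤) (h : Nat.card G = 64) (h' : Nat.card G' = 64) :
    Nonempty (G ≃* G') := by
  let c : Fin 6 → G × G' := fun i => (b i, b' i)
  have Rc : Rel c := by
    constructor <;> (try intro i) <;> apply Prod.ext
    all_goals first
      | exact R.z1c _ | exact R'.z1c _ | exact R.z2c _ | exact R'.z2c _ | exact R.z1q | exact R'.z1q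
      | exact R.z2q | exact R'.z2q | exact R.x1q | exact R'.x1q | exact R.x2q | exact R'.x2q
      | exact R.y1q | exact R'.y1q | exact R.y2q | exact R'.y2q | exact R.c10 | exact R'.c10
      | exact R.c32 | exact R'.c32 | exact R.c20 | exact R'.c20 | exact R.c30 | exact R'.c30
      | exact R.c21 | exact R'.c21 | exact R.c31 | exact R'.c31
  obtain ⟨hf, hcard⟩ := card_le_of_rel Rc
  set D := closure (Set.range c)
  let p : D →* G := (MonoidHom.fst G G').comp D.subtype
  let p' : D →* G' := (MonoidHom.snd G G').comp D.subtype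
  have hp : Function.Surjective p := by
    rw [← MonoidHom.range_eq_top, eq_top_iff, ← hg, closure_le]
    rintro _ ⟨i, rfl⟩
    exact ⟨⟨c i, Subgroup.subset_closure ⟨i, rfl⟩⟩, rfl⟩
  have hp' : Function.Surjective p' := by
    rw [← MonoidHom.range_eq_top, eq_top_iff, ← hg', closure_le]
    rintro _ ⟨i, rfl⟩
    exact ⟨⟨c i, Subgroup.subset_closure ⟨i, rfl⟩⟩, rfl⟩
  exact ⟨(MulEquiv.ofBijective p (hp.bijective_of_nat_card_le (h ▸ hcard))).symm.trans
    (MulEquiv.ofBijective p' (hp'.bijective_of_nat_card_le (h' ▸ hcard)))⟩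

end Adjoin

section Nonabelian

variable {T : Type*} [Group T] [Finite T] {σ : MulAut T} {Z : Subgroup T}

theorem even_exponent (H : Hyp σ Z) : ∃ j, Nat.card T = 4 ^ j := by
  classical
  have : Fact (Nat.Prime 3) := ⟨Nat.prime_three⟩
  have : Fintype T := Fintype.ofFinite _
  obtain ⟨k, hk⟩ := H.order
  let π : Equiv.Perm T := σ.toEquiv
  have hπ : π ^ 3 ^ k = 1 := by
    have := congrArg (MulAut.toPerm T) hk
    rwa [map_pow, map_one] at this
  have hsupp : π.supportᶜ = {1} := by
    ext x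
    rw [Finset.mem_compl, Equiv.Perm.mem_support, not_not, Finset.mem_singleton]
    exact ⟨fun h => H.fix h, fun h => h ▸ σ.map_one⟩
  have hmod := Equiv.Perm.card_compl_support_modEq hπ
  rw [hsupp, Finset.card_singleton] at hmod
  have : Fact (Nat.Prime 2) := ⟨Nat.prime_two⟩
  obtain ⟨m, hm⟩ := IsPGroup.iff_card.1 H.pgroup
  rw [← Nat.card_eq_fintype_card, hm] at hmod
  rcases Nat.even_or_odd m with ⟨j, hj⟩ | ⟨j, hj⟩
  · exact ⟨j, by rw [hm, hj, ← two_mul, pow_mul]; norm_num⟩
  · exfalso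
    have h4 : 4 ^ j % 3 = 1 := by rw [Nat.pow_mod]; norm_num
    rw [hj, pow_succ, pow_mul] at hmod
    norm_num [Nat.ModEq, Nat.mul_mod, h4] at hmod

theorem exists_basis (H : Hyp σ Z) (hnc : ∃ x y : T, x * y ≠ y * x) :
    Nat.card T = 64 ∧ ∃ b : Fin 6 → T, Rel b ∧ closure (Set.range b) = ⊤ := by
  classical
  obtain ⟨x₀, y₀, hxy⟩ := hnc
  have htop := upper_eq_top H ⟨x₀, y₀, hxy⟩
  have hs : ∀ x : T, x * x ∈ Z := fun x => ((mem_upper H).1 (htop ▸ mem_top x)).1
  have hc : ∀ x y : T, ⁅x, y⁆ ∈ Z := fun x y => ((mem_upper H).1 (htop ▸ mem_top x)).2 y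
  have sym : ∀ a b : T, ⁅b, a⁆ = ⁅a, b⁆ := fun a b => cm_symm H (hc a b)
  have addl : ∀ a b t : T, ⁅a * b, t⁆ = ⁅a, t⁆ * ⁅b, t⁆ := fun a b t => cm_left H (hc b t)
  have addr : ∀ t a b : T, ⁅t, a * b⁆ = ⁅t, a⁆ * ⁅t, b⁆ := fun t a b => cm_right H (hc t a) (hc t b)
  have sq2 : ∀ a b : T, a * b * (a * b) = a * a * (b * b) * ⁅a, b⁆ := fun a b => by
    rw [sq_mul H (hc b a), sym]
  have addz : ∀ (t a : T) {z : T}, z ∈ Z → ⁅t, a * z⁆ = ⁅t, a⁆ := fun t a z hz => by
    rw [addr, cm_z H hz, mul_one]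
  have addz' : ∀ (t a : T) {z : T}, z ∈ Z → ⁅a * z, t⁆ = ⁅a, t⁆ := fun t a z hz => by
    rw [addl, cm_z' H hz, mul_one]
  have hx₀ : x₀ ∉ Z := fun h => hxy (H.zcomm h y₀).symm
  have sqne : ∀ {x : T}, x ∉ Z → x * x ≠ 1 := fun hx h => hx ((H.invol _).1 h)
  have cover : ∀ {a b w : T}, a ∈ Z → b ∈ Z → a ≠ 1 → b ≠ 1 → a ≠ b → w ∈ Z →
      w = 1 ∨ w = a ∨ w = b ∨ w = a * b := by
    intro a b w ha hb ha1 hb1 hab hw
    obtain ⟨-, -, h3, -, hall⟩ := H.orbit ha ha1
    rcases hall b hb with h | h | h | h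
    · exact absurd h hb1
    · exact absurd h.symm hab
    · rcases hall w hw with h' | h' | h' | h'
      · exact Or.inl h'
      · exact Or.inr (Or.inl h')
      · exact Or.inr (Or.inr (Or.inl (h'.trans h.symm)))
      · exact Or.inr (Or.inr (Or.inr (by rw [h', h3, h])))
    · rw [h3] at h
      have hσ : σ a = a * b := by rw [h, ← mul_assoc, H.zsq ha, one_mul]
      rcases hall w hw with h' | h' | h' | h'
      · exact Or.inl h'
      · exact Or.inr (Or.inl h')
      · exact Or.inr (Or.inr (Or.inr (h'.trans hσ)))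
      · exact Or.inr (Or.inr (Or.inl (by rw [h', h3, ← h])))
  have hcardT : ∃ j, Nat.card T = 4 ^ j := even_exponent H
  have hZlt : 4 < Nat.card T := by
    have h := Nat.card_le_card_of_injective (fun z : Z => (z : T)) Subtype.val_injective
    rw [H.cardZ] at h
    rcases lt_or_eq_of_le h with h | h
    · exact h
    · exfalso
      exact hx₀ (by rw [Subgroup.eq_top_of_card_eq Z (H.cardZ.trans h)]; exact mem_top _)
  -- centralizer of a commuting pair
  have pair : ∀ {u r x : T}, u ∉ Z → r ∉ Z → u * r ∉ Z → ⁅u, r⁆ = 1 → ⁅u, x⁆ = 1 → ⁅r, x⁆ = 1 →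
      x ∈ Z ∨ x * u ∈ Z ∨ x * r ∈ Z ∨ x * (u * r) ∈ Z := by
    intro u r x hu hr hur hc0 hxu hxr
    have hne : u * u ≠ r * r := fun h => hur (mul_mem_of_sq H (hs u) (cm_eq.1 hc0) h)
    rcases cover (hs u) (hs r) (sqne hu) (sqne hr) hne (hs x) with h | h | h | h
    · exact Or.inl ((H.invol x).1 h)
    · exact Or.inr (Or.inl (mul_mem_of_sq H (hs x) (cm_eq.1 (by rw [sym]; exact hxu)) h))
    · exact Or.inr (Or.inr (Or.inl (mul_mem_of_sq H (hs x) (cm_eq.1 (by rw [sym]; exact hxr)) h)))
    · refine Or.inr (Or.inr (Or.inr (mul_mem_of_sq H (hs x) (cm_eq.1 ?_) ?_)))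
      · rw [addr, sym u x, sym r x, hxu, hxr, one_mul]
      · rw [h, sq2, hc0, mul_one]
  -- the pairing map
  let fmap : T → T → T →* Z × Z := fun u r =>
    { toFun := fun x => (⟨⁅u, x⁆, hc u x⟩, ⟨⁅r, x⁆, hc r x⟩)
      map_one' := Prod.ext (Subtype.ext (cm_z H Z.one_mem u)) (Subtype.ext (cm_z H Z.one_mem r))
      map_mul' := fun x y => Prod.ext (Subtype.ext (addr u x y)) (Subtype.ext (addr r x y)) }
  have kerle : ∀ {u r : T}, u ∉ Z → r ∉ Z → u * r ∉ Z → ⁅u, r⁆ = 1 →
      Nat.card (fmap u r).ker ≤ 16 := by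
    intro u r hu hr hur hc0
    let g : Fin 4 × Z → T := fun p => ![1, u, r, u * r] p.1 * (p.2 : T)
    have hsub : ((fmap u r).ker : Set T) ⊆ Set.range g := by
      intro x hx
      have h1 : ⁅u, x⁆ = 1 := congrArg (fun p : Z × Z => (p.1 : T)) hx
      have h2 : ⁅r, x⁆ = 1 := congrArg (fun p : Z × Z => (p.2 : T)) hx
      have key : ∀ (i : Fin 4), x * ![1, u, r, u * r] i ∈ Z → x ∈ Set.range g := by
        intro i hi
        have hp := hs (![1, u, r, u * r] i)
        refine ⟨(i, ⟨_, Z.mul_mem hi (Z.inv_mem hp)⟩), ?_⟩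
        show ![1, u, r, u * r] i * _ = x
        rw [H.zcomm (Z.mul_mem hi (Z.inv_mem hp))]
        group
      rcases pair hu hr hur hc0 h1 h2 with h | h | h | h
      · exact key 0 (by simpa using h)
      · exact key 1 (by simpa using h)
      · exact key 2 (by simpa using h)
      · exact key 3 (by simpa using h)
    calc Nat.card (fmap u r).ker ≤ Nat.card (Set.range g) :=
          Nat.card_mono (Set.finite_range g) hsub
      _ ≤ Nat.card (Fin 4 × Z) := Finite.card_range_le g
      _ = 16 := by rw [Nat.card_prod, Nat.card_fin, H.cardZ]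
  have rangele : ∀ {u r : T}, u ∉ Z → r ∉ Z → u * r ∉ Z → ⁅u, r⁆ = 1 →
      Nat.card (fmap u r).range ≤ 4 := by
    intro u r hu hr hur hc0
    by_contra hlt
    set I := (fmap u r).range with hI
    have h12 : u * u ≠ r * r := fun h => hur (mul_mem_of_sq H (hs u) (cm_eq.1 hc0) h)
    set z1 : Z := ⟨u * u, hs u⟩ with hz1
    set z2 : Z := ⟨r * r, hs r⟩ with hz2
    have n1 : z1 ≠ 1 := fun h => sqne hu (congrArg Subtype.val h)
    have n2 : z2 ≠ 1 := fun h => sqne hr (congrArg Subtype.val h)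
    have n12 : z1 ≠ z2 := fun h => h12 (congrArg Subtype.val h)
    have forb : ∀ a b : Z, z1 * a ≠ 1 → z2 * b ≠ 1 → z1 * a ≠ z2 * b → (a, b) ≠ 1 →
        (a, b) ∉ I := by
      rintro a b ha hb hab hne ⟨x, hx⟩
      have ea : ⁅u, x⁆ = a := congrArg (fun p : Z × Z => (p.1 : T)) hx
      have eb : ⁅r, x⁆ = b := congrArg (fun p : Z × Z => (p.2 : T)) hx
      have done' : ∀ p : T, ⁅u, p⁆ = 1 → ⁅r, p⁆ = 1 → x * p ∈ Z → False := by
        intro p h1 h2 h
        apply hne
        have hu1 := cm_z H h u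
        have hr1 := cm_z H h r
        rw [addr, h1, mul_one, ea] at hu1
        rw [addr, h2, mul_one, eb] at hr1
        exact Prod.ext (Subtype.ext hu1) (Subtype.ext hr1)
      have huu : ⁅u, u⁆ = 1 := cm_eq.2 rfl
      have hrr : ⁅r, r⁆ = 1 := cm_eq.2 rfl
      have hru : ⁅r, u⁆ = 1 := by rw [sym]; exact hc0
      rcases cover (Z.mul_mem (hs u) a.2) (Z.mul_mem (hs r) b.2)
          (fun h => ha (Subtype.ext h)) (fun h => hb (Subtype.ext h))
          (fun h => hab (Subtype.ext h)) (hs x) with h | h | h | h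
      · exact done' 1 (cm_z H Z.one_mem u) (cm_z H Z.one_mem r) (by rwa [mul_one, ← H.invol])
      · refine done' u huu hru ((H.invol _).1 ?_)
        rw [sq2, h, sym u x, ea, show u * u * (a : T) * (u * u) * a =
          u * u * ((a : T) * (u * u)) * a by group, H.zcomm (hs u) (a : T),
          show u * u * (u * u * (a : T)) * a = (u * u * (u * u)) * ((a : T) * a) by group,
          H.zsq (hs u), H.zsq a.2, one_mul]
      · refine done' r hc0 hrr ((H.invol _).1 ?_)
        rw [sq2, h, sym r x, eb, show r * r * (b : T) * (r * r) * b =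
          r * r * ((b : T) * (r * r)) * b by group, H.zcomm (hs r) (b : T),
          show r * r * (r * r * (b : T)) * b = (r * r * (r * r)) * ((b : T) * b) by group,
          H.zsq (hs r), H.zsq b.2, one_mul]
      · refine done' (u * r) ?_ ?_ ((H.invol _).1 ?_)
        · rw [addr, huu, hc0, one_mul]
        · rw [addr, hru, hrr, one_mul]
        · rw [sq2 x, sq2 u, hc0, mul_one, h, addr, sym u x, sym r x, ea, eb]
          have hab' : u * u * a * (r * r * b) ∈ Z :=
            Z.mul_mem (Z.mul_mem (hs u) a.2) (Z.mul_mem (hs r) b.2)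
          have e : u * u * (r * r) * ((a : T) * b) = u * u * a * (r * r * b) := by
            rw [show u * u * (r * r) * ((a : T) * b) = u * u * ((r * r) * a) * b by group,
              ← H.zcomm (hs r) (a : T)]
            group
          rw [mul_assoc (u * u * (a : T) * (r * r * b)), e]
          exact H.zsq hab'
    have hcZ : ∀ a b : Z, a * b = b * a := fun a b => Subtype.ext (H.zcomm b.2 a)
    have q1 : z1 * z1 = 1 := Subtype.ext (H.zsq (hs u))
    have q2 : z2 * z2 = 1 := Subtype.ext (H.zsq (hs r))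
    have p3 : z1 * (z1 * z2) = z2 := by rw [← mul_assoc, q1, one_mul]
    have p4 : z2 * (z1 * z2) = z1 := by rw [hcZ z1 z2, ← mul_assoc, q2, one_mul]
    have p5 : z2 * z1 = z1 * z2 := hcZ _ _
    have n3 : z1 * z2 ≠ 1 := fun h => n12 (by
      rw [← inv_eq_of_mul_eq_one_right h, inv_eq_of_mul_eq_one_right q1])
    have n13 : z1 * z2 ≠ z1 := fun h => n2 (mul_eq_left.1 h)
    have n23 : z1 * z2 ≠ z2 := fun h => n1 (mul_eq_right.1 h)
    have g1 : (z1 * z2, z1) ∉ I := forb _ _ (by rw [p3]; exact n2) (by rw [p5]; exact n3)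
      (by rw [p3, p5]; exact n23.symm) (fun h => n3 (congrArg Prod.fst h))
    have g2 : (z2, z1 * z2) ∉ I := forb _ _ n3 (by rw [p4]; exact n1) (by rw [p4]; exact n13)
      (fun h => n2 (congrArg Prod.fst h))
    have f1 : ((1 : Z), z1) ∉ I := forb _ _ (by rw [mul_one]; exact n1) (by rw [p5]; exact n3)
      (by rw [mul_one, p5]; exact n13.symm) (fun h => n1 (congrArg Prod.snd h))
    have f2 : (z2, (1 : Z)) ∉ I := forb _ _ n3 (by rw [mul_one]; exact n2)
      (by rw [mul_one]; exact n23) (fun h => n2 (congrArg Prod.fst h))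
    have f3 : (z1 * z2, z1 * z2) ∉ I := forb _ _ (by rw [p3]; exact n2) (by rw [p4]; exact n1)
      (by rw [p3, p4]; exact n12.symm) (fun h => n3 (congrArg Prod.fst h))
    have hd := I.card_mul_index
    rw [Nat.card_prod, H.cardZ] at hd
    have hpos : I.index ≠ 0 := Subgroup.index_ne_zero_of_finite
    have hidx : I.index = 2 ∨ I.index = 1 := by
      have : 5 * I.index ≤ 16 := by
        rw [show (4 : ℕ) * 4 = 16 from rfl] at hd
        calc 5 * I.index ≤ Nat.card I * I.index := Nat.mul_le_mul_right _ (by omega)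
          _ = 16 := hd
      have h3 : I.index ≠ 3 := fun h => by rw [h] at hd; omega
      omega
    rcases hidx with hidx | hidx
    · have hm := fun {a b : Z × Z} (ha : a ∉ I) (hb : b ∉ I) =>
        (Subgroup.mul_mem_iff_of_index_two hidx (a := a) (b := b)).2 (iff_of_false ha hb)
      have hA : (z1, z2) ∈ I := by
        have := hm g1 g2
        rwa [Prod.mk_mul_mk, mul_assoc, q2, mul_one, p3] at this
      have hB : (z2, z1) ∈ I := by
        have := hm f1 f2
        rwa [Prod.mk_mul_mk, one_mul, mul_one] at this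
      have := I.mul_mem hA hB
      rw [Prod.mk_mul_mk, p5] at this
      exact f3 this
    · rw [Subgroup.index_eq_one] at hidx
      exact f1 (hidx ▸ mem_top _)
  -- the order
  obtain ⟨j, hj⟩ := hcardT
  have hj3 : 3 ≤ j := by
    by_contra hj'
    have hj2 : j = 2 := by
      rcases (by omega : j = 0 ∨ j = 1 ∨ j = 2) with rfl | rfl | rfl <;> simp at hj <;> omega
    subst hj2
    have hu := hx₀
    set u := x₀
    have hu1 : σ u ∉ Z := fun h => hu (by simpa using symm_mem Z H.inv h)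
    have hu2 : σ (σ u) ∉ Z := fun h => hu1 (by simpa using symm_mem Z H.inv h)
    obtain ⟨o1, o2, o3, -, -⟩ := H.orbit (hs u) (sqne hu)
    have e1 : σ u * σ u = σ (u * u) := (map_mul σ u u).symm
    have e2 : σ (σ u) * σ (σ u) = σ (σ (u * u)) := by rw [map_mul, map_mul]
    have hzz : ∀ x z : T, z ∈ Z → x * z * (x * z) = x * x := fun x z hz => by
      rw [sq2, H.zsq hz, cm_z H hz, mul_one, mul_one]
    let g : Fin 4 × Z → T := fun p => ![1, u, σ u, σ (σ u)] p.1 * (p.2 : T)
    have hone : (1 : T) * 1 = 1 := one_mul 1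
    have hginj : Function.Injective g := by
      rintro ⟨i, z⟩ ⟨i', z'⟩ h
      have hsq := congrArg (fun x => x * x) h
      simp only [g, hzz _ _ z.2, hzz _ _ z'.2] at hsq
      have hii : i = i' := by
        have a0 := sqne hu
        have a1 := sqne hu1
        have a2 := sqne hu2
        have a3 : σ u * σ u ≠ u * u := e1 ▸ o2
        have a4 : σ (σ u) * σ (σ u) ≠ u * u := by
          rw [e2, o3]; exact fun h => o1 (mul_eq_left.1 h)
        have a5 : σ (σ u) * σ (σ u) ≠ σ u * σ u := by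
          rw [e2, e1, o3]; exact fun h => sqne hu (mul_eq_right.1 h)
        fin_cases i <;> fin_cases i' <;>
          simp [a0, a1, a2, a3, a4, a5, Ne.symm a0, Ne.symm a1, Ne.symm a2, Ne.symm a3, Ne.symm a4,
            Ne.symm a5] at hsq ⊢
      subst hii
      exact Prod.ext rfl (Subtype.ext (mul_left_cancel h))
    have hgsur := (hginj.bijective_of_nat_card_le (by
      rw [hj, Nat.card_prod, Nat.card_fin, H.cardZ]; norm_num)).2
    obtain ⟨⟨i, z⟩, hiz⟩ := hgsur (u * σ u)
    have hi : i = 3 := by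
      have hz : ∀ {a b : T}, a * b ∈ Z → a * a = b * b := by
        intro a b h
        have hb : b = a * ((a * a)⁻¹ * (a * b)) := by group
        conv_rhs => rw [hb]
        rw [hzz _ _ (Z.mul_mem (Z.inv_mem (hs a)) h)]
      fin_cases i
      · exfalso
        simp [g] at hiz
        exact o2 (e1 ▸ (hz (hiz ▸ z.2)).symm)
      · exfalso
        simp [g] at hiz
        exact hu1 (hiz ▸ z.2)
      · exfalso
        simp [g] at hiz
        have : σ u * (z : T) = σ u * (⁅u, σ u⁆ * u) := by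
          rw [hiz, ← mul_assoc, H.zcomm (hc u (σ u)) (σ u), mul_assoc, commutatorElement_def]
          group
        have hz' := mul_left_cancel this
        apply hu
        rw [show u = ⁅u, σ u⁆⁻¹ * z by rw [hz']; group]
        exact Z.mul_mem (Z.inv_mem (hc _ _)) z.2
      · rfl
    subst hi
    simp [g] at hiz
    have hc1 : ⁅u, σ u⁆ = 1 := by
      apply H.moves _ (hc _ _)
      have := addz (σ u) (σ (σ u)) z.2
      rw [hiz, addr, cm_eq.2 (rfl : σ u * σ u = σ u * σ u), mul_one, sym] at this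
      rw [map_commutatorElement, ← this]
    obtain ⟨⟨i2, w2⟩, hi2⟩ := hgsur y₀
    apply hxy
    rw [← cm_eq, ← hi2]
    have hc2 : ⁅u, σ (σ u)⁆ = 1 := by
      have := addz u (σ (σ u)) z.2
      rw [hiz, addr, hc1, cm_eq.2 (rfl : u * u = u * u), mul_one] at this
      exact this.symm
    have hc3 : ⁅σ u, σ (σ u)⁆ = 1 := by rw [← map_commutatorElement, hc1, map_one]
    have hall : ∀ i i' : Fin 4, ⁅![1, u, σ u, σ (σ u)] i, ![1, u, σ u, σ (σ u)] i'⁆ = 1 := by
      intro i i'
      fin_cases i <;> fin_cases i' <;>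
        simp [hc1, hc2, hc3, sym u (σ u), sym u (σ (σ u)), sym (σ u) (σ (σ u)),
          cm_z H Z.one_mem, cm_z' H Z.one_mem]
    simp only [g]
    rw [addz _ _ w2.2]
    exact hall 1 i2
  have h64' : 64 ≤ Nat.card T := by
    rw [hj]; exact le_trans (by norm_num) (Nat.pow_le_pow_right (by norm_num) hj3)
  have hcentcard : ∀ u : T, 16 ≤ Nat.card (centralizer ({u} : Set T)) := by
    intro u
    let cu : T →* Z :=
      { toFun := fun x => ⟨⁅u, x⁆, hc u x⟩
        map_one' := Subtype.ext (cm_z H Z.one_mem u)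
        map_mul' := fun x y => Subtype.ext (addr u x y) }
    have hk : cu.ker = centralizer ({u} : Set T) := by
      ext x
      rw [MonoidHom.mem_ker, mem_centralizer_singleton_iff]
      exact ⟨fun h => (cm_eq.1 (congrArg Subtype.val h)).symm,
        fun h => Subtype.ext (cm_eq.2 h.symm)⟩
    have hle : Nat.card cu.range ≤ 4 := H.cardZ ▸ Subgroup.card_le_card_group _
    have h := Subgroup.card_mul_index cu.ker
    rw [Subgroup.index_ker, hk] at h
    have := Nat.mul_le_mul_left (Nat.card (centralizer ({u} : Set T))) hle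
    omega
  have h64 : Nat.card T = 64 := by
    refine le_antisymm ?_ h64'
    obtain ⟨r, hr, hru⟩ : ∃ r, ⁅x₀, r⁆ = 1 ∧ r ∉ Z ∧ x₀ * r ∉ Z := by
      by_contra hcon
      push Not at hcon
      let g : Fin 2 × Z → T := fun p => ![1, x₀] p.1 * (p.2 : T)
      have hsub : (centralizer ({x₀} : Set T) : Set T) ⊆ Set.range g := by
        intro r hr
        have hr' : ⁅x₀, r⁆ = 1 := cm_eq.2 (mem_centralizer_singleton_iff.1 hr).symm
        by_cases h : r ∈ Z
        · exact ⟨(0, ⟨r, h⟩), by simp [g]⟩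
        · have h' := hcon r hr' h
          refine ⟨(1, ⟨_, Z.mul_mem (Z.inv_mem (hs x₀)) h'⟩), ?_⟩
          show x₀ * _ = r
          group
      have h1 : Nat.card (centralizer ({x₀} : Set T)) ≤ Nat.card (Set.range g) :=
        Nat.card_mono (Set.finite_range g) hsub
      have h2 : Nat.card (Set.range g) ≤ Nat.card (Fin 2 × Z) := Finite.card_range_le g
      rw [Nat.card_prod, Nat.card_fin, H.cardZ] at h2
      have := hcentcard x₀
      omega
    have hk := kerle hx₀ hru.1 hru.2 hr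
    have hR := rangele hx₀ hru.1 hru.2 hr
    rw [← Subgroup.card_mul_index (fmap x₀ r).ker, Subgroup.index_ker]
    exact le_trans (Nat.mul_le_mul hk hR) (by norm_num)
  refine ⟨h64, ?_⟩
  -- an element fixed by the cube
  obtain ⟨u, hu, hu3⟩ : ∃ u, u ∉ Z ∧ σ (σ (σ u)) = u := by
    obtain ⟨k, hk⟩ := H.order
    set z := x₀ * x₀ with hz
    have hz1 : z ≠ 1 := sqne hx₀
    obtain ⟨o1, o2, o3, o4, o5⟩ := H.orbit (hs x₀) hz1
    let A := {x : T // x * x = z}
    let f : Fin 3 × A → {x : T // x ∉ Z} := fun p => ⟨![p.2.1, σ p.2.1, σ (σ p.2.1)] p.1, by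
      have h0 : p.2.1 ∉ Z := fun h => hz1 (p.2.2 ▸ H.zsq h)
      have h1 : σ p.2.1 ∉ Z := fun h => h0 (by simpa using symm_mem Z H.inv h)
      have h2 : σ (σ p.2.1) ∉ Z := fun h => h1 (by simpa using symm_mem Z H.inv h)
      obtain ⟨i, a⟩ := p
      fin_cases i <;> assumption⟩
    have hsqf : ∀ p, ((f p).1 * (f p).1) = ![z, σ z, σ (σ z)] p.1 := by
      rintro ⟨i, a⟩
      fin_cases i <;> simp [f, ← map_mul, a.2]
    have hf : Function.Bijective f := by
      constructor
      · rintro ⟨i, a⟩ ⟨i', a'⟩ h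
        have hv := congrArg Subtype.val h
        have hq := hsqf (i, a)
        rw [h, hsqf] at hq
        have b1 : z ≠ σ z := Ne.symm o2
        have b2 : σ (σ z) ≠ z := by rw [o3]; exact fun h => o1 (mul_eq_left.1 h)
        have b3 : σ (σ z) ≠ σ z := by rw [o3]; exact fun h => hz1 (mul_eq_right.1 h)
        fin_cases i <;> fin_cases i' <;>
          simp [b1, b2, b3, Ne.symm b1, Ne.symm b2, Ne.symm b3] at hq <;>
          simp [f] at hv <;> exact Prod.ext rfl (Subtype.ext hv)
      · rintro ⟨x, hx⟩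
        have pre : ∀ y, ∃ y', σ y' = y := fun y => ⟨σ.symm y, σ.apply_symm_apply y⟩
        rcases o5 _ (hs x) with h | h | h | h
        · exact absurd h (sqne hx)
        · exact ⟨(0, ⟨x, h⟩), rfl⟩
        · obtain ⟨a, rfl⟩ := pre x
          exact ⟨(1, ⟨a, σ.injective (by rw [map_mul]; exact h)⟩), rfl⟩
        · obtain ⟨a, rfl⟩ := pre x
          obtain ⟨c, rfl⟩ := pre a
          exact ⟨(2, ⟨c, σ.injective (σ.injective (by rw [map_mul, map_mul]; exact h))⟩), rfl⟩
    have hA : Nat.card A = 20 := by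
      have h := Nat.card_eq_of_bijective f hf
      rw [Nat.card_prod, Nat.card_fin] at h
      have h' : Nat.card {x : T // x ∉ Z} + Nat.card {x : T // x ∈ Z} = Nat.card T := by
        rw [← Nat.card_sum]
        exact Nat.card_congr ((Equiv.sumComm _ _).trans (Equiv.sumCompl fun x => x ∈ Z))
      rw [h64, show Nat.card {x : T // x ∈ Z} = 4 from H.cardZ] at h'
      omega
    let π : Equiv.Perm A := Equiv.ofBijective
      (fun a => ⟨σ (σ (σ a.1)), by rw [← map_mul, ← map_mul, ← map_mul, a.2, o4]⟩)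
      (Finite.injective_iff_bijective.1 fun a b h =>
        Subtype.ext (σ.injective (σ.injective (σ.injective (congrArg Subtype.val h)))))
    have hπ : ∀ (n : ℕ) a, ((π ^ n) a).1 = (σ ^ (3 * n)) a.1 := by
      intro n
      induction n with
      | zero => intro a; rfl
      | succ n ih =>
        intro a
        rw [pow_succ', Equiv.Perm.mul_apply, show 3 * (n + 1) = 1 + (1 + (1 + 3 * n)) by ring,
          pow_add, pow_add, pow_add, pow_one, MulAut.mul_apply, MulAut.mul_apply, MulAut.mul_apply,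
          ← ih]
        rfl
    have : Fact (Nat.Prime 3) := ⟨Nat.prime_three⟩
    have : Fintype A := Fintype.ofFinite _
    obtain ⟨a, ha⟩ := Equiv.Perm.exists_fixed_point_of_prime (p := 3) (n := k)
      (by rw [← Nat.card_eq_fintype_card, hA]; norm_num) (σ := π)
      (Equiv.ext fun a => Subtype.ext (by rw [hπ, mul_comm, pow_mul, hk, one_pow]; rfl))
    exact ⟨a.1, fun h => hz1 (a.2 ▸ H.zsq h), congrArg Subtype.val ha⟩
  -- invariant planes
  have plane : ∀ x : T, σ (σ (σ x)) = x →
      ∃ z ∈ Z, σ (σ x) = x * σ x * z ∧ ⁅x, σ x⁆ = 1 := by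
    intro x hx
    set s := x * σ x * σ (σ x) with hs'
    have hsZ : s ∈ Z := by
      refine H.mem_of_fix Z H.inv ?_
      rw [hs', map_mul, map_mul, hx]
      rw [show (x * σ x * σ (σ x))⁻¹ * (σ x * σ (σ x) * x) = ⁅(σ x * σ (σ x))⁻¹, x⁻¹⁆ by
        rw [commutatorElement_def]; group]
      exact hc _ _
    refine ⟨(x * σ x * (x * σ x))⁻¹ * s, Z.mul_mem (Z.inv_mem (hs _)) hsZ, ?_, ?_⟩
    · rw [hs']; group
    · apply H.moves _ (hc _ _)
      have e : σ (σ x) = x * σ x * ((x * σ x * (x * σ x))⁻¹ * s) := by rw [hs']; group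
      rw [map_commutatorElement, e, addz _ _ (Z.mul_mem (Z.inv_mem (hs _)) hsZ), addr,
        cm_eq.2 (rfl : σ x * σ x = σ x * σ x), mul_one, sym]
  obtain ⟨zu, hzu, hu2, huc⟩ := plane u hu3
  set r := σ u with hrdef
  have hr : r ∉ Z := fun h => hu (by simpa [hrdef] using symm_mem Z H.inv h)
  have hr2 : σ r ∉ Z := fun h => hr (by simpa using symm_mem Z H.inv h)
  have hur : u * r ∉ Z := fun h => hr2 (by rw [hu2]; exact Z.mul_mem h hzu)
  set K := (fmap u r).ker with hK
  have memK : ∀ x, x ∈ K ↔ ⁅u, x⁆ = 1 ∧ ⁅r, x⁆ = 1 := fun x =>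
    ⟨fun h => ⟨congrArg (fun p : Z × Z => (p.1 : T)) h, congrArg (fun p : Z × Z => (p.2 : T)) h⟩,
      fun h => Prod.ext (Subtype.ext h.1) (Subtype.ext h.2)⟩
  have hKinv : ∀ x ∈ K, σ x ∈ K := by
    intro x hx
    obtain ⟨h1, h2⟩ := (memK x).1 hx
    have e1 : ⁅r, σ x⁆ = 1 := by rw [hrdef, ← map_commutatorElement, h1, map_one]
    refine (memK _).2 ⟨?_, e1⟩
    have e2 : ⁅σ r, σ x⁆ = 1 := by rw [← map_commutatorElement, h2, map_one]
    rwa [hu2, addz' _ _ hzu, addl, e1, mul_one] at e2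
  have hK3 : ∀ x ∈ K, σ (σ (σ x)) = x := by
    intro x hx
    obtain ⟨h1, h2⟩ := (memK x).1 hx
    have hr3 : σ (σ (σ r)) = r := congrArg σ hu3
    have key : ∀ p : T, σ (σ (σ p)) = p → x * p ∈ Z → σ (σ (σ x)) = x := by
      intro p hp h
      have := H.cube h
      rw [map_mul, map_mul, map_mul, hp] at this
      exact mul_right_cancel this
    rcases pair hu hr hur huc h1 h2 with h | h | h | h
    · exact key 1 (by simp) (by simpa using h)
    · exact key u hu3 h
    · exact key r hr3 h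
    · exact key (u * r) (by rw [map_mul, map_mul, map_mul, hr3]; congr 1) h
  have hKle : Nat.card K ≤ 16 := kerle hu hr hur huc
  obtain ⟨v₀, hv₀⟩ : ∃ v, v ∉ K := by
    by_contra h
    push Not at h
    rw [(eq_top_iff' K).2 h, Subgroup.card_top, h64] at hKle
    omega
  have hT3 : ∀ v, σ (σ (σ v)) = v := by
    intro v
    set p := v⁻¹ * σ (σ (σ v)) with hp
    have hpK : p ∈ K := by
      have hr3 : σ (σ (σ r)) = r := congrArg σ hu3
      have hinv : ∀ t : T, t⁻¹ = t * (t * t)⁻¹ := fun t => by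
        rw [mul_inv_rev, ← mul_assoc, mul_inv_cancel, one_mul]
      refine (memK p).2 ⟨?_, ?_⟩
      · rw [hp, addr, hinv v, addz _ _ (Z.inv_mem (hs v))]
        conv_lhs => arg 2; arg 1; rw [← hu3]
        rw [← map_commutatorElement, ← map_commutatorElement, ← map_commutatorElement,
          H.cube (hc u v), H.zsq (hc u v)]
      · rw [hp, addr, hinv v, addz _ _ (Z.inv_mem (hs v))]
        conv_lhs => arg 2; arg 1; rw [← hr3]
        rw [← map_commutatorElement, ← map_commutatorElement, ← map_commutatorElement,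
          H.cube (hc r v), H.zsq (hc r v)]
    have hpow : ∀ n : ℕ, (σ ^ (3 * n)) v = v * p ^ n := by
      intro n
      induction n with
      | zero => simp
      | succ n ih =>
        rw [show 3 * (n + 1) = 1 + (1 + (1 + 3 * n)) by ring, pow_add, pow_add, pow_add, pow_one,
          MulAut.mul_apply, MulAut.mul_apply, MulAut.mul_apply, ih, map_mul, map_mul, map_mul,
          hK3 _ (pow_mem hpK n), show σ (σ (σ v)) = v * p by rw [hp]; group, mul_assoc, ← pow_succ']
    obtain ⟨k, hk⟩ := H.order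
    have h := hpow (3 ^ k)
    rw [mul_comm, pow_mul, hk, one_pow, MulAut.one_apply, left_eq_mul] at h
    obtain ⟨i, hi⟩ := H.pgroup p
    have hd := Nat.dvd_gcd (orderOf_dvd_of_pow_eq_one h) (orderOf_dvd_of_pow_eq_one hi)
    have hco : Nat.gcd (3 ^ k) (2 ^ i) = 1 := Nat.Coprime.pow k i (by norm_num)
    rw [hco, Nat.dvd_one, orderOf_eq_one_iff] at hd
    exact (inv_mul_eq_one.1 (hp.symm.trans hd)).symm
  obtain ⟨v, hvK, hvsq⟩ : ∃ v, v ∉ K ∧ v * v = u * u := by
    have hv0Z : v₀ ∉ Z := fun h =>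
      hv₀ ((memK v₀).2 ⟨cm_z H h u, cm_z H h r⟩)
    have h1 : σ v₀ ∉ K := fun h => hv₀ (by simpa using symm_mem K hKinv h)
    have h2 : σ (σ v₀) ∉ K := fun h => h1 (by simpa using symm_mem K hKinv h)
    rcases sq_cases H (hs v₀) hv0Z (hs u) (sqne hu) with h | h | h
    · exact ⟨v₀, hv₀, h.symm⟩
    · exact ⟨_, h1, h.symm⟩
    · exact ⟨_, h2, h.symm⟩
  obtain ⟨zv, hzv, hv2, hvc⟩ := plane v (hT3 v)
  set s := σ v with hsdef
  have hsK : s ∉ K := fun h => hvK (by simpa [hsdef] using symm_mem K hKinv h)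
  set a := ⁅u, v⁆ with ha
  set b := ⁅u, s⁆ with hb
  set c := ⁅r, v⁆ with hcc
  set d := ⁅r, s⁆ with hdd
  have haZ : a ∈ Z := hc _ _
  have hbZ : b ∈ Z := hc _ _
  have hd1 : d = σ a := by rw [hdd, ha, hrdef, hsdef, map_commutatorElement]
  have hσb : σ b = c * d := by
    rw [hb, map_commutatorElement, ← hrdef, hv2, addz _ _ hzv, addr]
  have hσc : σ c = b * d := by
    rw [hcc, map_commutatorElement, ← hsdef, hu2, addz' _ _ hzu, addl]
  have hce : c = σ b * σ a := by
    rw [hσb, hd1, mul_assoc, H.zsq (H.inv _ haZ), mul_one]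
  have hae : a = σ b := by
    rw [hd1, hce, map_mul] at hσc
    have p1 := H.orbit_prod haZ
    have p2 := H.orbit_prod hbZ
    rw [mul_assoc] at p1 p2
    have q1 : a = σ a * σ (σ a) := by
      rw [← H.zinv (Z.mul_mem (H.inv _ haZ) (H.inv _ (H.inv _ haZ)))]
      exact eq_inv_of_mul_eq_one_left p1
    have q2 : b * σ (σ b) = σ b := by
      have q : b = σ b * σ (σ b) := by
        rw [← H.zinv (Z.mul_mem (H.inv _ hbZ) (H.inv _ (H.inv _ hbZ)))]
        exact eq_inv_of_mul_eq_one_left p2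
      conv_lhs => arg 1; rw [q]
      rw [mul_assoc, H.zsq (H.inv _ (H.inv _ hbZ)), mul_one]
    rw [← q2, q1]
    have h' : σ (σ a) = σ (σ b) * b * σ a := by
      have e := congrArg (fun x => σ (σ b) * x) hσc
      simp only [← mul_assoc, H.zsq (H.inv _ (H.inv _ hbZ)), one_mul] at e
      exact e
    rw [h', H.zcomm (H.inv _ haZ) (σ (σ b) * b), ← mul_assoc, H.zsq (H.inv _ haZ), one_mul,
      H.zcomm hbZ]
  obtain ⟨o1, o2, o3, o4, o5⟩ := H.orbit (hs u) (sqne hu)
  have hcb : c = b := by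
    rw [hce, hae]
    have p2 := H.orbit_prod hbZ
    rw [mul_assoc] at p2
    rw [← H.zinv (Z.mul_mem (H.inv _ hbZ) (H.inv _ (H.inv _ hbZ)))]
    exact (eq_inv_of_mul_eq_one_left p2).symm
  have hr_sq : r * r = σ (u * u) := (map_mul σ u u).symm
  have hs_sq : s * s = σ (u * u) := by rw [hsdef, ← map_mul, hvsq]
  have hb1 : b ≠ 1 := by
    intro h
    refine hvK ((memK v).2 ⟨?_, ?_⟩)
    · rw [← ha, hae, h, map_one]
    · rw [← hcc, hcb, h]
  have hb3 : b ≠ u * u * σ (u * u) := by
    intro h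
    have hZ' : u * s ∈ Z := by
      rw [← H.invol, sq2, ← hb, h, hs_sq]
      exact H.zsq (Z.mul_mem (hs u) (H.inv _ (hs u)))
    have hKu : u * s ∈ K := (memK _).2 ⟨cm_z H hZ' u, cm_z H hZ' r⟩
    exact hsK ((K.mul_mem_cancel_left ((memK u).2 ⟨cm_eq.2 rfl, by rw [sym]; exact huc⟩)).1 hKu)
  have hgen : ∀ G : Subgroup T, u ∈ G → r ∈ G → v ∈ G → s ∈ G → u * u ∈ G → σ (u * u) ∈ G →
      G = ⊤ := by
    intro G gu gr gv gs g1 g2
    have hZG : ∀ z ∈ Z, z ∈ G := by
      intro z hz
      rcases o5 z hz with h | h | h | h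
      · rw [h]; exact one_mem _
      · rw [h]; exact g1
      · rw [h]; exact g2
      · rw [h, o3]; exact mul_mem g1 g2
    have hKG : ∀ x ∈ K, x ∈ G := by
      intro x hx
      obtain ⟨h1, h2⟩ := (memK x).1 hx
      rcases pair hu hr hur huc h1 h2 with h | h | h | h
      · exact hZG x h
      · exact (G.mul_mem_cancel_right gu).1 (hZG _ h)
      · exact (G.mul_mem_cancel_right gr).1 (hZG _ h)
      · exact (G.mul_mem_cancel_right (mul_mem gu gr)).1 (hZG _ h)
    let f := fmap u r
    let e : Fin 4 → f.range := fun i => ⟨f (![1, v, s, v * s] i), ⟨_, rfl⟩⟩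
    have hfK : ∀ x y, f x = f y → x * y⁻¹ ∈ K := fun x y h => by
      show f (x * y⁻¹) = 1
      rw [map_mul, map_inv, h, mul_inv_cancel]
    have hvs : v * s⁻¹ ∉ K := by
      intro hk
      have h1 := ((memK _).1 hk).1
      rw [addr, show s⁻¹ = s * (s * s)⁻¹ by group, addz _ _ (Z.inv_mem (hs s)), ← ha, ← hb,
        hae] at h1
      have := eq_inv_of_mul_eq_one_left h1
      rw [H.zinv hbZ] at this
      exact hb1 (H.moves b hbZ this)
    have nfv : f v ≠ 1 := hvK
    have nfs : f s ≠ 1 := hsK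
    have nfvs : f v ≠ f s := fun h => hvs (hfK _ _ h)
    have einj : Function.Injective e := by
      intro i i' h
      have h' : f (![1, v, s, v * s] i) = f (![1, v, s, v * s] i') := congrArg Subtype.val h
      have nprod : f v * f s ≠ 1 := fun h2 => nfvs (by
        rw [eq_inv_of_mul_eq_one_left h2]
        exact Prod.ext (Subtype.ext (H.zinv (f s).1.2)) (Subtype.ext (H.zinv (f s).2.2)))
      fin_cases i <;> fin_cases i' <;>
        simp [nfv, nfs, nfvs, nprod, Ne.symm nfv, Ne.symm nfs, Ne.symm nfvs, Ne.symm nprod] at h' ⊢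
    have ebij := einj.bijective_of_nat_card_le (by
      rw [Nat.card_fin]; exact rangele hu hr hur huc)
    rw [eq_top_iff]
    intro x _
    obtain ⟨i, hi⟩ := ebij.2 ⟨f x, ⟨x, rfl⟩⟩
    have hx := hKG _ (hfK _ _ (congrArg Subtype.val hi).symm)
    have hp : ![1, v, s, v * s] i ∈ G := by
      fin_cases i
      · exact one_mem G
      · exact gv
      · exact gs
      · exact mul_mem gv gs
    exact (G.mul_mem_cancel_right (G.inv_mem hp)).1 hx
  have hcen : ∀ (i : Fin 6) (b' : Fin 6 → T) {z : T}, z ∈ Z → b' i * z = z * b' i :=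
    fun i b' z hz => H.zcomm hz _
  rcases o5 b hbZ with h | h | h | h
  · exact absurd h hb1
  · -- the swapped case
    refine ⟨![r, u, s, v, σ (u * u), u * u], ?_, ?_⟩
    · constructor
      · intro i; exact H.zcomm (H.inv _ (hs u)) _
      · intro i; exact H.zcomm (hs u) _
      · exact H.zsq (H.inv _ (hs u))
      · exact H.zsq (hs u)
      · exact hr_sq
      · rfl
      · exact hs_sq
      · exact hvsq
      · show ⁅u, r⁆ = 1; exact huc
      · show ⁅v, s⁆ = 1; exact hvc
      · show ⁅s, r⁆ = σ (u * u) * (u * u)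
        rw [sym, ← hdd, hd1, hae, h, o3, H.zcomm (hs u)]
      · show ⁅v, r⁆ = u * u
        rw [sym, ← hcc, hcb, h]
      · show ⁅s, u⁆ = u * u
        rw [sym, ← hb, h]
      · show ⁅v, u⁆ = σ (u * u)
        rw [sym, ← ha, hae, h]
    · apply hgen <;> apply Subgroup.subset_closure
      · exact ⟨1, rfl⟩
      · exact ⟨0, rfl⟩
      · exact ⟨3, rfl⟩
      · exact ⟨2, rfl⟩
      · exact ⟨5, rfl⟩
      · exact ⟨4, rfl⟩
  · refine ⟨![u, r, v, s, u * u, σ (u * u)], ?_, ?_⟩
    · constructor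
      · intro i; exact H.zcomm (hs u) _
      · intro i; exact H.zcomm (H.inv _ (hs u)) _
      · exact H.zsq (hs u)
      · exact H.zsq (H.inv _ (hs u))
      · rfl
      · exact hr_sq
      · exact hvsq
      · exact hs_sq
      · show ⁅r, u⁆ = 1; rw [sym]; exact huc
      · show ⁅s, v⁆ = 1; rw [sym]; exact hvc
      · show ⁅v, u⁆ = u * u * σ (u * u)
        rw [sym, ← ha, hae, h, o3]
      · show ⁅s, u⁆ = σ (u * u)
        rw [sym, ← hb, h]
      · show ⁅v, r⁆ = σ (u * u)
        rw [sym, ← hcc, hcb, h]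
      · show ⁅s, r⁆ = u * u
        rw [sym, ← hdd, hd1, hae, h, o4]
    · apply hgen <;> apply Subgroup.subset_closure
      · exact ⟨0, rfl⟩
      · exact ⟨1, rfl⟩
      · exact ⟨2, rfl⟩
      · exact ⟨3, rfl⟩
      · exact ⟨4, rfl⟩
      · exact ⟨5, rfl⟩
  · exact absurd (h.trans o3) hb3

end Nonabelian

end Cfsg.Agent.Lib.Fusion.TransInvolutions
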