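import Mathlib
import Cfsg.Prelude.Def_Classical
import Cfsg.Agent.Lib.Unitary.Order
import Cfsg.Agent.Lib.Unitary.Transvection

/-!
The Sylow `2`-subgroup of `PSU(3,4)` in coordinates: pairs `(a, b)` with `b + b ^ 4 = a ^ 5` and
multiplication `(a, b) (c, d) = (a + c, b + d + a ^ 4 * c)`.
-/

namespace Cfsg.Agent.Lib.Fusion.U34Sylow

open Matrix Cfsg.Agent.Lib.Unitary

variable {F : Type*} [Field F] [Fintype F]

theorem card_eq (hF : Fintype.card F = 16) : Fintype.card F = 4 ^ 2 := by rw [hF]; norm_num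

theorem two_eq_zero (hF : Fintype.card F = 16) : (2 : F) = 0 := by
  have h : ringChar F = 2 := FiniteField.even_card_iff_char_two.2 (by omega)
  have := ringChar.Nat.cast_ringChar (R := F)
  rw [h] at this
  exact_mod_cast this

/-- The coordinates of an element. -/
abbrev Pairs (F : Type*) [Field F] : Type _ := {p : F × F // p.2 + p.2 ^ 4 = p.1 * p.1 ^ 4}

theorem exists_pair (hF : Fintype.card F = 16) (a : F) : ∃ p : Pairs F, p.1.1 = a := by
  obtain ⟨b, hb⟩ := trace_surj (card_eq hF) (y := a * a ^ 4) (by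
    rw [mul_pow, pow_q_q (card_eq hF), mul_comm])
  exact ⟨⟨(a, b), hb⟩, rfl⟩

theorem card_pairs (hF : Fintype.card F = 16) : Nat.card (Pairs F) = 64 := by
  classical
  have hfib : ∀ a : F, Nat.card {b : F // b + b ^ 4 = a * a ^ 4} = 4 := by
    intro a
    obtain ⟨p, hp⟩ := exists_pair hF a
    have hp2 := p.2
    rw [hp] at hp2
    refine Eq.trans ?_ (card_trace_zero (card_eq hF))
    exact Nat.card_congr
      { toFun := fun b => ⟨b.1 - p.1.2, by
          rw [sub_pow_q (card_eq hF)]; linear_combination b.2 - hp2⟩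
        invFun := fun c => ⟨c.1 + p.1.2, by
          rw [add_pow_q (card_eq hF)]; linear_combination c.2 + hp2⟩
        left_inv := fun b => Subtype.ext (sub_add_cancel _ _)
        right_inv := fun c => Subtype.ext (add_sub_cancel_right _ _) }
  have e : Pairs F ≃ Σ a : F, {b : F // b + b ^ 4 = a * a ^ 4} :=
    { toFun := fun p => ⟨p.1.1, p.1.2, p.2⟩
      invFun := fun s => ⟨(s.1, s.2.1), s.2.2⟩
      left_inv := fun _ => rfl
      right_inv := fun _ => rfl }
  rw [Nat.card_congr e, Nat.card_sigma, Finset.sum_congr rfl fun a _ => hfib a, Finset.sum_const,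
    Finset.card_univ, hF, smul_eq_mul]

/-- The change of basis to a hyperbolic basis. -/
def tMat (x : F) : Matrix (Fin 3) (Fin 3) F := !![1, 0, x; 1, 0, x + 1; 0, 1, 0]

/-- Its inverse. -/
def tInv (x : F) : Matrix (Fin 3) (Fin 3) F := !![1 + x, x, 0; 0, 0, 1; 1, 1, 0]

/-- The unitriangular matrix of a pair. -/
def mMat (a b : F) : Matrix (Fin 3) (Fin 3) F := !![1, a ^ 4, b; 0, 1, a; 0, 0, 1]

/-- The form in the hyperbolic basis. -/
def hyp (u v : Fin 3 → F) : F := u 0 * v 2 ^ 4 + u 1 * v 1 ^ 4 + u 2 * v 0 ^ 4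

theorem mMat_mul (hF : Fintype.card F = 16) (a b c d : F) :
    mMat a b * mMat c d = mMat (a + c) (b + d + a ^ 4 * c) := by
  ext i j
  fin_cases i <;> fin_cases j <;>
    simp [mMat, Matrix.mul_apply, Fin.sum_univ_three, add_pow_q (card_eq hF)] <;> ring

theorem tMat_mul_tInv (hF : Fintype.card F = 16) (x : F) : tMat x * tInv x = 1 := by
  have h2 := two_eq_zero hF
  ext i j
  fin_cases i <;> fin_cases j <;>
    simp [tMat, tInv, Matrix.mul_apply, Fin.sum_univ_three] <;>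
    first
      | ring1
      | linear_combination x * h2
      | linear_combination (x + 1) * h2

theorem tInv_mul_tMat (hF : Fintype.card F = 16) (x : F) : tInv x * tMat x = 1 :=
  mul_eq_one_comm.1 (tMat_mul_tInv hF x)

theorem hyp_mMat (hF : Fintype.card F = 16) {a b : F} (hp : b + b ^ 4 = a * a ^ 4)
    (u v : Fin 3 → F) : hyp (mMat a b *ᵥ u) (mMat a b *ᵥ v) = hyp u v := by
  have h2 := two_eq_zero hF
  simp [hyp, mMat, Matrix.mulVec, dotProduct, Fin.sum_univ_three, add_pow_q (card_eq hF), mul_pow,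
    pow_q_q (card_eq hF)]
  linear_combination (u 2 * v 2 ^ 4) * hp +
    (u 1 * v 2 ^ 4 * a ^ 4 + u 2 * v 1 ^ 4 * a + u 2 * v 2 ^ 4 * (a * a ^ 4)) * h2

theorem herm_tMat (hF : Fintype.card F = 16) {x : F} (hx : x + x ^ 4 = 1) (u v : Fin 3 → F) :
    Cfsg.hermForm 3 F 4 (tMat x *ᵥ u) (tMat x *ᵥ v) = hyp u v := by
  have h2 := two_eq_zero hF
  simp [Cfsg.hermForm, hyp, tMat, Matrix.mulVec, dotProduct, Fin.sum_univ_three,
    add_pow_q (card_eq hF), mul_pow]
  have hx4 : x ^ 4 = x + 1 := by linear_combination hx - x * h2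
  linear_combination (u 0 * v 2 ^ 4 * 2 + u 2 * v 2 ^ 4 * (2 * x + 1)) * hx4 +
    (u 0 * v 0 ^ 4 + u 0 * v 2 ^ 4 * (x + 1) + u 2 * v 0 ^ 4 * x +
      u 2 * v 2 ^ 4 * (x + 1) ^ 2) * h2

/-- The element of `SL(3)` of a pair. -/
def sl (hF : Fintype.card F = 16) (x : F) (p : Pairs F) : Matrix.SpecialLinearGroup (Fin 3) F :=
  ⟨tMat x * mMat p.1.1 p.1.2 * tInv x, by
    rw [det_mul_comm, ← mul_assoc, tInv_mul_tMat hF, one_mul]
    simp [mMat, det_fin_three]⟩

theorem sl_mem (hF : Fintype.card F = 16) {x : F} (hx : x + x ^ 4 = 1) (p : Pairs F) :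
    sl hF x p ∈ Cfsg.SU 3 F 4 := by
  intro u v
  show Cfsg.hermForm 3 F 4 ((tMat x * mMat p.1.1 p.1.2 * tInv x) *ᵥ u)
    ((tMat x * mMat p.1.1 p.1.2 * tInv x) *ᵥ v) = _
  rw [← mulVec_mulVec, ← mulVec_mulVec, ← mulVec_mulVec, ← mulVec_mulVec, herm_tMat hF hx,
    hyp_mMat hF p.2, ← herm_tMat hF hx, mulVec_mulVec, mulVec_mulVec, tMat_mul_tInv hF, one_mulVec,
    one_mulVec]

/-- A group with these coordinates. -/
structure Coords (F : Type*) [Field F] (S : Type*) [Group S] where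
  equiv : Pairs F ≃ S
  mul : ∀ p r : Pairs F, ∃ h, equiv p * equiv r =
    equiv ⟨(p.1.1 + r.1.1, p.1.2 + r.1.2 + p.1.1 ^ 4 * r.1.1), h⟩

theorem exists_coords (hF : Fintype.card F = 16) (P : Sylow 2 (Cfsg.PSU 3 F 4)) :
    Nonempty (Coords F (P : Subgroup (Cfsg.PSU 3 F 4))) := by
  classical
  haveI : Fact (Nat.Prime 2) := ⟨Nat.prime_two⟩
  have hF' := card_eq hF
  obtain ⟨x, hx⟩ := trace_surj hF' (y := 1) (one_pow 4)
  have hclosed : ∀ p r : Pairs F, (p.1.2 + r.1.2 + p.1.1 ^ 4 * r.1.1) +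
      (p.1.2 + r.1.2 + p.1.1 ^ 4 * r.1.1) ^ 4 = (p.1.1 + r.1.1) * (p.1.1 + r.1.1) ^ 4 := by
    intro p r
    rw [add_pow_q hF', add_pow_q hF', add_pow_q hF', mul_pow, pow_q_q hF']
    linear_combination p.2 + r.2
  let pm : Pairs F → Pairs F → Pairs F := fun p r =>
    ⟨(p.1.1 + r.1.1, p.1.2 + r.1.2 + p.1.1 ^ 4 * r.1.1), hclosed p r⟩
  let f : Pairs F → Cfsg.SU 3 F 4 := fun p => ⟨sl hF x p, sl_mem hF hx p⟩
  have hmul : ∀ p r, f p * f r = f (pm p r) := by
    intro p r
    apply Subtype.ext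
    apply Subtype.ext
    show tMat x * mMat p.1.1 p.1.2 * tInv x * (tMat x * mMat r.1.1 r.1.2 * tInv x) =
      tMat x * mMat _ _ * tInv x
    rw [← mMat_mul hF]
    simp only [mul_assoc]
    rw [← mul_assoc (tInv x), tInv_mul_tMat hF, one_mul]
  have hinj : Function.Injective f := by
    intro p r h
    have h' : tMat x * mMat p.1.1 p.1.2 * tInv x = tMat x * mMat r.1.1 r.1.2 * tInv x :=
      congrArg (fun g : Cfsg.SU 3 F 4 => g.1.1) h
    have h'' := congrArg (fun M => tInv x * M * tMat x) h'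
    simp only [← mul_assoc, tInv_mul_tMat hF, one_mul] at h''
    simp only [mul_assoc, tInv_mul_tMat hF, mul_one] at h''
    have e1 := congrArg (fun M : Matrix (Fin 3) (Fin 3) F => M 1 2) h''
    have e2 := congrArg (fun M : Matrix (Fin 3) (Fin 3) F => M 0 2) h''
    simp [mMat] at e1 e2
    exact Subtype.ext (Prod.ext e1 e2)
  let z : Pairs F := ⟨(0, 0), by simp⟩
  have hz : f z = 1 := by
    have h := hmul z z
    rw [show pm z z = z from Subtype.ext (by simp [pm, z])] at h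
    exact mul_eq_right.1 h
  have : Finite (Pairs F) := inferInstanceAs (Finite {p : F × F // _})
  let M : Submonoid (Cfsg.SU 3 F 4) :=
    { carrier := Set.range f
      mul_mem' := by rintro _ _ ⟨p, rfl⟩ ⟨r, rfl⟩; exact ⟨_, (hmul p r).symm⟩
      one_mem' := ⟨z, hz⟩ }
  have hinvM : ∀ g : Cfsg.SU 3 F 4, g ∈ M → g⁻¹ ∈ M := by
    intro g hg
    have hg' : g⁻¹ = g ^ (orderOf g - 1) := by
      rw [inv_eq_iff_mul_eq_one, ← pow_succ', Nat.sub_add_cancel (orderOf_pos g), pow_orderOf_eq_one]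
    rw [hg']
    exact M.pow_mem hg _
  let Q : Subgroup (Cfsg.SU 3 F 4) := { M with inv_mem' := fun {g} hg => hinvM g hg }
  have hQ : (Q : Set (Cfsg.SU 3 F 4)) = Set.range f := rfl
  have hmem : ∀ p, f p ∈ Q := fun p => ⟨p, rfl⟩
  let e : Pairs F ≃ Q := Equiv.ofBijective (fun p => ⟨f p, hmem p⟩)
    ⟨fun p r h => hinj (congrArg Subtype.val h), fun g => by
      have : (g : Cfsg.SU 3 F 4) ∈ (Q : Set (Cfsg.SU 3 F 4)) := g.2
      rw [hQ] at this
      obtain ⟨p, hp⟩ := this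
      exact ⟨p, Subtype.ext hp⟩⟩
  have hc1 : Subgroup.center (Cfsg.SU 3 F 4) = ⊥ := by
    rw [← Subgroup.card_eq_one, card_center_SU hF' (by norm_num)]
    rfl
  let π : Cfsg.SU 3 F 4 ≃* Cfsg.PSU 3 F 4 :=
    MulEquiv.ofBijective (QuotientGroup.mk' _) ⟨by
      rw [← MonoidHom.ker_eq_bot_iff, QuotientGroup.ker_mk', hc1], QuotientGroup.mk'_surjective _⟩
  have hcardSU : Nat.card (Cfsg.SU 3 F 4) = 64 * 975 := by
    have h := card_SU hF' (n := 3) (by norm_num)
    rw [card_GU hF' 3, Finset.prod_range_succ, Finset.prod_range_succ, Finset.prod_range_succ,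
      Finset.prod_range_zero] at h
    norm_num [show ¬ Even 1 by decide, show Even 2 by decide] at h
    rw [Nat.card_eq_fintype_card]; omega
  have hQcard : Nat.card (Q.map π.toMonoidHom) = 2 ^ (Nat.card (Cfsg.PSU 3 F 4)).factorization 2 := by
    rw [← Nat.card_congr (Q.equivMapOfInjective π.toMonoidHom π.injective).toEquiv,
      ← Nat.card_congr e, card_pairs hF, ← Nat.card_congr π.toEquiv, hcardSU,
      show (64 : ℕ) = 2 ^ 6 by norm_num, Nat.factorization_mul (by norm_num) (by norm_num),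
      Nat.Prime.factorization_pow Nat.prime_two, Finsupp.add_apply, Finsupp.single_eq_same,
      Nat.factorization_eq_zero_of_not_dvd (by norm_num), add_zero]
  let S : Sylow 2 (Cfsg.PSU 3 F 4) := Sylow.ofCard _ hQcard
  let E : Q ≃* (P : Subgroup (Cfsg.PSU 3 F 4)) :=
    (Q.equivMapOfInjective π.toMonoidHom π.injective).trans (Sylow.equiv S P)
  refine ⟨⟨e.trans E.toEquiv, fun p r => ⟨hclosed p r, ?_⟩⟩⟩
  show E (e p) * E (e r) = E (e _)
  rw [← map_mul]
  exact congrArg E (Subtype.ext (hmul p r))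

end Cfsg.Agent.Lib.Fusion.U34Sylow
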