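import Cfsg.Agent.Lib.Fusion.EATransitive

/-!
# A group with elementary abelian involution centralizers is `PSL(2, q)`

The Sylow subgroup `T` becomes a field: addition is the group law and multiplication comes from the
regular action of `D` on the involutions of `T`. The action of `G` on `G ⧸ N(T)` then consists of
the fractional linear maps.
-/

namespace Cfsg.Agent.Lib.Fusion.EACentralizers

open Subgroup Matrix

variable {G : Type*} [Group G] [Finite G] {T : Sylow 2 G}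

attribute [local instance] Classical.propDecidable

/-- A base involution of `T` and an involution outside `N(T)`. -/
structure Frame (T : Sylow 2 G) where
  /-- the standing hypothesis -/
  h : EAHyp T
  /-- an involution outside `N(T)` -/
  u : G
  hu : orderOf u = 2
  huH : u ∉ nrm T
  /-- the unit -/
  t₀ : G
  ht₀ : t₀ ∈ T
  ht₀ne : t₀ ≠ 1

theorem EAHyp.nonempty_frame (h : EAHyp T) : Nonempty (Frame T) := by
  obtain ⟨u, hu, huH⟩ := h.exists_invol_notMem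
  obtain ⟨z, hz, hzT, -⟩ := h.exists_central
  exact ⟨⟨h, u, hu, huH, z, hzT, ne_one_of_orderOf hz⟩⟩

namespace Frame

variable (Φ : Frame T)

/-- The field: elements of `T`. -/
def Pt (_ : Frame T) : Type _ := ↥(T : Subgroup G)

/-- The group element of a point. -/
def val {Φ : Frame T} (x : Φ.Pt) : G := Subtype.val x

theorem val_injective : Function.Injective (val (Φ := Φ)) := Subtype.val_injective

theorem val_mem {Φ : Frame T} (x : Φ.Pt) : val x ∈ T := Subtype.prop x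

theorem eq_iff {x y : Φ.Pt} : x = y ↔ val x = val y := (Φ.val_injective.eq_iff).symm

/-- A point from an element of `T`. -/
def pt (g : G) (hg : g ∈ T) : Φ.Pt := ⟨g, hg⟩

theorem val_pt (g : G) (hg : g ∈ T) : val (Φ.pt g hg) = g := rfl

open Classical in
/-- The element of `D` carrying the unit to `g`. -/
noncomputable def delta (g : G) : G :=
  if h : g ∈ T ∧ g ≠ 1 then
    Classical.choose (Φ.h.two_transitive Φ.hu Φ.huH Φ.ht₀ Φ.ht₀ne h.1 h.2)
  else 1

theorem delta_mem (g : G) : Φ.delta g ∈ two T Φ.u := by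
  rw [delta]
  split
  · next h => exact (Classical.choose_spec
      (Φ.h.two_transitive Φ.hu Φ.huH Φ.ht₀ Φ.ht₀ne h.1 h.2)).1
  · exact one_mem _

theorem delta_conj {g : G} (hg : g ∈ T) (hne : g ≠ 1) :
    Φ.delta g * Φ.t₀ * (Φ.delta g)⁻¹ = g := by
  rw [delta, dif_pos ⟨hg, hne⟩]
  exact (Classical.choose_spec (Φ.h.two_transitive Φ.hu Φ.huH Φ.ht₀ Φ.ht₀ne hg hne)).2

theorem delta_unique {g d : G} (hd : d ∈ two T Φ.u) (he : d * Φ.t₀ * d⁻¹ = g) :
    Φ.delta g = d := by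
  have hg : g ∈ T := he ▸ conj_mem_T (mem_two.1 hd).1 Φ.ht₀
  have hne : g ≠ 1 := fun e => Φ.ht₀ne (conj_eq_one_iff.1 (he.trans e))
  have h1 := Φ.delta_conj hg hne
  refine (inv_mul_eq_one.1 (Φ.h.two_free Φ.huH (mul_mem (inv_mem (Φ.delta_mem g)) hd)
    Φ.ht₀ Φ.ht₀ne ?_))
  have : (Φ.delta g)⁻¹ * d * Φ.t₀ * ((Φ.delta g)⁻¹ * d)⁻¹ =
      (Φ.delta g)⁻¹ * (d * Φ.t₀ * d⁻¹) * Φ.delta g := by group
  rw [this, he]
  conv_lhs => arg 1; arg 2; rw [← h1]
  group

noncomputable instance instZero : Zero Φ.Pt := ⟨Φ.pt 1 (one_mem _)⟩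
noncomputable instance instOne : One Φ.Pt := ⟨Φ.pt Φ.t₀ Φ.ht₀⟩
noncomputable instance instAdd : Add Φ.Pt :=
  ⟨fun x y => Φ.pt (val x * val y) (mul_mem (val_mem x) (val_mem y))⟩
noncomputable instance instNeg : Neg Φ.Pt := ⟨fun x => x⟩

open Classical in
noncomputable instance instMul : Mul Φ.Pt :=
  ⟨fun x y => if val x = 1 then 0 else
    Φ.pt (Φ.delta (val x) * val y * (Φ.delta (val x))⁻¹)
      (conj_mem_T (mem_two.1 (Φ.delta_mem _)).1 (val_mem y))⟩

open Classical in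
noncomputable instance instInv : Inv Φ.Pt :=
  ⟨fun x => if val x = 1 then 0 else
    Φ.pt ((Φ.delta (val x))⁻¹ * Φ.t₀ * Φ.delta (val x))
      (by
        have := conj_mem_T (inv_mem (mem_two.1 (Φ.delta_mem (val x))).1) Φ.ht₀
        rwa [inv_inv] at this)⟩

theorem val_zero : val (0 : Φ.Pt) = 1 := rfl
theorem val_one : val (1 : Φ.Pt) = Φ.t₀ := rfl
theorem val_add (x y : Φ.Pt) : val (x + y) = val x * val y := rfl

theorem val_mul (x y : Φ.Pt) (hx : val x ≠ 1) :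
    val (x * y) = Φ.delta (val x) * val y * (Φ.delta (val x))⁻¹ := by
  show val (ite _ _ _) = _
  rw [if_neg hx]; rfl

theorem zero_mul_pt (x y : Φ.Pt) (hx : val x = 1) : x * y = 0 := if_pos hx

theorem mul_zero_pt (x y : Φ.Pt) (hy : val y = 1) : x * y = 0 := by
  by_cases hx : val x = 1
  · exact Φ.zero_mul_pt x y hx
  · rw [Φ.eq_iff, Φ.val_mul x y hx, hy, mul_one, mul_inv_cancel]; rfl

theorem mul_comm_pt (x y : Φ.Pt) : x * y = y * x := by
  by_cases hx : val x = 1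
  · rw [Φ.zero_mul_pt x y hx, Φ.mul_zero_pt y x hx]
  by_cases hy : val y = 1
  · rw [Φ.zero_mul_pt y x hy, Φ.mul_zero_pt x y hy]
  rw [Φ.eq_iff, Φ.val_mul x y hx, Φ.val_mul y x hy]
  have hc := Φ.h.two_comm Φ.hu Φ.huH (Φ.delta_mem (val x)) (Φ.delta_mem (val y))
  calc Φ.delta (val x) * val y * (Φ.delta (val x))⁻¹
      = Φ.delta (val x) * (Φ.delta (val y) * Φ.t₀ * (Φ.delta (val y))⁻¹) *
          (Φ.delta (val x))⁻¹ := by rw [Φ.delta_conj (val_mem y) hy]
    _ = (Φ.delta (val x) * Φ.delta (val y)) * Φ.t₀ *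
          (Φ.delta (val x) * Φ.delta (val y))⁻¹ := by group
    _ = (Φ.delta (val y) * Φ.delta (val x)) * Φ.t₀ *
          (Φ.delta (val y) * Φ.delta (val x))⁻¹ := by rw [hc]
    _ = Φ.delta (val y) * (Φ.delta (val x) * Φ.t₀ * (Φ.delta (val x))⁻¹) *
          (Φ.delta (val y))⁻¹ := by group
    _ = _ := by rw [Φ.delta_conj (val_mem x) hx]

theorem mul_assoc_pt (x y z : Φ.Pt) : x * y * z = x * (y * z) := by
  by_cases hx : val x = 1
  · rw [Φ.zero_mul_pt x y hx, Φ.zero_mul_pt 0 z rfl, Φ.zero_mul_pt x _ hx]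
  by_cases hy : val y = 1
  · rw [Φ.mul_zero_pt x y hy, Φ.zero_mul_pt 0 z rfl, Φ.zero_mul_pt y z hy, Φ.mul_zero_pt x 0 rfl]
  have hxy : val (x * y) ≠ 1 := by
    rw [Φ.val_mul x y hx]
    exact fun e => hy (conj_eq_one_iff.1 e)
  have hd : Φ.delta (val (x * y)) = Φ.delta (val x) * Φ.delta (val y) := by
    refine Φ.delta_unique (mul_mem (Φ.delta_mem _) (Φ.delta_mem _)) ?_
    rw [Φ.val_mul x y hx]
    conv_rhs => arg 1; arg 2; rw [← Φ.delta_conj (val_mem y) hy]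
    group
  rw [Φ.eq_iff, Φ.val_mul _ z hxy, hd, Φ.val_mul x _ hx, Φ.val_mul y z hy]
  group

theorem one_mul_pt (x : Φ.Pt) : 1 * x = x := by
  rw [Φ.eq_iff, Φ.val_mul 1 x Φ.ht₀ne]
  have : Φ.delta (val (1 : Φ.Pt)) = 1 :=
    Φ.delta_unique (one_mem _) (by rw [one_mul, inv_one, mul_one]; rfl)
  rw [this, one_mul, inv_one, mul_one]

theorem mul_inv_pt (x : Φ.Pt) (hx : x ≠ 0) : x * x⁻¹ = 1 := by
  have hx' : val x ≠ 1 := fun e => hx (Φ.eq_iff.2 e)
  rw [Φ.eq_iff, Φ.val_mul x _ hx']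
  show Φ.delta (val x) * val (ite _ _ _) * _ = _
  rw [if_neg hx', val_pt, Φ.val_one]
  group

theorem left_distrib_pt (x y z : Φ.Pt) : x * (y + z) = x * y + x * z := by
  by_cases hx : val x = 1
  · rw [Φ.zero_mul_pt x _ hx, Φ.zero_mul_pt x _ hx, Φ.zero_mul_pt x _ hx, Φ.eq_iff, Φ.val_add,
      Φ.val_zero, one_mul]
  rw [Φ.eq_iff, Φ.val_mul x _ hx, Φ.val_add, Φ.val_add, Φ.val_mul x y hx, Φ.val_mul x z hx]
  group

noncomputable instance instField : Field Φ.Pt :=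
  Field.ofMinimalAxioms Φ.Pt
    (fun a b c => Φ.eq_iff.2 (mul_assoc (val a) (val b) (val c)))
    (fun a => Φ.eq_iff.2 (one_mul (val a)))
    (fun a => Φ.eq_iff.2 (Φ.h.mul_self (val_mem a)))
    Φ.mul_assoc_pt Φ.mul_comm_pt Φ.one_mul_pt Φ.mul_inv_pt
    (if_pos rfl) Φ.left_distrib_pt
    ⟨0, 1, fun e => Φ.ht₀ne (Φ.eq_iff.1 e).symm⟩

instance instFinite : Finite Φ.Pt := inferInstanceAs (Finite ↥(T : Subgroup G))

theorem card_pt : Nat.card Φ.Pt = Nat.card T := rfl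

theorem add_self (x : Φ.Pt) : x + x = 0 := Φ.eq_iff.2 (Φ.h.mul_self (val_mem x))

theorem neg_eq (x : Φ.Pt) : -x = x := rfl

theorem exists_sq (a : Φ.Pt) : ∃ r : Φ.Pt, r * r = a := by
  have hinj : Function.Injective (fun r : Φ.Pt => r * r) := by
    intro x y hxy
    have h1 : (x + y) * (x + y) = 0 := by
      have : (x + y) * (x + y) = x * x + y * y + (x * y + x * y) := by ring
      rw [this, Φ.add_self, add_zero]
      simp only at hxy
      rw [hxy, Φ.add_self]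
    rw [mul_self_eq_zero, add_eq_zero_iff_eq_neg, Φ.neg_eq] at h1
    exact h1
  exact Finite.injective_iff_surjective.1 hinj a

noncomputable instance instDecEq : DecidableEq Φ.Pt := Classical.decEq _

/-- The coset of a point of the projective line. -/
def coset : OnePoint Φ.Pt → G ⧸ nrm T
  | OnePoint.infty => QuotientGroup.mk 1
  | OnePoint.some x => QuotientGroup.mk (val x * Φ.u)

theorem coset_bijective : Function.Bijective Φ.coset := by
  constructor
  · intro a b he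
    cases a <;> cases b
    · rfl
    · exact absurd he.symm (mk_one_ne (EAHyp.tu_notMem Φ.huH (val_mem _)))
    · exact absurd he (mk_one_ne (EAHyp.tu_notMem Φ.huH (val_mem _)))
    · exact congrArg _ (Φ.eq_iff.2
        (Φ.h.coset_rep_unique Φ.hu Φ.huH (val_mem _) (val_mem _) he))
  · intro x
    by_cases hx : x = QuotientGroup.mk 1
    · exact ⟨OnePoint.infty, hx.symm⟩
    · obtain ⟨t, ht, rfl⟩ := Φ.h.exists_rep_point Φ.hu Φ.huH hx
      exact ⟨OnePoint.some (Φ.pt t ht), rfl⟩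

/-- The projective line as the set of cosets. -/
noncomputable def equiv : OnePoint Φ.Pt ≃ G ⧸ nrm T := Equiv.ofBijective _ Φ.coset_bijective

/-- The action of `G` on the projective line. -/
noncomputable def rho : G →* Equiv.Perm (OnePoint Φ.Pt) :=
  (Equiv.permCongrHom Φ.equiv.symm).toMonoidHom.comp (MulAction.toPermHom G (G ⧸ nrm T))

theorem coset_rho (g : G) (p : OnePoint Φ.Pt) : Φ.coset (Φ.rho g p) = g • Φ.coset p := by
  show Φ.equiv (Φ.equiv.symm (g • Φ.equiv p)) = _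
  rw [Equiv.apply_symm_apply]
  rfl

theorem rho_eq_iff (g : G) (p q : OnePoint Φ.Pt) : Φ.rho g p = q ↔ g • Φ.coset p = Φ.coset q := by
  rw [← Φ.coset_bijective.1.eq_iff, coset_rho]

theorem rho_mem_infty {g : G} (hg : g ∈ nrm T) : Φ.rho g OnePoint.infty = OnePoint.infty := by
  rw [rho_eq_iff]
  show g • (QuotientGroup.mk 1 : G ⧸ nrm T) = QuotientGroup.mk 1
  rw [MulAction.Quotient.smul_mk, smul_eq_mul, mul_one, mk_eq_mk, mul_one]
  exact inv_mem hg

theorem rho_add (t : Φ.Pt) (x : Φ.Pt) : Φ.rho (val t) (x : OnePoint Φ.Pt) = ((t + x : Φ.Pt) : OnePoint Φ.Pt) := by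
  rw [rho_eq_iff]
  show val t • (QuotientGroup.mk (val x * Φ.u) : G ⧸ nrm T) = QuotientGroup.mk (val (t + x) * Φ.u)
  rw [MulAction.Quotient.smul_mk, smul_eq_mul, val_add, mul_assoc]

theorem rho_mul {a : Φ.Pt} (ha : a ≠ 0) (x : Φ.Pt) :
    Φ.rho (Φ.delta (val a)) (x : OnePoint Φ.Pt) = ((a * x : Φ.Pt) : OnePoint Φ.Pt) := by
  have ha' : val a ≠ 1 := fun e => ha (Φ.eq_iff.2 e)
  rw [rho_eq_iff]
  show _ • (QuotientGroup.mk (val x * Φ.u) : G ⧸ nrm T) = QuotientGroup.mk (val (a * x) * Φ.u)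
  rw [MulAction.Quotient.smul_mk, smul_eq_mul, Φ.val_mul a x ha']
  set d := Φ.delta (val a)
  have h1 : (QuotientGroup.mk (d * Φ.u) : G ⧸ nrm T) = QuotientGroup.mk Φ.u := by
    rw [mk_eq_mk]
    have := inv_mem (mem_two.1 (Φ.delta_mem (val a))).2
    simpa [mul_assoc] using this
  have h2 := congrArg (fun z : G ⧸ nrm T => (d * val x * d⁻¹) • z) h1
  simp only [MulAction.Quotient.smul_mk, smul_eq_mul] at h2
  rw [← h2]
  congr 1
  group

theorem rho_u_infty : Φ.rho Φ.u OnePoint.infty = ((0 : Φ.Pt) : OnePoint Φ.Pt) := by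
  rw [rho_eq_iff]
  show Φ.u • (QuotientGroup.mk 1 : G ⧸ nrm T) = QuotientGroup.mk (1 * Φ.u)
  rw [MulAction.Quotient.smul_mk, smul_eq_mul, mul_one, one_mul]

theorem rho_u_zero : Φ.rho Φ.u ((0 : Φ.Pt) : OnePoint Φ.Pt) = OnePoint.infty := by
  rw [rho_eq_iff]
  show Φ.u • (QuotientGroup.mk (1 * Φ.u) : G ⧸ nrm T) = QuotientGroup.mk 1
  rw [MulAction.Quotient.smul_mk, smul_eq_mul, one_mul, mul_self_of_orderOf Φ.hu]

theorem exists_rho_u :
    ∃ c : Φ.Pt, c ≠ 0 ∧ ∀ x : Φ.Pt, x ≠ 0 →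
      Φ.rho Φ.u (x : OnePoint Φ.Pt) = ((c * x⁻¹ : Φ.Pt) : OnePoint Φ.Pt) := by
  obtain ⟨c, hc⟩ : ∃ c : Φ.Pt, Φ.rho Φ.u ((1 : Φ.Pt) : OnePoint Φ.Pt) = (c : OnePoint Φ.Pt) := by
    cases h : Φ.rho Φ.u ((1 : Φ.Pt) : OnePoint Φ.Pt) with
    | coe c => exact ⟨c, rfl⟩
    | infty =>
      have h2 := Φ.rho_u_zero
      rw [← h] at h2
      exact absurd (OnePoint.coe_injective ((Φ.rho Φ.u).injective h2)) zero_ne_one
  have huu : Φ.rho Φ.u * Φ.rho Φ.u = 1 := by rw [← map_mul, mul_self_of_orderOf Φ.hu, map_one]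
  have hc0 : c ≠ 0 := by
    rintro rfl
    rw [← Φ.rho_u_infty] at hc
    exact OnePoint.coe_ne_infty _ ((Φ.rho Φ.u).injective hc)
  refine ⟨c, hc0, fun x hx => ?_⟩
  have hx' : val x ≠ 1 := fun e => hx (Φ.eq_iff.2 e)
  set d := Φ.delta (val x) with hd
  have h1 : Φ.rho d ((1 : Φ.Pt) : OnePoint Φ.Pt) = (x : OnePoint Φ.Pt) := by
    rw [hd, Φ.rho_mul hx, mul_one]
  have hmul : Φ.rho Φ.u * Φ.rho d = Φ.rho d⁻¹ * Φ.rho Φ.u := by
    rw [← map_mul, ← map_mul]
    congr 1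
    have := Φ.h.invert Φ.hu Φ.huH d (Φ.delta_mem _)
    rw [← this, inv_mul_cancel_right]
  rw [← h1, show Φ.rho Φ.u (Φ.rho d ((1 : Φ.Pt) : OnePoint Φ.Pt)) =
      (Φ.rho Φ.u * Φ.rho d) ((1 : Φ.Pt) : OnePoint Φ.Pt) from rfl, hmul, Equiv.Perm.mul_apply, hc,
    map_inv]
  show (Φ.rho d).symm _ = _
  rw [Equiv.symm_apply_eq, hd, Φ.rho_mul hx]
  congr 1
  field_simp

theorem rho_injective : Function.Injective Φ.rho := by
  rw [← MonoidHom.ker_eq_bot_iff, eq_bot_iff]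
  intro g hg
  have key : ∀ p, g • Φ.coset p = Φ.coset p := fun p => by
    rw [← Φ.coset_rho, MonoidHom.mem_ker.1 hg]; rfl
  refine Φ.h.sharp (g := g) ?_ ?_ ?_ (key OnePoint.infty) (key ((0 : Φ.Pt) : OnePoint Φ.Pt))
    (key ((1 : Φ.Pt) : OnePoint Φ.Pt))
  · exact fun e => OnePoint.coe_ne_infty _ (Φ.coset_bijective.1 e).symm
  · exact fun e => OnePoint.coe_ne_infty _ (Φ.coset_bijective.1 e).symm
  · exact fun e => zero_ne_one (OnePoint.coe_injective (Φ.coset_bijective.1 e))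

/-- Fractional linear maps. -/
noncomputable def mob : SpecialLinearGroup (Fin 2) Φ.Pt →* Equiv.Perm (OnePoint Φ.Pt) :=
  (MulAction.toPermHom (GL (Fin 2) Φ.Pt) (OnePoint Φ.Pt)).comp SpecialLinearGroup.toGL

theorem mob_infty (A : SpecialLinearGroup (Fin 2) Φ.Pt) :
    Φ.mob A OnePoint.infty =
      if A.1 1 0 = 0 then OnePoint.infty else ((A.1 0 0 / A.1 1 0 : Φ.Pt) : OnePoint Φ.Pt) := by
  show SpecialLinearGroup.toGL A • (OnePoint.infty : OnePoint Φ.Pt) = _
  rw [OnePoint.smul_infty_eq_ite]; rfl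

theorem mob_some (A : SpecialLinearGroup (Fin 2) Φ.Pt) (k : Φ.Pt) :
    Φ.mob A (k : OnePoint Φ.Pt) =
      if A.1 1 0 * k + A.1 1 1 = 0 then OnePoint.infty
      else (((A.1 0 0 * k + A.1 0 1) / (A.1 1 0 * k + A.1 1 1) : Φ.Pt) : OnePoint Φ.Pt) := by
  show SpecialLinearGroup.toGL A • (k : OnePoint Φ.Pt) = _
  rw [OnePoint.smul_some_eq_ite]; rfl

theorem mob_injective : Function.Injective Φ.mob := by
  rw [← MonoidHom.ker_eq_bot_iff, eq_bot_iff]
  intro A hA
  rw [MonoidHom.mem_ker] at hA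
  have h1 : Φ.mob A OnePoint.infty = OnePoint.infty := by rw [hA]; rfl
  rw [mob_infty] at h1
  have hc : A.1 1 0 = 0 := by
    by_contra hc
    rw [if_neg hc] at h1
    exact OnePoint.coe_ne_infty _ h1
  have hdet := A.2
  rw [Matrix.det_fin_two, hc, mul_zero, sub_zero] at hdet
  have hd : A.1 1 1 ≠ 0 := fun e => by simp [e] at hdet
  have hfix : ∀ k : Φ.Pt, (A.1 0 0 * k + A.1 0 1) / A.1 1 1 = k := by
    intro k
    have h2 : Φ.mob A (k : OnePoint Φ.Pt) = k := by rw [hA]; rfl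
    rw [mob_some, hc, zero_mul, zero_add, if_neg hd] at h2
    exact OnePoint.coe_injective h2
  have hb : A.1 0 1 = 0 := by
    have := hfix 0
    rwa [mul_zero, zero_add, div_eq_zero_iff, or_iff_left hd] at this
  have had : A.1 0 0 = A.1 1 1 := by
    have := hfix 1
    rw [mul_one, hb, add_zero, div_eq_one_iff_eq hd] at this
    exact this
  have ha : A.1 1 1 = 1 := by
    rw [had] at hdet
    have h3 : (A.1 1 1 + 1) * (A.1 1 1 + 1) = 0 := by
      have : (A.1 1 1 + 1) * (A.1 1 1 + 1) = A.1 1 1 * A.1 1 1 + 1 + (A.1 1 1 + A.1 1 1) := by ring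
      rw [this, Φ.add_self, hdet, Φ.add_self, zero_add]
    rw [mul_self_eq_zero, add_eq_zero_iff_eq_neg, Φ.neg_eq] at h3
    exact h3
  rw [Subgroup.mem_bot]
  ext i j
  fin_cases i <;> fin_cases j <;> simp [hc, hb, had, ha]

/-- A matrix of determinant one. -/
def sl (a b c d : Φ.Pt) (h : a * d - b * c = 1) : SpecialLinearGroup (Fin 2) Φ.Pt :=
  ⟨!![a, b; c, d], by rw [Matrix.det_fin_two]; simpa using h⟩

theorem affine_eq {g : G} {A : SpecialLinearGroup (Fin 2) Φ.Pt} (hg : g ∈ nrm T)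
    (hA : A.1 1 0 = 0)
    (h : ∀ x : Φ.Pt, Φ.rho g (x : OnePoint Φ.Pt) = (((A.1 0 0 * x + A.1 0 1) / A.1 1 1 : Φ.Pt) : OnePoint Φ.Pt)) :
    Φ.rho g = Φ.mob A := by
  have hdet := A.2
  rw [Matrix.det_fin_two, hA, mul_zero, sub_zero] at hdet
  have hd : A.1 1 1 ≠ 0 := fun e => by simp [e] at hdet
  ext p
  cases p with
  | infty => rw [mob_infty, if_pos hA, Φ.rho_mem_infty hg]
  | coe x => rw [mob_some, hA, zero_mul, zero_add, if_neg hd, h x]

theorem mem_range_affine (a b : Φ.Pt) (ha : a ≠ 0) :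
    ∃ g ∈ nrm T, ∀ x : Φ.Pt, Φ.rho g (x : OnePoint Φ.Pt) = ((a * x + b : Φ.Pt) : OnePoint Φ.Pt) := by
  refine ⟨val b * Φ.delta (val a), mul_mem (T_le (val_mem b)) (mem_two.1 (Φ.delta_mem _)).1,
    fun x => ?_⟩
  rw [map_mul, Equiv.Perm.mul_apply, Φ.rho_mul ha, Φ.rho_add, add_comm]

theorem exists_weyl : ∃ W : SpecialLinearGroup (Fin 2) Φ.Pt, Φ.rho Φ.u = Φ.mob W := by
  obtain ⟨c, hc, hσ⟩ := Φ.exists_rho_u
  obtain ⟨r, rfl⟩ := Φ.exists_sq c
  have hr : r ≠ 0 := fun e => hc (by rw [e, mul_zero])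
  refine ⟨Φ.sl 0 r r⁻¹ 0 (by rw [zero_mul, zero_sub, mul_inv_cancel₀ hr, Φ.neg_eq]), ?_⟩
  ext p
  cases p with
  | infty => rw [mob_infty]; simp [sl, hr, Φ.rho_u_infty]
  | coe x =>
    rw [mob_some]
    by_cases hx : x = 0
    · simp [sl, hx, Φ.rho_u_zero]
    · rw [hσ x hx]
      simp [sl, hx, hr]
      field_simp

theorem range_eq : Φ.rho.range = Φ.mob.range := by
  have hgen : ∀ g : G, g ∈ nrm T →
      ∃ A : SpecialLinearGroup (Fin 2) Φ.Pt, Φ.rho g = Φ.mob A := by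
    intro g hg
    obtain ⟨d, hd, hdt⟩ := Φ.h.decomp Φ.hu Φ.huH hg
    set a : Φ.Pt := Φ.pt (d * Φ.t₀ * d⁻¹) (conj_mem_T (mem_two.1 hd).1 Φ.ht₀) with ha
    have ha0 : a ≠ 0 := fun e => Φ.ht₀ne (conj_eq_one_iff.1 (Φ.eq_iff.1 e))
    have hda : Φ.delta (val a) = d := Φ.delta_unique hd rfl
    set b : Φ.Pt := Φ.pt (d⁻¹ * g) hdt
    obtain ⟨r, hr⟩ := Φ.exists_sq a
    have hr0 : r ≠ 0 := fun e => ha0 (by rw [← hr, e, mul_zero])
    refine ⟨Φ.sl r (r * b) 0 r⁻¹ (by rw [mul_zero, sub_zero, mul_inv_cancel₀ hr0]),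
      Φ.affine_eq hg (by simp [sl]) fun x => ?_⟩
    have hg' : g = Φ.delta (val a) * val b := by rw [hda]; simp [b, val_pt]
    rw [hg', map_mul, Equiv.Perm.mul_apply, Φ.rho_add, Φ.rho_mul ha0, ← hr]
    congr 1
    simp [sl]
    ring
  obtain ⟨W, hW⟩ := Φ.exists_weyl
  apply le_antisymm
  · rintro _ ⟨g, rfl⟩
    by_cases hg : g ∈ nrm T
    · obtain ⟨A, hA⟩ := hgen g hg
      exact ⟨A, hA.symm⟩
    · obtain ⟨t, ht, hte⟩ := Φ.h.exists_coset_rep Φ.hu Φ.huH hg
      rw [mk_eq_mk] at hte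
      have h1 := inv_mem hte
      rw [_root_.mul_inv_rev, inv_inv] at h1
      obtain ⟨A, hA⟩ := hgen _ h1
      obtain ⟨B, hB⟩ := hgen t (T_le ht)
      refine ⟨B * W * A, ?_⟩
      rw [map_mul, map_mul, ← hA, ← hB, ← hW, ← map_mul, ← map_mul]
      congr 1
      group
  · rintro _ ⟨A, rfl⟩
    have haff : ∀ B : SpecialLinearGroup (Fin 2) Φ.Pt, B.1 1 0 = 0 → Φ.mob B ∈ Φ.rho.range := by
      intro B hB
      have hdet := B.2
      rw [Matrix.det_fin_two, hB, mul_zero, sub_zero] at hdet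
      have hd : B.1 1 1 ≠ 0 := fun e => by simp [e] at hdet
      have ha : B.1 0 0 ≠ 0 := fun e => by simp [e] at hdet
      obtain ⟨g, hg, hgx⟩ := Φ.mem_range_affine (B.1 0 0 / B.1 1 1) (B.1 0 1 / B.1 1 1)
        (div_ne_zero ha hd)
      refine ⟨g, Φ.affine_eq hg hB fun x => ?_⟩
      rw [hgx]
      congr 1
      field_simp
    by_cases hA : A.1 1 0 = 0
    · exact haff A hA
    · set y := A.1 0 0 / A.1 1 0 with hy
      have hAi : Φ.mob A OnePoint.infty = (y : OnePoint Φ.Pt) := by rw [mob_infty, if_neg hA]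
      obtain ⟨g, hg⟩ : ∃ g : G, Φ.rho g OnePoint.infty = Φ.mob A OnePoint.infty := by
        refine ⟨val y * Φ.u, ?_⟩
        rw [hAi, map_mul, Equiv.Perm.mul_apply, Φ.rho_u_infty, Φ.rho_add, add_zero]
      obtain ⟨B, hB⟩ : ∃ B, Φ.rho g = Φ.mob B := by
        obtain ⟨t, ht, hte⟩ : ∃ t ∈ T, val y = t := ⟨val y, val_mem y, rfl⟩
        by_cases hgH : g ∈ nrm T
        · exact hgen g hgH
        · obtain ⟨t, ht, hte⟩ := Φ.h.exists_coset_rep Φ.hu Φ.huH hgH
          rw [mk_eq_mk] at hte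
          have h1 := inv_mem hte
          rw [_root_.mul_inv_rev, inv_inv] at h1
          obtain ⟨A', hA'⟩ := hgen _ h1
          obtain ⟨B', hB'⟩ := hgen t (T_le ht)
          refine ⟨B' * W * A', ?_⟩
          rw [map_mul, map_mul, ← hA', ← hB', ← hW, ← map_mul, ← map_mul]
          congr 1
          group
      have h2 : Φ.mob (B⁻¹ * A) OnePoint.infty = OnePoint.infty := by
        rw [map_mul, map_inv, ← hB, Equiv.Perm.mul_apply, ← hg]
        show (Φ.rho g).symm _ = _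
        rw [Equiv.symm_apply_apply]
      have h3 : (B⁻¹ * A).1 1 0 = 0 := by
        by_contra hne
        rw [mob_infty, if_neg hne] at h2
        exact OnePoint.coe_ne_infty _ h2
      have h4 : Φ.mob A = Φ.rho g * Φ.mob (B⁻¹ * A) := by
        rw [hB, ← map_mul, mul_inv_cancel_left]
      rw [h4]
      exact mul_mem ⟨g, rfl⟩ (haff _ h3)

/-- The isomorphism with `SL(2, K)`. -/
theorem nonempty_mulEquiv_sl : Nonempty (G ≃* SpecialLinearGroup (Fin 2) Φ.Pt) :=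
  ⟨(Φ.rho.ofInjective Φ.rho_injective).trans
    ((MulEquiv.subgroupCongr Φ.range_eq).trans (Φ.mob.ofInjective Φ.mob_injective).symm)⟩

end Frame

/-- A carrier of the given size in the lowest universe. -/
def Model (n : ℕ) : Type := Fin n

/-- Its enumeration. -/
def modelEquiv (n : ℕ) : Fin n ≃ Model n := Equiv.refl _

/-- `G ≅ PSL(2, q)` with `q = |T|`. -/
theorem EAHyp.nonempty_mulEquiv_psl (h : EAHyp T) :
    ∃ (F : Type) (_ : Field F) (_ : Fintype F), Fintype.card F = Nat.card T ∧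
      Nonempty (G ≃* Matrix.ProjectiveSpecialLinearGroup (Fin 2) F) := by
  obtain ⟨Φ⟩ := h.nonempty_frame
  let e : Φ.Pt ≃ Model (Nat.card T) :=
    (Finite.equivFinOfCardEq Φ.card_pt).trans (modelEquiv _)
  let fF : Field (Model (Nat.card T)) := e.symm.field
  let fT : Fintype (Model (Nat.card T)) := Fintype.ofEquiv _ (modelEquiv _)
  let r : Φ.Pt ≃+* Model (Nat.card T) :=
    { toFun := e
      invFun := e.symm
      left_inv := e.symm_apply_apply
      right_inv := e.apply_symm_apply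
      map_mul' := fun x y => by
        show e (x * y) = e.symm.symm (e.symm (e x) * e.symm (e y))
        simp
      map_add' := fun x y => by
        show e (x + y) = e.symm.symm (e.symm (e x) + e.symm (e y))
        simp }
  obtain ⟨i⟩ := Φ.nonempty_mulEquiv_sl
  let m : SpecialLinearGroup (Fin 2) Φ.Pt ≃* SpecialLinearGroup (Fin 2) (Model (Nat.card T)) :=
    MonoidHom.toMulEquiv (SpecialLinearGroup.map r.toRingHom)
      (SpecialLinearGroup.map r.symm.toRingHom)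
      (by ext A a b; simp) (by ext A a b; simp)
  have hZ : center (SpecialLinearGroup (Fin 2) (Model (Nat.card T))) = ⊥ := by
    rw [eq_bot_iff]
    intro A hA
    obtain ⟨s, hs, hsA⟩ := Matrix.SpecialLinearGroup.mem_center_iff.1 hA
    rw [Fintype.card_fin, _root_.pow_two] at hs
    have hs1 : s = 1 := by
      apply r.symm.injective
      have h1 : r.symm s * r.symm s = 1 := by rw [← map_mul, hs, map_one]
      have h3 : (r.symm s + 1) * (r.symm s + 1) = 0 := by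
        have : (r.symm s + 1) * (r.symm s + 1) =
            r.symm s * r.symm s + 1 + (r.symm s + r.symm s) := by ring
        rw [this, Φ.add_self, h1, Φ.add_self, zero_add]
      rw [mul_self_eq_zero, add_eq_zero_iff_eq_neg, Φ.neg_eq] at h3
      rw [map_one, h3]
    rw [Subgroup.mem_bot]
    apply Subtype.ext
    rw [← hsA, hs1]
    simp
  exact ⟨Model (Nat.card T), fF, fT, by rw [Fintype.card_congr (modelEquiv (Nat.card T)).symm, Fintype.card_fin],
    ⟨i.trans (m.trans (QuotientGroup.quotientBot.symm.trans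
      (QuotientGroup.quotientMulEquivOfEq hZ.symm)))⟩⟩

end Cfsg.Agent.Lib.Fusion.EACentralizers
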