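import Mathlib
import Cfsg.Prelude.Def_CaseTheorems
import Cfsg.Prelude.Def_TwoFusion
import Cfsg.Agent.Lib.Fusion.Alperin
import Cfsg.Agent.Lib.Suzuki2.Basic

/-!
Four-subgroups of a group of `2`-rank two without an isolated involution.
-/

set_option autoImplicit false

namespace Cfsg.Agent.Lib.Fusion.RankTwoFusionSimple

open Subgroup Alperin

variable {G : Type*} [Group G]

/-- A four-subgroup. -/
structure Four (V : Subgroup G) : Prop where
  card : Nat.card V = 4
  sq : ∀ v ∈ V, v * v = 1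

namespace Four

variable {V : Subgroup G}

theorem inv (F : Four V) {v : G} (hv : v ∈ V) : v⁻¹ = v :=
  inv_eq_of_mul_eq_one_right (F.sq v hv)

theorem comm (F : Four V) {v w : G} (hv : v ∈ V) (hw : w ∈ V) : v * w = w * v := by
  rw [← F.inv (V.mul_mem hv hw), mul_inv_rev, F.inv hv, F.inv hw]

theorem conj (F : Four V) (g : G) : Four (conjS g V) where
  card := (card_conjS g V).trans F.card
  sq := fun x hx => by
    rw [mem_conjS] at hx
    have := F.sq _ hx
    rw [show g⁻¹ * x * g * (g⁻¹ * x * g) = g⁻¹ * (x * x) * g by group] at this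
    rw [show x * x = g * (g⁻¹ * (x * x) * g) * g⁻¹ by group, this]
    group

theorem cases (F : Four V) {z u : G} (hz : z ∈ V) (hu : u ∈ V) (hz1 : z ≠ 1) (hu1 : u ≠ 1)
    (huz : u ≠ z) {w : G} (hw : w ∈ V) : w = 1 ∨ w = z ∨ w = u ∨ w = z * u := by
  have hzu : z * u ≠ 1 := fun h => huz ((inv_eq_of_mul_eq_one_right h).symm.trans (F.inv hz))
  let f : Fin 4 → V := ![1, ⟨z, hz⟩, ⟨u, hu⟩, ⟨z * u, V.mul_mem hz hu⟩]
  have hf : Function.Injective f := by
    intro i j h
    have h' := congrArg Subtype.val h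
    fin_cases i <;> fin_cases j <;>
      simp [f, hz1, hu1, huz, hzu, Ne.symm hz1, Ne.symm hu1, Ne.symm huz, Ne.symm hzu] at h' ⊢
  have : Finite V := Nat.finite_of_card_ne_zero (by rw [F.card]; norm_num)
  obtain ⟨i, hi⟩ := (hf.bijective_of_nat_card_le (by rw [F.card, Nat.card_fin])).2 ⟨w, hw⟩
  have hi' := congrArg Subtype.val hi
  fin_cases i <;> simp [f] at hi' <;> simp [← hi']

theorem exists_ne (F : Four V) (z : G) : ∃ u ∈ V, u ≠ 1 ∧ u ≠ z := by
  by_contra h
  push Not at h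
  have : Finite V := Nat.finite_of_card_ne_zero (by rw [F.card]; norm_num)
  have h2 : Nat.card V ≤ 2 := by
    have : (V : Set G) ⊆ {1, z} := fun x hx => by
      by_cases h1 : x = 1
      · exact Or.inl h1
      · exact Or.inr (h x hx h1)
    refine (Nat.card_mono (Set.toFinite _) this).trans ?_
    rw [Nat.card_coe_set_eq]
    exact (Set.ncard_insert_le _ _).trans (by rw [Set.ncard_singleton])
  rw [F.card] at h2
  omega

theorem absorb [Finite G] (F : Four V) (h2 : Cfsg.PRankLE 2 2 G) {x : G} (hx : x * x = 1)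
    (hc : ∀ v ∈ V, v * x = x * v) : x ∈ V := by
  let A : Subgroup G :=
    { carrier := {y | y ∈ V ∨ y * x ∈ V}
      one_mem' := Or.inl V.one_mem
      mul_mem' := by
        rintro a b (ha | ha) (hb | hb)
        · exact Or.inl (V.mul_mem ha hb)
        · exact Or.inr (by rw [mul_assoc]; exact V.mul_mem ha hb)
        · refine Or.inr ?_
          rw [mul_assoc, hc b hb, ← mul_assoc]
          exact V.mul_mem ha hb
        · refine Or.inl ?_
          have e := hc _ hb
          have : a * x * (b * x) = a * b := by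
            rw [mul_assoc, ← e, show a * (b * x * x) = a * b * (x * x) by group, hx, mul_one]
          exact this ▸ V.mul_mem ha hb
      inv_mem' := by
        rintro a (ha | ha)
        · exact Or.inl (V.inv_mem ha)
        · refine Or.inr ?_
          have := V.inv_mem ha
          have e := hc _ this
          rw [mul_inv_rev, inv_eq_of_mul_eq_one_right hx] at this e
          rw [show x * (x * a⁻¹) = a⁻¹ by rw [← mul_assoc, hx, one_mul]] at e
          rw [← e, show x * a⁻¹ * x * x = x * a⁻¹ * (x * x) by group, hx, mul_one]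
          exact this }
  have hsq : ∀ a ∈ A, a * a = 1 := by
    rintro a (ha | ha)
    · exact F.sq a ha
    · have := F.sq _ ha
      rwa [show a * x * (a * x) = a * (x * (a * x)) by group, ← hc _ ha,
        show a * (a * x * x) = a * a * (x * x) by group, hx, mul_one] at this
  have hcomm : IsMulCommutative A := ⟨⟨fun a b => Subtype.ext (by
    show (a : G) * b = b * a
    rw [← inv_eq_of_mul_eq_one_right (hsq _ (A.mul_mem a.2 b.2)), mul_inv_rev,
      inv_eq_of_mul_eq_one_right (hsq _ a.2), inv_eq_of_mul_eq_one_right (hsq _ b.2)])⟩⟩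
  have hA := h2 A hcomm fun a ha => by rw [pow_two]; exact hsq a ha
  have hVA : V ≤ A := fun v hv => Or.inl hv
  have e : V = A := eq_of_le_of_card_ge hVA (by rw [F.card]; exact hA)
  rw [e]
  exact Or.inr (by rw [hx]; exact V.one_mem)

end Four

theorem mem_normalizer_of [Finite G] {A : Subgroup G} {c : G} (h : ∀ x ∈ A, c * x * c⁻¹ ∈ A) :
    c ∈ normalizer (A : Set G) := by
  refine mem_normalizer_of_conjS_eq (eq_of_le_of_card_ge ?_ (card_conjS c A).ge)
  intro x hx
  rw [mem_conjS] at hx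
  have := h _ hx
  rwa [show c * (c⁻¹ * x * c) * c⁻¹ = x by group] at this

theorem conj_mem {A : Subgroup G} {c x : G} (hc : c ∈ normalizer (A : Set G)) (hx : x ∈ A) :
    c * x * c⁻¹ ∈ A := (mem_normalizer_iff.1 hc x).1 hx

theorem conj_mul' (g a b : G) : g * (a * b) * g⁻¹ = g * a * g⁻¹ * (g * b * g⁻¹) := by group

theorem conj_inj {g a b : G} (h : g * a * g⁻¹ = g * b * g⁻¹) : a = b :=
  mul_left_cancel (mul_right_cancel h)

/-- An element permuting the three involutions of a four-subgroup cyclically. -/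
structure Cyc (h : G) (V : Subgroup G) : Prop where
  mem : h ∈ normalizer (V : Set G)
  moves : ∀ v ∈ V, v ≠ 1 → h * v * h⁻¹ ≠ v

namespace Cyc

variable {V : Subgroup G} {h : G}

theorem conjugate (C : Cyc h V) (k : G) : Cyc (k * h * k⁻¹) (conjS k V) where
  mem := mem_normalizer_conjS C.mem
  moves := fun v hv hv1 he => by
    rw [mem_conjS] at hv
    refine C.moves _ hv (fun h1 => hv1 ?_) ?_
    · rw [show v = k * (k⁻¹ * v * k) * k⁻¹ by group, h1]; group
    · rw [show h * (k⁻¹ * v * k) * h⁻¹ = k⁻¹ * (k * h * k⁻¹ * v * (k * h * k⁻¹)⁻¹) * k by group, he]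

theorem of_map (F : Four V) (hn : h ∈ normalizer (V : Set G)) {z w : G} (hz : z ∈ V) (hw : w ∈ V)
    (hz1 : z ≠ 1) (hw1 : w ≠ 1) (hwz : w ≠ z) (ez : h * z * h⁻¹ = w)
    (ew : h * w * h⁻¹ = z * w) : Cyc h V := by
  refine ⟨hn, fun v hv hv1 he => ?_⟩
  rcases F.cases hz hw hz1 hw1 hwz hv with rfl | rfl | rfl | rfl
  · exact hv1 rfl
  · exact hwz (ez.symm.trans he)
  · rw [ew] at he
    exact hz1 (mul_eq_right.1 he)
  · rw [conj_mul', ez, ew, F.comm hz hw, ← mul_assoc, F.sq w hw, one_mul] at he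
    exact hw1 (left_eq_mul.1 (he.trans (F.comm hw hz)))

/-- The three involutions are an orbit. -/
theorem all (C : Cyc h V) (F : Four V) {v w : G} (hv : v ∈ V) (hv1 : v ≠ 1) (hw : w ∈ V)
    (hw1 : w ≠ 1) : w = v ∨ w = h * v * h⁻¹ ∨ w = h * (h * v * h⁻¹) * h⁻¹ := by
  have hu : h * v * h⁻¹ ∈ V := conj_mem C.mem hv
  have hu1 : h * v * h⁻¹ ≠ 1 := fun e => hv1 (conj_eq_one_iff.1 e)
  have huv := C.moves v hv hv1
  have h3 : v * (h * v * h⁻¹) ≠ 1 := fun e =>
    huv ((inv_eq_of_mul_eq_one_right e).symm.trans (F.inv hv))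
  rcases F.cases hv hu hv1 hu1 huv hw with e | e | e | e
  · exact absurd e hw1
  · exact Or.inl e
  · exact Or.inr (Or.inl e)
  · refine Or.inr (Or.inr ?_)
    rcases F.cases hv hu hv1 hu1 huv (conj_mem C.mem hu) with e' | e' | e' | e'
    · exact absurd (conj_eq_one_iff.1 e') hu1
    · exfalso
      refine C.moves _ (V.mul_mem hv hu) h3 ?_
      rw [conj_mul', e', F.comm hu hv]
    · exact absurd e' (C.moves _ hu hu1)
    · rw [e, e']

/-- A `h`-invariant set containing one involution of `V` contains all of them. -/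
theorem closed (C : Cyc h V) (F : Four V) (Q : G → Prop) (hQ : ∀ x, Q x → Q (h * x * h⁻¹))
    {v : G} (hv : v ∈ V) (hv1 : v ≠ 1) (hQv : Q v) : ∀ w ∈ V, w ≠ 1 → Q w := by
  intro w hw hw1
  rcases C.all F hv hv1 hw hw1 with rfl | rfl | rfl
  · exact hQv
  · exact hQ _ hQv
  · exact hQ _ (hQ _ hQv)

end Cyc

theorem sylow_maximal (S : Sylow 2 G) {N : Subgroup G} (_hSN : (S : Subgroup G) ≤ N) :
    ∀ U : Subgroup G, IsPGroup 2 U → U ≤ N → (S : Subgroup G) ≤ U → U = S :=
  fun _ hU _ hle => S.3 hU hle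

variable [Finite G]

/-- A central involution of a Sylow subgroup. -/
theorem exists_central (h1 : ¬ Cfsg.PRankLE 2 1 G) (S : Sylow 2 G) :
    ∃ z : G, z * z = 1 ∧ z ≠ 1 ∧ z ∈ (S : Subgroup G) ∧ ∀ s ∈ (S : Subgroup G), s * z = z * s := by
  have : Fact (Nat.Prime 2) := ⟨Nat.prime_two⟩
  unfold Cfsg.PRankLE at h1
  push Not at h1
  obtain ⟨A, -, hA2, hAcard⟩ := h1
  have hA : IsPGroup 2 A := fun a => ⟨1, Subtype.ext (by simpa using hA2 a a.2)⟩
  obtain ⟨Q, hQ⟩ := hA.exists_le_sylow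
  have hle := Subgroup.card_le_of_le hQ
  rw [Nat.card_congr (Sylow.equiv Q S).toEquiv] at hle
  have : Nontrivial (S : Subgroup G) := Finite.one_lt_card_iff_nontrivial.1 (by omega)
  have := S.2.center_nontrivial
  obtain ⟨⟨c, hc⟩, hc1⟩ := exists_ne (1 : center (S : Subgroup G))
  obtain ⟨j, hj1, hj⟩ := Suzuki2.Basic.exists_involution_pow S.2 (x := c)
    fun h => hc1 (Subtype.ext h)
  refine ⟨((c ^ 2 ^ j : (S : Subgroup G)) : G), congrArg Subtype.val hj,
    fun h => hj1 (Subtype.ext h), SetLike.coe_mem _, fun s hs => ?_⟩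
  exact congrArg Subtype.val (mem_center_iff.1 (pow_mem hc (2 ^ j)) ⟨s, hs⟩)

/-- A four-subgroup with a `3`-cycle, fully normalized in the Sylow subgroup. -/
theorem exists_cyc (h2 : Cfsg.PRankLE 2 2 G) (hiso : ∀ z : G, ¬ Cfsg.IsIsolatedInvolution z)
    (S : Sylow 2 G) {z : G} (hzz : z * z = 1) (hz1 : z ≠ 1) (hzS : z ∈ (S : Subgroup G))
    (hzc : ∀ s ∈ (S : Subgroup G), s * z = z * s) :
    ∃ V : Subgroup G, Four V ∧ V ≤ S ∧ z ∈ V ∧ IsFullyNormalized 2 (S : Subgroup G) V ∧
      ∃ h, Cyc h V := by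
  classical
  have : Fact (Nat.Prime 2) := ⟨Nat.prime_two⟩
  -- another conjugate of `z` in `S`
  obtain ⟨g, hgS, hgz⟩ : ∃ g : G, g * z * g⁻¹ ∈ (S : Subgroup G) ∧ g * z * g⁻¹ ≠ z := by
    have := hiso z
    rw [Cfsg.IsIsolatedInvolution, not_and] at this
    have := this (orderOf_eq_prime (by rw [pow_two]; exact hzz) hz1)
    push Not at this
    obtain ⟨g, hgc, hgne⟩ := this
    have hSN : (S : Subgroup G) ≤ centralizer ({z} : Set G) := fun s hs =>
      mem_centralizer_singleton_iff.2 (hzc s hs)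
    have hw : g * z * g⁻¹ ∈ centralizer ({z} : Set G) :=
      mem_centralizer_singleton_iff.2 hgc.symm.eq
    have hT : IsPGroup 2 (zpowers (g * z * g⁻¹)) := IsPGroup.of_card (n := 1) (by
      rw [Nat.card_zpowers, pow_one]
      refine orderOf_eq_prime ?_ fun h => hz1 (conj_eq_one_iff.1 h)
      rw [pow_two, ← conj_mul', hzz, mul_one, mul_inv_cancel])
    obtain ⟨c, hc, hcS⟩ := exists_conj_le_of_maximal S.2 hSN (sylow_maximal S hSN) hT
      (zpowers_le.2 hw)
    refine ⟨c * g, ?_, fun h => hgne ?_⟩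
    · have := hcS (conj_mem_conjS (mem_zpowers (g * z * g⁻¹)))
      rwa [show c * (g * z * g⁻¹) * c⁻¹ = c * g * z * (c * g)⁻¹ by group] at this
    · apply conj_inj (g := c)
      rw [show c * (g * z * g⁻¹) * c⁻¹ = c * g * z * (c * g)⁻¹ by group, h,
        mem_centralizer_singleton_iff.1 hc, mul_inv_cancel_right]
  obtain ⟨D, hD, n, hn, hzD, hne⟩ : ∃ D, IsFusionBase 2 (S : Subgroup G) D ∧
      ∃ n ∈ normalizer (D : Set G), z ∈ D ∧ n * z * n⁻¹ ≠ z := by
    by_contra hcon
    push Not at hcon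
    exact hgz (fusion_invariant S (fun x => x = z)
      (fun R hR n hn x hx hxz => by subst hxz; exact hcon R hR n hn hx) z g hzS hgS rfl)
  -- the four-group
  let W : Subgroup G :=
    { carrier := {x | x ∈ D ∧ (∀ d ∈ D, d * x = x * d) ∧ x * x = 1}
      one_mem' := ⟨D.one_mem, fun d _ => by simp, one_mul 1⟩
      mul_mem' := fun {a b} ha hb => ⟨D.mul_mem ha.1 hb.1,
        fun d hd => by rw [← mul_assoc, ha.2.1 d hd, mul_assoc, hb.2.1 d hd, mul_assoc],
        by rw [mul_assoc, ← mul_assoc b, ← hb.2.1 a ha.1, mul_assoc a b b, hb.2.2, mul_one,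
          ha.2.2]⟩
      inv_mem' := fun {a} ha => by
        rw [Set.mem_ofPred_eq, inv_eq_of_mul_eq_one_right ha.2.2]; exact ha }
  have hWN : ∀ c ∈ normalizer (D : Set G), ∀ x ∈ W, c * x * c⁻¹ ∈ W := by
    intro c hc x hx
    refine ⟨conj_mem hc hx.1, fun d hd => ?_, ?_⟩
    · have hd' : c⁻¹ * d * c ∈ D := by simpa using conj_mem (inv_mem hc) hd
      calc d * (c * x * c⁻¹) = c * (c⁻¹ * d * c * x) * c⁻¹ := by group
        _ = c * (x * (c⁻¹ * d * c)) * c⁻¹ := by rw [hx.2.1 _ hd']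
        _ = c * x * c⁻¹ * d := by group
    · rw [← conj_mul', hx.2.2, mul_one, mul_inv_cancel]
  set w := n * z * n⁻¹ with hw
  have hzW : z ∈ W := ⟨hzD, fun d hd => hzc d (hD.1 hd), hzz⟩
  have hwW : w ∈ W := hWN n hn z hzW
  have hw1 : w ≠ 1 := fun h => hz1 (conj_eq_one_iff.1 h)
  have hWS : W ≤ S := fun x hx => hD.1 hx.1
  have hzw : z * w ≠ 1 := fun h => hne ((inv_eq_of_mul_eq_one_right h).symm.trans
    (inv_eq_of_mul_eq_one_right hzz))
  have F : Four W := by
    refine ⟨le_antisymm ?_ ?_, fun x hx => hx.2.2⟩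
    · exact h2 W ⟨⟨fun a b => Subtype.ext (b.2.2.1 a a.2.1)⟩⟩
        fun a ha => by rw [pow_two]; exact ha.2.2
    · rw [← Nat.card_fin 4]
      refine Nat.card_le_card_of_injective
        ![(1 : W), ⟨z, hzW⟩, ⟨w, hwW⟩, ⟨z * w, W.mul_mem hzW hwW⟩] ?_
      intro i j h
      have h' := congrArg Subtype.val h
      fin_cases i <;> fin_cases j <;>
        simp [hz1, hw1, hne, hzw, Ne.symm hz1, Ne.symm hw1, Ne.symm hne, Ne.symm hzw] at h' ⊢
  have hW : ∀ c ∈ normalizer (D : Set G), c ∈ normalizer (W : Set G) := fun c hc =>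
    mem_normalizer_of (hWN c hc)
  set u := z * w with hu
  have huW : u ∈ W := W.mul_mem hzW hwW
  have huz : u ≠ z := fun h => hw1 (mul_eq_left.1 h)
  have huw : u ≠ w := fun h => hz1 (mul_eq_right.1 h)
  have hu' : w * u = z := by rw [hu, F.comm hzW hwW, ← mul_assoc, F.sq w hwW, one_mul]
  obtain ⟨h, C⟩ : ∃ h, Cyc h W := by
    rcases F.cases hzW hwW hz1 hw1 hne (conj_mem (hW n hn) hwW) with e | e | e | e
    · exact absurd (conj_eq_one_iff.1 e) hw1
    swap
    · exact absurd (conj_inj (e.trans hw)) hne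
    swap
    · exact ⟨n, Cyc.of_map F (hW n hn) hzW hwW hz1 hw1 hne rfl e⟩
    -- `n` exchanges `z` and `w`
    have enu : n * u * n⁻¹ = u := by
      rw [hu, conj_mul', ← hw, e, F.comm hwW hzW]
    by_cases hmove : ∃ c ∈ normalizer (D : Set G), c * u * c⁻¹ ≠ u
    · obtain ⟨c, hc, hcu⟩ : ∃ c ∈ normalizer (D : Set G), c * u * c⁻¹ = z := by
        obtain ⟨c, hc, hcu⟩ := hmove
        rcases F.cases hzW hwW hz1 hw1 hne (conj_mem (hW c hc) huW) with e' | e' | e' | e'
        · exact absurd (conj_eq_one_iff.1 e') hzw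
        · exact ⟨c, hc, e'⟩
        · refine ⟨n * c, mul_mem hn hc, ?_⟩
          rw [show n * c * u * (n * c)⁻¹ = n * (c * u * c⁻¹) * n⁻¹ by group, e', e]
        · exact absurd e' hcu
      rcases F.cases hzW hwW hz1 hw1 hne (conj_mem (hW c hc) hzW) with e' | e' | e' | e'
      · exact absurd (conj_eq_one_iff.1 e') hz1
      · exact absurd (conj_inj (hcu.trans e'.symm)) huz
      · refine ⟨c, Cyc.of_map F (hW c hc) hzW hwW hz1 hw1 hne e' ?_⟩
        have h' : c * z * c⁻¹ * (c * w * c⁻¹) = z := by rw [← conj_mul', ← hu, hcu]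
        rw [e'] at h'
        exact mul_left_cancel (a := w) (h'.trans hu'.symm)
      · refine ⟨c * n, Cyc.of_map F (hW _ (mul_mem hc hn)) hzW hwW hz1 hw1 hne ?_ ?_⟩
        · rw [show c * n * z * (c * n)⁻¹ = c * w * c⁻¹ by rw [hw]; group]
          have h' : c * z * c⁻¹ * (c * w * c⁻¹) = z := by rw [← conj_mul', ← hu, hcu]
          rw [e', ← hu] at h'
          exact mul_left_cancel (a := u) (h'.trans (by rw [F.comm huW hwW, hu']))
        · rw [show c * n * w * (c * n)⁻¹ = c * (n * w * n⁻¹) * c⁻¹ by group, e, e']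
    · exfalso
      push Not at hmove
      obtain ⟨a, m, hm, hord⟩ := Nat.exists_eq_pow_mul_and_not_dvd (orderOf_pos n).ne' 2
        (by norm_num)
      have hpar : ∀ i : ℕ, n ^ i * z * (n ^ i)⁻¹ = if Even i then z else w := by
        intro i
        induction i with
        | zero => simp
        | succ i ih =>
          rw [pow_succ', show n * n ^ i * z * (n * n ^ i)⁻¹ = n * (n ^ i * z * (n ^ i)⁻¹) * n⁻¹ by
            group, ih]
          by_cases hi : Even i <;> simp [hi, Nat.even_add_one, hw.symm, e]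
      have hnm : n ^ m * z * (n ^ m)⁻¹ = w := by
        rw [hpar, if_neg (by rw [even_iff_two_dvd]; exact hm)]
      have hT : IsPGroup 2 (zpowers (n ^ m)) := by
        have hdvd : orderOf (n ^ m) ∣ 2 ^ a := orderOf_dvd_of_pow_eq_one (by
          rw [← pow_mul, mul_comm, ← hord, pow_orderOf_eq_one])
        obtain ⟨b, -, hb⟩ := (Nat.dvd_prime_pow Nat.prime_two).1 hdvd
        exact IsPGroup.of_card (by rw [Nat.card_zpowers, hb])
      obtain ⟨c, hc, hcS⟩ := exists_conj_le_of_maximal (S.2.to_le inf_le_left)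
        (inf_le_right (a := (S : Subgroup G))) hD.2.1 hT (zpowers_le.2 (pow_mem hn m))
      set y := c⁻¹ * z * c with hy
      have hyW : y ∈ W := by simpa using hWN c⁻¹ (inv_mem hc) z hzW
      have hfix : n ^ m * y * (n ^ m)⁻¹ = y := by
        have h1 := hzc _ (hcS (conj_mem_conjS (mem_zpowers (n ^ m)))).1
        calc n ^ m * y * (n ^ m)⁻¹
            = c⁻¹ * (c * n ^ m * c⁻¹ * z) * (c * n ^ m * c⁻¹)⁻¹ * c := by rw [hy]; group
          _ = c⁻¹ * (z * (c * n ^ m * c⁻¹)) * (c * n ^ m * c⁻¹)⁻¹ * c := by rw [h1]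
          _ = y := by rw [hy]; group
      rcases F.cases hzW hwW hz1 hw1 hne hyW with e' | e' | e' | e'
      · rw [hy, show c⁻¹ * z * c = c⁻¹ * z * c⁻¹⁻¹ by rw [inv_inv], conj_eq_one_iff] at e'
        exact hz1 e'
      · rw [e', hnm] at hfix
        exact hne hfix
      · rw [e'] at hfix
        exact hne (conj_inj (hfix.trans hnm.symm))
      · have h' := hmove c hc
        rw [← hu] at e'
        rw [← e', hy, show c * (c⁻¹ * z * c) * c⁻¹ = z by group] at h'
        exact huz (e' ▸ h'.symm)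
  obtain ⟨k, hkW, -, hkfn⟩ := exists_fullyNormalized S W hWS
  refine ⟨conjS k W, F.conj k, hkW, ?_, hkfn, k * h * k⁻¹, C.conjugate k⟩
  exact (F.conj k).absorb h2 hzz fun v hv => hzc v (hkW hv)

/-- The centralizer in `S` of a fully normalized four-subgroup is Sylow there, so a `3`-cycle can
be chosen normalizing it. -/
theorem exists_frattini (S : Sylow 2 G) {V : Subgroup G}
    (hfn : IsFullyNormalized 2 (S : Subgroup G) V) {h : G} (C : Cyc h V) :
    ∃ h' : G, Cyc h' V ∧
      h' ∈ normalizer (((S : Subgroup G) ⊓ centralizer (V : Set G) : Subgroup G) : Set G) := by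
  have : Fact (Nat.Prime 2) := ⟨Nat.prime_two⟩
  set T : Subgroup G := (S : Subgroup G) ⊓ centralizer (V : Set G)
  have hT : IsPGroup 2 T := S.2.to_le inf_le_left
  have hCN : centralizer (V : Set G) ≤ normalizer (V : Set G) := fun c hc =>
    mem_normalizer_of fun v hv => by
      rw [← mem_centralizer_iff.1 hc v hv, mul_inv_cancel_right]; exact hv
  have hCc : ∀ c ∈ normalizer (V : Set G), ∀ x ∈ centralizer (V : Set G),
      c * x * c⁻¹ ∈ centralizer (V : Set G) := by
    intro c hc x hx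
    rw [mem_centralizer_iff] at hx ⊢
    intro v hv
    have hv' : c⁻¹ * v * c ∈ V := by simpa using conj_mem (inv_mem hc) hv
    calc v * (c * x * c⁻¹) = c * (c⁻¹ * v * c * x) * c⁻¹ := by group
      _ = c * (x * (c⁻¹ * v * c)) * c⁻¹ := by rw [hx _ hv']
      _ = c * x * c⁻¹ * v := by group
  have hmax : ∀ U : Subgroup G, IsPGroup 2 U → U ≤ centralizer (V : Set G) → T ≤ U → U = T := by
    intro U hU hUC hTU
    obtain ⟨c, hc, hcU⟩ := exists_conj_le_of_maximal (S.2.to_le inf_le_left)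
      (inf_le_right (a := (S : Subgroup G))) hfn hU (hUC.trans hCN)
    have hle : conjS c U ≤ T := le_inf (hcU.trans inf_le_left) fun x hx => by
      rw [mem_conjS] at hx
      simpa [mul_assoc] using hCc c hc _ (hUC hx)
    have := Subgroup.card_le_of_le hle
    rw [card_conjS] at this
    exact (eq_of_le_of_card_ge hTU this).symm
  have hhT : conjS h T ≤ centralizer (V : Set G) := fun x hx => by
    rw [mem_conjS] at hx
    simpa [mul_assoc] using hCc h C.mem _ hx.2
  obtain ⟨c, hc, hcle⟩ := exists_conj_le_of_maximal hT inf_le_right hmax (hT.map _) hhT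
  refine ⟨c * h, ⟨mul_mem (hCN hc) C.mem, fun v hv hv1 he => C.moves v hv hv1 ?_⟩, ?_⟩
  · have hv' := conj_mem C.mem hv
    rwa [show c * h * v * (c * h)⁻¹ = c * (h * v * h⁻¹) * c⁻¹ by group,
      ← mem_centralizer_iff.1 hc _ hv', mul_inv_cancel_right] at he
  · refine mem_normalizer_of_conjS_eq ?_
    rw [conjS_mul]
    exact eq_of_le_of_card_ge hcle (by rw [card_conjS, card_conjS])

/-- If every involution of `V` is a square in `C_S(V)` then `V` is normal in `S`. -/
theorem le_normalizer_of_squares (h2 : Cfsg.PRankLE 2 2 G) (S : Sylow 2 G) {V : Subgroup G}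
    (F : Four V) {z : G} (hzV : z ∈ V) (hz1 : z ≠ 1)
    (hzc : ∀ s ∈ (S : Subgroup G), s * z = z * s)
    (hsq : ∀ v ∈ V, v ≠ 1 → ∃ x, x ∈ (S : Subgroup G) ⊓ centralizer (V : Set G) ∧ x * x = v) :
    (S : Subgroup G) ≤ normalizer (V : Set G) := by
  have : Fact (Nat.Prime 2) := ⟨Nat.prime_two⟩
  by_contra hnot
  set M : Subgroup G := (S : Subgroup G) ⊓ normalizer (V : Set G)
  have hM : M < S := lt_of_le_of_ne inf_le_left fun h => hnot fun x hx => (h.symm ▸ hx : x ∈ M).2
  obtain ⟨s, hs, hsM⟩ := SetLike.exists_of_lt (lt_inf_normalizer S.2 hM)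
  have hsV : conjS s V ≠ V := fun h => hsM ⟨hs.1, mem_normalizer_of_conjS_eq h⟩
  have F' := F.conj s
  apply hsV
  refine (eq_of_le_of_card_ge ?_ (by rw [F.card, F'.card])).symm
  intro v hv
  by_cases hv1 : v = 1
  · rw [hv1]; exact one_mem _
  obtain ⟨x, hx, rfl⟩ := hsq v hv hv1
  refine F'.absorb h2 (F.sq _ hv) fun v' hv' => ?_
  -- `x` normalizes the conjugate and fixes `z`
  have hxM : x ∈ M := ⟨hx.1, mem_normalizer_of fun a ha => by
    rw [← mem_centralizer_iff.1 hx.2 a ha, mul_inv_cancel_right]; exact ha⟩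
  have hxN : x ∈ normalizer (conjS s V : Set G) := by
    have h1 : s⁻¹ * x * s ∈ M := by simpa using conj_mem (inv_mem hs.2) hxM
    simpa [mul_assoc] using mem_normalizer_conjS (g := s) h1.2
  have hzV' : z ∈ conjS s V := by
    rw [mem_conjS, mul_assoc, ← hzc s hs.1, inv_mul_cancel_left]; exact hzV
  obtain ⟨u, huV, hu1, huz⟩ := F'.exists_ne z
  have hxz : x * z * x⁻¹ = z := by rw [hzc x hx.1, mul_inv_cancel_right]
  have hfix : ∀ a ∈ conjS s V, x * (x * a * x⁻¹) * x⁻¹ = a := by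
    have hxu : x * (x * u * x⁻¹) * x⁻¹ = u := by
      rcases F'.cases hzV' huV hz1 hu1 huz (conj_mem hxN huV) with e | e | e | e
      · exact absurd (conj_eq_one_iff.1 e) hu1
      · exact absurd (conj_inj (e.trans hxz.symm)) huz
      · rw [e, e]
      · rw [e, conj_mul', hxz, e, ← mul_assoc, F'.sq z hzV', one_mul]
    intro a ha
    rcases F'.cases hzV' huV hz1 hu1 huz ha with rfl | rfl | rfl | rfl
    · group
    · rw [hxz, hxz]
    · exact hxu
    · rw [conj_mul' x z u, conj_mul' x, hxz, hxz, hxu]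
  have h' := hfix v' hv'
  calc v' * (x * x) = x * (x * v' * x⁻¹) * x⁻¹ * (x * x) := by rw [h']
    _ = x * x * v' := by group

end Cfsg.Agent.Lib.Fusion.RankTwoFusionSimple
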