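import Cfsg.Agent.Lib.Fusion.Dihedral
import Cfsg.Prelude.Def_TwoFusion

/-!
# Classes of four-groups and involutions when a Sylow 2-subgroup is dihedral
-/

namespace Cfsg.Agent.Lib.Fusion.Dihedral

open Subgroup DihedralGroup Cfsg.Agent.Lib.Fusion.Alperin

variable {X : Type*} [Group X] [Finite X] {S : Sylow 2 X} {m : ℕ} (D : Coords S m)

include D in
theorem Coords.four_dvd (hm : 4 ≤ m) : 4 ∣ m := by
  obtain ⟨k, hk⟩ := D.exists_pow (by omega)
  rcases k with _ | k
  · omega
  · exact ⟨2 ^ k, by rw [hk, pow_succ, pow_succ]; ring⟩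

include D in
theorem Coords.two_dvd (hm : 2 ≤ m) : 2 ∣ m := by
  obtain ⟨k, hk⟩ := D.exists_pow hm
  exact ⟨2 ^ k, by rw [hk, pow_succ]; ring⟩

/-- The odd elements of the normalizer centralize. -/
def OddTrivial (U : Subgroup X) : Prop :=
  ∀ n ∈ normalizer (U : Set X), Odd (orderOf n) → ∀ x ∈ U, n * x = x * n

theorem OddTrivial.map {U : Subgroup X} (h : OddTrivial U) (s : X) : OddTrivial (conjS s U) := by
  intro n hn ho x hx
  have hn' : s⁻¹ * n * s ∈ normalizer (U : Set X) := by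
    have := mem_normalizer_conjS (g := s⁻¹) hn
    rw [conjS_inv_conjS] at this
    simpa using this
  have ho' : Odd (orderOf (s⁻¹ * n * s)) := by
    have := MulEquiv.orderOf_eq (MulAut.conj s⁻¹) n
    simp at this
    rwa [this]
  have h1 := h _ hn' ho' _ (mem_conjS.1 hx)
  have h2 := congrArg (fun z => s * z * s⁻¹) h1
  simpa [mul_assoc] using h2

include D in
/-- On a member of the conjugation family the fusion comes from `S`. -/
theorem Coords.base_step {R : Subgroup X} (hR : IsFusionBase 2 (S : Subgroup X) R)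
    (hfour : IsFour R → OddTrivial R) {n : X} (hn : n ∈ normalizer (R : Set X)) :
    ∃ s ∈ (S : Subgroup X), ∀ x ∈ R, n * x * n⁻¹ = s * x * s⁻¹ := by
  have : Fact (Nat.Prime 2) := ⟨Nat.prime_two⟩
  obtain ⟨s, hs, hsx⟩ := Control.exists_eq_conj S hR.2.1 (fun k hk hko => by
    by_cases hf : IsFour R
    · exact hfour hf k hk (Nat.coprime_two_right.1 hko)
    · exact D.odd_centralizes hR.1 hf hk (Nat.coprime_two_right.1 hko)) hn
  exact ⟨s, hs.1, hsx⟩

include D in
theorem Coords.hasNormalPComplement (h : ∀ R : Subgroup X, R ≤ S → IsFour R → OddTrivial R) :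
    Cfsg.HasNormalPComplement 2 X := by
  have : Fact (Nat.Prime 2) := ⟨Nat.prime_two⟩
  refine Control.hasNormalPComplement S fun R hR n hn hno => ?_
  by_cases hf : IsFour R
  · exact h R hR.1 hf n hn (Nat.coprime_two_right.1 hno)
  · exact D.odd_centralizes hR.1 hf hn (Nat.coprime_two_right.1 hno)

omit [Finite X] in
theorem Coords.exists_conj_sr {s : X} (hs : s ∈ (S : Subgroup X)) (i : ZMod m) :
    ∃ j, s * D.φ (sr i) * s⁻¹ = D.φ (sr j) := by
  obtain ⟨g, rfl⟩ := D.exists_eq hs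
  rw [← map_inv, ← map_mul, ← map_mul]
  cases g with
  | r l => exact ⟨_, by rw [inv_r, r_mul_sr, sr_mul_r]⟩
  | sr l => exact ⟨_, by rw [inv_sr, sr_mul_sr, r_mul_sr]⟩

/-- `G`-conjugate four-groups of `S` have reflections of the same parity. -/
theorem Coords.par_of_conj (hm : 4 ≤ m) (hm2 : 2 ∣ m) {U : Subgroup X} {g : X} (hU : U ≤ S)
    (hg : conjS g U ≤ S) (hf : IsFour U) {i : ZMod m} (hi : D.φ (sr i) ∈ U) :
    ∃ j, par hm2 j = par hm2 i ∧ D.φ (sr j) ∈ conjS g U := by
  have : Fact (Nat.Prime 2) := ⟨Nat.prime_two⟩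
  have h := alperin S U g hU hg
  clear hU hg
  induction h generalizing i with
  | @base A R n hR hAR hn =>
    by_cases hfR : IsFour R
    · have hAR' : A = R := eq_of_le_of_card_ge hAR (by rw [hfR.1, hf.1])
      subst hAR'
      exact ⟨i, rfl, by rw [conjS_eq_of_mem_normalizer hn]; exact hi⟩
    · obtain ⟨s, hs, hsx⟩ := D.base_step hR (fun h => absurd h hfR) hn
      obtain ⟨j, hj⟩ := D.exists_conj_sr hs i
      refine ⟨j, D.par_conj hm2 hs hj, ?_⟩
      rw [← hj, ← hsx _ (hAR hi)]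
      exact conj_mem_conjS hi
  | @comp A g₁ g₂ _ _ ih₁ ih₂ =>
    obtain ⟨j, hj, hjm⟩ := ih₁ hf hi
    obtain ⟨k, hk, hkm⟩ := ih₂ (hf.map g₁) hjm
    exact ⟨k, hk.trans hj, by rw [conjS_mul]; exact hkm⟩

omit [Finite X] in
theorem Coords.half_mul_half (hm2 : 2 ∣ m) :
    ((m / 2 : ℕ) : ZMod m) + ((m / 2 : ℕ) : ZMod m) = 0 := by
  rw [← Nat.cast_add, show m / 2 + m / 2 = m by omega, ZMod.natCast_self]

omit [Finite X] in
theorem Coords.half_commute (hm2 : 2 ∣ m) (i : ZMod m) :
    Commute (D.φ (r ((m / 2 : ℕ) : ZMod m))) (D.φ (sr i)) := by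
  show _ * _ = _ * _
  rw [← map_mul, ← map_mul, r_mul_sr, sr_mul_r, sub_eq_add_neg,
    neg_eq_of_add_eq_zero_left (Coords.half_mul_half hm2)]

omit [Finite X] in
theorem Coords.orderOf_half (hm : 2 ≤ m) (hm2 : 2 ∣ m) :
    orderOf (D.φ (r ((m / 2 : ℕ) : ZMod m))) = 2 := by
  refine orderOf_eq_prime ?_ ?_
  · rw [pow_two, ← map_mul, r_mul_r, Coords.half_mul_half hm2, ← one_def, map_one]
  · rw [Ne, ← map_one D.φ, D.inj.eq_iff, one_def, r.injEq]
    exact half_ne_zero hm

omit [Finite X] in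
theorem Coords.orderOf_sr' (i : ZMod m) : orderOf (D.φ (sr i)) = 2 := by
  rw [orderOf_injective D.φ D.inj, DihedralGroup.orderOf_sr]

omit [Finite X] in
theorem Coords.invol_cases (hm : 2 ≤ m) {x : X} (hx : x ∈ (S : Subgroup X)) (h2 : orderOf x = 2) :
    x = D.φ (r ((m / 2 : ℕ) : ZMod m)) ∨ ∃ i, x = D.φ (sr i) := by
  have : NeZero m := ⟨by omega⟩
  rcases D.cases hx with ⟨i, rfl⟩ | ⟨i, rfl⟩
  · left
    have h1 : D.φ (r i) * D.φ (r i) = 1 := by
      rw [← pow_two, ← h2]; exact pow_orderOf_eq_one _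
    rw [← map_mul, r_mul_r, ← map_one D.φ, one_def] at h1
    rcases double_eq_zero (r.inj (D.inj h1)) with h | h
    · rw [h, ← one_def, map_one] at h2; simp at h2
    · rw [h]
  · exact Or.inr ⟨i, rfl⟩

include D in
theorem exists_conj_mem_sylow {x : X} (h2 : orderOf x = 2) :
    ∃ g : X, g * x * g⁻¹ ∈ (S : Subgroup X) := by
  have : Fact (Nat.Prime 2) := ⟨Nat.prime_two⟩
  have hp : IsPGroup 2 (zpowers x) :=
    IsPGroup.of_card (n := 1) (by rw [Nat.card_zpowers, h2, pow_one])
  obtain ⟨Q, hQ⟩ := hp.exists_le_sylow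
  obtain ⟨g, hg⟩ := MulAction.exists_smul_eq X Q S
  refine ⟨g, ?_⟩
  rw [← hg, Sylow.coe_subgroup_smul]
  simpa using Subgroup.smul_mem_pointwise_smul (a := MulAut.conj g) x (Q : Subgroup X)
    (hQ (mem_zpowers x))

include D in
theorem Coords.exists_four_of_le (hm : 2 ≤ m) (i : ZMod m) :
    ∃ R : Subgroup X, R ≤ S ∧ IsFour R ∧ D.φ (sr i) ∈ R ∧
      D.φ (r ((m / 2 : ℕ) : ZMod m)) ∈ R := by
  rcases Nat.lt_or_ge m 4 with h4 | h4
  · obtain ⟨k, hk⟩ := D.exists_pow hm
    obtain rfl : m = 2 := by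
      rcases k with _ | k
      · simpa using hk
      · have : 4 ≤ 2 ^ (k + 1 + 1) := Nat.pow_le_pow_right two_pos (show 2 ≤ k + 1 + 1 by omega)
        omega
    refine ⟨(S : Subgroup X), le_rfl, ⟨by rw [D.card], fun x hx => ?_⟩, D.mem _, D.mem _⟩
    obtain ⟨g, rfl⟩ := D.exists_eq hx
    have key : ∀ g : DihedralGroup 2, g * g = 1 := by decide
    rw [← map_mul, key, map_one]
  · obtain ⟨R, hR, hf, hi⟩ := D.exists_four hm (D.four_dvd h4) i
    refine ⟨R, hR, hf, hi, ?_⟩
    show _ ∈ (R : Set X)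
    rw [D.four_eq hm hR hf hi]
    simp [Coords.fourSet]

include D in
theorem Coords.isConj_of_three (hm : 2 ≤ m)
    (h : ∀ U : Subgroup X, U ≤ S → IsFour U →
      3 ∣ (centralizer (U : Set X)).relIndex (normalizer (U : Set X))) :
    ∀ a b : X, orderOf a = 2 → orderOf b = 2 → IsConj a b := by
  set z := D.φ (r ((m / 2 : ℕ) : ZMod m))
  have hz : z ≠ 1 := fun e => by
    have := D.orderOf_half hm (D.two_dvd hm)
    rw [show D.φ (r ((m / 2 : ℕ) : ZMod m)) = 1 from e] at this
    simp at this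
  have key : ∀ a : X, orderOf a = 2 → IsConj a z := by
    intro a ha
    obtain ⟨g, hg⟩ := exists_conj_mem_sylow D ha
    have hga : orderOf (g * a * g⁻¹) = 2 := by
      have := MulEquiv.orderOf_eq (MulAut.conj g) a
      simp at this
      rw [this, ha]
    refine (isConj_iff.2 ⟨g, rfl⟩).trans ?_
    rcases D.invol_cases hm hg hga with e | ⟨i, e⟩
    · rw [e]
    · rw [e]
      obtain ⟨R, hR, hf, hi, hzR⟩ := D.exists_four_of_le hm i
      refine isConj_iff.2 (exists_conj_of_three hf (h R hR hf) hi ?_ hzR hz)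
      intro h1
      have := D.orderOf_sr' i
      rw [h1] at this
      simp at this
  exact fun a b ha hb => (key a ha).trans (key b hb).symm

include D in
theorem Coords.fusionSimple_of_isConj (hm : 2 ≤ m)
    (h : ∀ a b : X, orderOf a = 2 → orderOf b = 2 → IsConj a b) :
    (∀ H : Subgroup X, H.index ≠ 2) ∧ ∀ z : X, ¬ Cfsg.IsIsolatedInvolution z := by
  have hm2 := D.two_dvd hm
  set z₀ := D.φ (r ((m / 2 : ℕ) : ZMod m))
  have hz₀ : orderOf z₀ = 2 := D.orderOf_half hm hm2
  constructor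
  · intro H hH
    have hn : H.Normal := Subgroup.normal_of_index_eq_two hH
    have hclass : ∀ a b : X, orderOf a = 2 → orderOf b = 2 → (a ∈ H ↔ b ∈ H) := by
      intro a b ha hb
      obtain ⟨c, rfl⟩ := isConj_iff.1 (h a b ha hb)
      exact ⟨fun hm => hn.conj_mem a hm c, fun hm => by
        simpa [mul_assoc] using hn.conj_mem _ hm c⁻¹⟩
    have hz₀H : z₀ ∈ H := by
      by_contra hzn
      have h1 : D.φ (sr 0) ∉ H := fun e => hzn ((hclass _ _ (D.orderOf_sr' 0) hz₀).1 e)
      have h2 : z₀ * D.φ (sr 0) ∈ H :=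
        (Subgroup.mul_mem_iff_of_index_two hH).2 (iff_of_false hzn h1)
      have h3 : orderOf (z₀ * D.φ (sr 0)) = 2 := by
        rw [← map_mul, r_mul_sr]; exact D.orderOf_sr' _
      exact hzn ((hclass _ _ h3 hz₀).1 h2)
    have hsr : ∀ i, D.φ (sr i) ∈ H := fun i => (hclass _ _ hz₀ (D.orderOf_sr' i)).1 hz₀H
    have hle : (S : Subgroup X) ≤ H := by
      intro x hx
      rcases D.cases hx with ⟨i, rfl⟩ | ⟨i, rfl⟩
      · rw [show r i = sr 0 * sr i by rw [sr_mul_sr, sub_zero], map_mul]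
        exact mul_mem (hsr 0) (hsr i)
      · exact hsr i
    have : Fact (Nat.Prime 2) := ⟨Nat.prime_two⟩
    have hdvd := index_dvd_of_le hle
    rw [hH] at hdvd
    exact S.not_dvd_index hdvd
  · intro z hz
    obtain ⟨g, hg⟩ := exists_conj_mem_sylow D hz.1
    set z' := g * z * g⁻¹ with hz'
    have hz'o : orderOf z' = 2 := by
      have := MulEquiv.orderOf_eq (MulAut.conj g) z
      simp at this
      rw [hz', this, hz.1]
    obtain ⟨y, hy, hyne, hc⟩ : ∃ y, orderOf y = 2 ∧ y ≠ z' ∧ Commute z' y := by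
      rcases D.invol_cases hm hg hz'o with e | ⟨i, e⟩
      · exact ⟨_, D.orderOf_sr' 0, fun e' => absurd (D.inj (e'.trans e)) (by simp),
          by rw [e]; exact D.half_commute hm2 0⟩
      · exact ⟨_, hz₀, fun e' => absurd (D.inj (e'.trans e)) (by simp),
          by rw [e]; exact (D.half_commute hm2 i).symm⟩
    obtain ⟨c, hcz⟩ := isConj_iff.1 (h z (g⁻¹ * y * g) hz.1 (by
      have := MulEquiv.orderOf_eq (MulAut.conj g⁻¹) y
      simp at this
      rw [this, hy]))
    have h1 := hz.2 c (by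
      rw [hcz]
      show z * (g⁻¹ * y * g) = g⁻¹ * y * g * z
      have h2 := congrArg (fun w => g⁻¹ * w * g) hc.eq
      simpa [hz', mul_assoc] using h2)
    rw [hcz] at h1
    exact hyne (by rw [hz', ← h1]; group)

omit [Finite X] in
theorem parity_closed₁ (u v : ZMod 2) (_w : ZMod 2) (hu : u = 0) (hv : v = 0) : u + v = 0 := by
  rw [hu, hv, add_zero]

omit [Finite X] in
theorem parity_closed₂ : ∀ u v w : ZMod 2, u = 0 → v ≠ w → v - u ≠ w := by decide

omit [Finite X] in
theorem parity_closed₃ : ∀ u v w : ZMod 2, u ≠ w → v = 0 → u + v ≠ w := by decide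

omit [Finite X] in
theorem parity_closed₄ : ∀ u v w : ZMod 2, u ≠ w → v ≠ w → v - u = 0 := by decide

omit [Finite X] in
theorem parity_coset₁ : ∀ v w : ZMod 2, Xor (w - v ≠ w) (v = 0) := by
  unfold Xor; decide

omit [Finite X] in
theorem parity_coset₂ : ∀ v w : ZMod 2, Xor (w - v = 0) (v ≠ w) := by
  unfold Xor; decide

include D in
/-- If some four-group of `S` has a 2-automiser, there is a subgroup of index two. -/
theorem Coords.exists_index_two (hm : 2 ≤ m) {U : Subgroup X} (hU : U ≤ S) (hf : IsFour U)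
    (hodd : OddTrivial U) : ∃ H : Subgroup X, H.index = 2 := by
  have : Fact (Nat.Prime 2) := ⟨Nat.prime_two⟩
  rcases Nat.lt_or_ge m 4 with h4 | h4
  · have hm' : m = 2 := by
      obtain ⟨k, hk⟩ := D.exists_pow hm
      rcases k with _ | k
      · simpa using hk
      · have : 4 ≤ 2 ^ (k + 1 + 1) := Nat.pow_le_pow_right two_pos (show 2 ≤ k + 1 + 1 by omega)
        omega
    have hUS : U = (S : Subgroup X) :=
      eq_of_le_of_card_ge hU (by rw [D.card, hm', hf.1])
    obtain ⟨P, N, hN, hc⟩ := D.hasNormalPComplement fun R hR hfR => by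
      rw [show R = U from eq_of_le_of_card_ge (hUS ▸ hR) (by rw [hf.1, hfR.1])]
      exact hodd
    have hq : Nat.card (X ⧸ N) = 2 * 2 := by
      rw [← index_eq_card, hc.symm.index_eq_card, Nat.card_congr (Sylow.equiv P S).toEquiv,
        D.card, hm']
    obtain ⟨M, hM⟩ := Sylow.exists_subgroup_card_pow_prime (G := X ⧸ N) 2 (n := 1)
      ⟨2, by rw [hq]; rfl⟩
    refine ⟨M.comap (QuotientGroup.mk' N), ?_⟩
    rw [index_comap_of_surjective _ (QuotientGroup.mk'_surjective N)]
    have h1 := M.card_mul_index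
    rw [hM, hq] at h1
    omega
  have hm2 := D.two_dvd hm
  have hm4 := D.four_dvd h4
  have : NeZero m := ⟨by omega⟩
  obtain ⟨i, hi⟩ := D.four_contains_sr hm hU hf
  -- reflections of the parity of `U` are only fused among themselves
  have hinv : ∀ x g : X, x ∈ (S : Subgroup X) → g * x * g⁻¹ ∈ (S : Subgroup X) →
      (∃ j, par hm2 j = par hm2 i ∧ x = D.φ (sr j)) →
      ∃ j, par hm2 j = par hm2 i ∧ g * x * g⁻¹ = D.φ (sr j) := by
    intro x g hx hgx hΦ
    refine fusion_invariant S (fun x => ∃ j, par hm2 j = par hm2 i ∧ x = D.φ (sr j)) ?_ x g hx hgx hΦ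
    rintro R hR n hn _ hxR ⟨j, hj, rfl⟩
    obtain ⟨s, hs, hsx⟩ := D.base_step hR (fun hfR => by
      obtain ⟨t, ht, htU⟩ := D.four_conj hm hm2 hU hf hR.1 hfR hi hxR hj.symm
      exact htU ▸ hodd.map t) hn
    obtain ⟨k, hk⟩ := D.exists_conj_sr hs j
    exact ⟨k, (D.par_conj hm2 hs hk).trans hj, (hsx _ hxR).trans hk⟩
  -- the maximal subgroup avoiding them
  let K : Subgroup (DihedralGroup m) :=
    { carrier := {g | match g with
        | .r l => par hm2 l = 0
        | .sr l => par hm2 l ≠ par hm2 i}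
      one_mem' := by
        show par hm2 0 = 0
        exact map_zero _
      mul_mem' := by
        rintro (a | a) (b | b) ha hb <;>
          simp only [Set.mem_setOf_eq, r_mul_r, r_mul_sr, sr_mul_r, sr_mul_sr, map_add,
            map_sub] at ha hb ⊢ <;>
          first | exact parity_closed₁ (par hm2 a) (par hm2 b) (par hm2 i) ha hb | exact parity_closed₂ (par hm2 a) (par hm2 b) (par hm2 i) ha hb | exact parity_closed₃ (par hm2 a) (par hm2 b) (par hm2 i) ha hb | exact parity_closed₄ (par hm2 a) (par hm2 b) (par hm2 i) ha hb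
      inv_mem' := by
        rintro (a | a) ha <;> simp only [Set.mem_setOf_eq, inv_r, inv_sr, map_neg] at ha ⊢ <;>
          simp [ha] }
  have hK : K.index = 2 := by
    rw [Subgroup.index_eq_two_iff]
    refine ⟨sr i, ?_⟩
    rintro (b | b)
    · rw [r_mul_sr]
      show Xor (par hm2 (i - b) ≠ par hm2 i) (par hm2 b = 0)
      rw [map_sub]
      exact parity_coset₁ _ _
    · rw [sr_mul_sr]
      show Xor (par hm2 (i - b) = 0) (par hm2 b ≠ par hm2 i)
      rw [map_sub]
      exact parity_coset₂ _ _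
  set M := K.map D.φ
  have hMidx : M.index % 4 = 2 := by
    have h1 := M.card_mul_index
    have h2 := K.card_mul_index
    have h3 := (S : Subgroup X).card_mul_index
    rw [card_map_of_injective D.inj] at h1
    rw [hK, DihedralGroup.nat_card] at h2
    rw [D.card] at h3
    have h5 : M.index = 2 * (S : Subgroup X).index := by
      have h6 : Nat.card K = m := by omega
      rw [h6, ← h3] at h1
      exact Nat.eq_of_mul_eq_mul_left (show 0 < m by omega) (h1.trans (by ring))
    obtain ⟨l, hl⟩ := Nat.odd_iff.2 (Nat.two_dvd_ne_zero.1 S.not_dvd_index)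
    omega
  by_contra hno
  push Not at hno
  obtain ⟨g, hgM⟩ := Thompson.exists_conj_mem M hMidx hno _ (D.orderOf_sr' i)
  obtain ⟨k, hkK, hk⟩ := hgM
  obtain ⟨j, hj, hje⟩ := hinv _ g (D.mem _) (hk ▸ D.mem k) ⟨i, rfl, rfl⟩
  obtain rfl := D.inj (hk.trans hje)
  exact hkK hj

end Cfsg.Agent.Lib.Fusion.Dihedral
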