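import Mathlib
import Cfsg.Prelude.Def_CaseTheorems
import Cfsg.Agent.Lib.Fusion.Alperin

/-!
Elementary abelian sections counted inside a Sylow `2`-subgroup.
-/

set_option autoImplicit false

namespace Cfsg.Agent.Lib.Fusion.SectionCount

open Subgroup Alperin
open scoped commutatorElement

variable {G : Type*} [Group G]

/-- `K ≤ H` contains all squares and commutators of `H`. -/
structure Kills (H K : Subgroup G) : Prop where
  le : K ≤ H
  sq : ∀ x ∈ H, x * x ∈ K
  comm : ∀ x ∈ H, ∀ y ∈ H, ⁅x, y⁆ ∈ K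

/-- Every elementary abelian `2`-quotient of a subgroup of `S` has order at most `2 ^ r`. -/
def Bounded (r : ℕ) (S : Subgroup G) : Prop :=
  ∀ H K : Subgroup G, H ≤ S → Kills H K → Nat.card H ≤ 2 ^ r * Nat.card K

theorem Kills.map {H K : Subgroup G} (h : Kills H K) {G' : Type*} [Group G'] (f : G →* G') :
    Kills (H.map f) (K.map f) where
  le := Subgroup.map_mono h.le
  sq := by rintro _ ⟨x, hx, rfl⟩; exact ⟨_, h.sq x hx, map_mul f x x⟩
  comm := by
    rintro _ ⟨x, hx, rfl⟩ _ ⟨y, hy, rfl⟩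
    exact ⟨_, h.comm x hx y hy, map_commutatorElement f x y⟩

variable [Finite G]

/-- The sectional rank from the subgroups of a Sylow subgroup. -/
theorem sectional_of_sylow {r : ℕ} (S : Sylow 2 G) (hS : Bounded r (S : Subgroup G)) :
    Cfsg.SectionalPRankLE 2 r G := by
  intro H N _ A hAc hA2
  classical
  have : Fact (Nat.Prime 2) := ⟨Nat.prime_two⟩
  have hAp : IsPGroup 2 A := fun a => ⟨1, Subtype.ext (by simpa using hA2 a a.2)⟩
  let Q : Subgroup H := A.comap (QuotientGroup.mk' N)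
  let ψ : Q →* A := ((QuotientGroup.mk' N).comp Q.subtype).codRestrict A fun x => x.2
  have hψ : Function.Surjective ψ := by
    rintro ⟨a, ha⟩
    obtain ⟨x, rfl⟩ := QuotientGroup.mk'_surjective N a
    exact ⟨⟨x, ha⟩, rfl⟩
  obtain ⟨P⟩ := (inferInstance : Nonempty (Sylow 2 Q))
  let ψP : (P : Subgroup Q) →* A := ψ.comp (P : Subgroup Q).subtype
  have hψP : Function.Surjective ψP := by
    have h1 : ((P : Subgroup Q).map ψ).index ∣ (P : Subgroup Q).index :=
      Subgroup.index_map_dvd _ hψ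
    obtain ⟨n, hn⟩ := IsPGroup.iff_card.1 hAp
    have h2 : ((P : Subgroup Q).map ψ).index ∣ 2 ^ n := hn ▸ Subgroup.index_dvd_card _
    have h3 : ¬ 2 ∣ (P : Subgroup Q).index := P.not_dvd_index
    have htop : (P : Subgroup Q).map ψ = ⊤ := by
      obtain ⟨j, -, hj⟩ := (Nat.dvd_prime_pow Nat.prime_two).1 h2
      rcases j with _ | j
      · exact Subgroup.index_eq_one.1 hj
      · exact absurd ((Dvd.intro_left _ rfl : 2 ∣ 2 ^ j * 2).trans (by rw [← pow_succ, ← hj]; exact h1)) h3
    intro a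
    obtain ⟨x, hx, hxa⟩ := (htop ▸ mem_top a : a ∈ (P : Subgroup Q).map ψ)
    exact ⟨⟨x, hx⟩, hxa⟩
  let ι : (P : Subgroup Q) →* G := H.subtype.comp (Q.subtype.comp (P : Subgroup Q).subtype)
  have hι : Function.Injective ι := fun a b h =>
    Subtype.ext (Subtype.ext (Subtype.ext h))
  have hk : Kills (⊤ : Subgroup (P : Subgroup Q)) ψP.ker := by
    refine ⟨le_top, fun x _ => ?_, fun x _ y _ => ?_⟩
    · rw [MonoidHom.mem_ker, map_mul, ← pow_two]
      exact Subtype.ext (hA2 _ (ψP x).2)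
    · rw [MonoidHom.mem_ker, map_commutatorElement]
      exact commutatorElement_eq_one_iff_commute.2 (hAc.is_comm.comm _ _)
  have hk' := hk.map ι
  have hp : IsPGroup 2 ((⊤ : Subgroup (P : Subgroup Q)).map ι) := by
    refine IsPGroup.map ?_ ι
    exact P.2.of_equiv Subgroup.topEquiv.symm
  obtain ⟨g, -, hg⟩ := exists_conj_le_of_maximal (N := (⊤ : Subgroup G)) S.2 le_top
    (fun U hU _ hle => S.3 hU hle) hp le_top
  have hb := hS _ _ hg (hk'.map (MulAut.conj g).toMonoidHom)
  change Nat.card (conjS g _) ≤ 2 ^ r * Nat.card (conjS g _) at hb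
  rw [card_conjS, card_conjS,
    Subgroup.card_map_of_injective hι, Subgroup.card_map_of_injective hι, Subgroup.card_top,
    ← ψP.ker.card_mul_index, Subgroup.index_ker, MonoidHom.range_eq_top.2 hψP,
    Subgroup.card_top, mul_comm] at hb
  exact Nat.le_of_mul_le_mul_right hb Nat.card_pos

variable {H K : Subgroup G}

/-- Bounds through a subgroup. -/
theorem step {M X : Subgroup G} (hMX : M ≤ X) :
    K.relIndex (H ⊓ X) ≤ M.relIndex X * K.relIndex (H ⊓ M) := by
  have h1 : K.relIndex (H ⊓ X) ≤ (K ⊓ (H ⊓ M)).relIndex (H ⊓ X) :=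
    relIndex_le_of_le_left inf_le_left index_ne_zero_of_finite
  rw [← relIndex_mul_relIndex _ _ _ inf_le_right (inf_le_inf_left H hMX), inf_relIndex_right] at h1
  refine h1.trans ?_
  rw [mul_comm]
  refine Nat.mul_le_mul_right _ ?_
  have : (H ⊓ M).relIndex (H ⊓ X) = M.relIndex (H ⊓ X) := by
    conv_rhs => rw [← inf_relIndex_right]
    rw [show M ⊓ (H ⊓ X) = H ⊓ M by rw [inf_left_comm, inf_eq_left.2 hMX]]
  rw [this]
  exact relIndex_le_of_le_right inf_le_right index_ne_zero_of_finite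

theorem relIndex_le_card (X : Subgroup G) : K.relIndex (H ⊓ X) ≤ Nat.card X :=
  (Nat.le_of_dvd Nat.card_pos (relIndex_dvd_card _ _)).trans (card_le_of_le inf_le_right)

omit [Finite G] in
theorem relIndex_mul_card (X : Subgroup G) :
    K.relIndex X * Nat.card (K ⊓ X : Subgroup G) = Nat.card X := by
  rw [← inf_relIndex_right, mul_comm]
  have := relIndex_mul_relIndex (⊥ : Subgroup G) (K ⊓ X) X bot_le inf_le_right
  rwa [relIndex_bot_left, relIndex_bot_left] at this

omit [Finite G] in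
theorem bounded_of_relIndex {r : ℕ} {S : Subgroup G}
    (h : ∀ H K : Subgroup G, H ≤ S → Kills H K → K.relIndex (H ⊓ S) ≤ 2 ^ r) : Bounded r S := by
  intro H K hHS hk
  have h1 := h H K hHS hk
  have h2 := relIndex_mul_card (K := K) (H ⊓ S)
  rw [inf_eq_left.2 hHS] at h1 h2
  rw [inf_eq_left.2 hk.le] at h2
  rw [← h2]
  exact Nat.mul_le_mul_right _ h1

end Cfsg.Agent.Lib.Fusion.SectionCount
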