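import Cfsg.Agent.Lib.Fusion.EACentralizers

/-!
# Sharp 3-transitivity in groups with elementary abelian involution centralizers
-/

namespace Cfsg.Agent.Lib.Fusion.EACentralizers

open Subgroup

variable {G : Type*} [Group G] [Finite G] {T : Sylow 2 G} {u : G}

theorem mk_eq_mk (g k : G) :
    (QuotientGroup.mk g : G ⧸ nrm T) = QuotientGroup.mk k ↔ g⁻¹ * k ∈ nrm T :=
  QuotientGroup.eq

theorem inverted_of_fixedPointFree (h : EAHyp T) (hu : orderOf u = 2) (huH : u ∉ nrm T)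
    {d x : G} (hd : d ∈ two T u) (hdne : d ≠ 1) (hx : x * d = d * x) :
    u * x * u⁻¹ = x⁻¹ := by
  classical
  let A : Subgroup G := centralizer ({d} : Set G)
  have hmemA : ∀ y, y ∈ A ↔ y * d = d * y := fun y => by
    show y ∈ centralizer _ ↔ _
    rw [mem_centralizer_singleton_iff]
  have hconj : ∀ y ∈ A, u * y * u⁻¹ ∈ A := by
    intro y hy
    rw [hmemA] at hy ⊢
    have hdinv : u⁻¹ * d * u = d⁻¹ := by
      have := h.invert hu huH d hd
      rwa [inv_of_orderOf hu] at this ⊢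
    have hy' : y * d⁻¹ = d⁻¹ * y := (Commute.inv_right (show Commute y d from hy)).eq
    have h1 : u * y * u⁻¹ * d = u * (y * (u⁻¹ * d * u)) * u⁻¹ := by group
    rw [h1, hdinv, hy']
    have h2 : u * (d⁻¹ * y) * u⁻¹ = (u * d⁻¹ * u⁻¹) * (u * y * u⁻¹) := by group
    rw [h2]
    have h3 : u * d⁻¹ * u⁻¹ = (u * d * u⁻¹)⁻¹ := by group
    rw [h3, h.invert hu huH d hd, inv_inv]
  let φ : A → A := fun y => ⟨(y : G)⁻¹ * (u * y * u⁻¹), mul_mem (inv_mem y.2) (hconj _ y.2)⟩
  have hinj : Function.Injective φ := by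
    intro y z hyz
    have h1 : (y : G)⁻¹ * (u * y * u⁻¹) = (z : G)⁻¹ * (u * z * u⁻¹) := congrArg Subtype.val hyz
    have h2 : ((z : G) * (y : G)⁻¹) * u = u * ((z : G) * (y : G)⁻¹) := by
      have h3 := congrArg (fun w => (z : G) * w * u * (y : G)⁻¹) h1
      simpa [mul_assoc] using h3
    have h4 : ((z : G) * (y : G)⁻¹) ^ 2 = 1 := by
      refine (h.hC u hu).2 _ ?_
      rw [mem_centralizer_singleton_iff]
      first | exact h2 | exact h2.symm
    by_contra hne
    have hne' : (z : G) * (y : G)⁻¹ ≠ 1 := fun e => hne (Subtype.ext (mul_inv_eq_one.1 e).symm)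
    apply hdne
    refine h.eq_one_of_commute huH hd (two_dvd_orderOf h4 hne') ?_
    have h5 := (hmemA _).1 (mul_mem z.2 (inv_mem y.2))
    exact h5.symm
  obtain ⟨y, hy⟩ := Finite.injective_iff_surjective.1 hinj ⟨x, (hmemA x).2 hx⟩
  have h1 : (y : G)⁻¹ * (u * y * u⁻¹) = x := congrArg Subtype.val hy
  rw [← h1, inv_of_orderOf hu]
  have h2 := mul_self_of_orderOf hu
  calc u * ((y : G)⁻¹ * (u * y * u)) * u = u * (y : G)⁻¹ * u * y * (u * u) := by group
    _ = ((y : G)⁻¹ * (u * y * u))⁻¹ := by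
      rw [h2, mul_one, mul_inv_rev, mul_inv_rev, mul_inv_rev, inv_inv, inv_of_orderOf hu]
      group

/-- The centralizer of a nontrivial element of `D` is `D`. -/
theorem EAHyp.centralizer_two (h : EAHyp T) (hu : orderOf u = 2) (huH : u ∉ nrm T)
    {d x : G} (hd : d ∈ two T u) (hdne : d ≠ 1) (hx : x * d = d * x) : x ∈ two T u := by
  -- an element `u * y` with `y` centralizing `d` is an involution outside `N(T)`
  have hout : ∀ y : G, y * d = d * y → u * y ∉ nrm T := by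
    intro y hy hmem
    have hinv := inverted_of_fixedPointFree h hu huH hd hdne hy
    have hsq : (u * y) ^ 2 = 1 := by
      rw [_root_.pow_two, ← mul_assoc]
      rw [inv_of_orderOf hu] at hinv
      rw [hinv, inv_mul_cancel]
    by_cases h1 : u * y = 1
    · have : u = y⁻¹ := eq_inv_of_mul_eq_one_left h1
      exact hdne (h.eq_one_of_commute huH hd hu (by
        rw [this]; exact (Commute.inv_right (show Commute d y from hy.symm)).eq))
    have hsT := invol_mem_of_mem_nrm (two_dvd_orderOf hsq h1) hmem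
    have h2 : (u * y) * d * (u * y)⁻¹ = d⁻¹ := by
      rw [mul_assoc u y d, hy]
      have := h.invert hu huH d hd
      rw [← this]; group
    have h3 : d * d = (d * (u * y) * d⁻¹) * (u * y)⁻¹ := by
      have : d * (u * y) * d⁻¹ * (u * y)⁻¹ = d * ((u * y) * d * (u * y)⁻¹)⁻¹ := by group
      rw [this, h2, inv_inv]
    have h4 : d * d ∈ T := by
      rw [h3]; exact mul_mem (conj_mem_T (mem_two.1 hd).1 hsT) (inv_mem hsT)
    have h5 := h.two_inf_T huH (mul_mem hd hd) h4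
    exact hdne (h.eq_one_of_mem_two huH hd (by rw [_root_.pow_two]; exact h5))
  by_cases hxH : x ∈ nrm T
  · obtain ⟨e, he, het⟩ := h.decomp hu huH hxH
    have hc : (e⁻¹ * x) * d = d * (e⁻¹ * x) := by
      have h1 : Commute d e := h.two_comm hu huH hd he
      exact (Commute.mul_right h1.inv_right hx.symm).eq.symm
    by_cases h1 : e⁻¹ * x = 1
    · exact (inv_mul_eq_one.1 h1) ▸ he
    · exact absurd (h.eq_one_of_commute huH hd (h.orderOf_mem het h1) hc.symm) hdne
  · exfalso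
    obtain ⟨v, hv, hxv⟩ := h.exists_invol_coset hxH
    have hvH : v ∉ nrm T := fun e => hxH (by simpa using mul_mem e (inv_mem hxv))
    have hdv : d ∈ two T v := by
      refine mem_two.2 ⟨(mem_two.1 hd).1, ?_⟩
      have h1 : v⁻¹ * d * v = (x⁻¹ * v)⁻¹ * d * (x⁻¹ * v) := by
        have : x * d * x⁻¹ = d := by rw [hx, mul_assoc, mul_inv_cancel, mul_one]
        conv_lhs => rw [← this]
        group
      rw [h1]
      exact mul_mem (mul_mem (inv_mem hxv) (mem_two.1 hd).1) hxv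
    have hcomm : (u * v) * d = d * (u * v) := by
      have h1 := h.invert hv hvH d hdv
      have h2 := h.invert hu huH d hd
      have h3 : (u * v) * d * (u * v)⁻¹ = d := by
        have : (u * v) * d * (u * v)⁻¹ = u * (v * d * v⁻¹) * u⁻¹ := by group
        rw [this, h1]
        have : u * d⁻¹ * u⁻¹ = (u * d * u⁻¹)⁻¹ := by group
        rw [this, h2, inv_inv]
      exact mul_inv_eq_iff_eq_mul.1 h3
    have hinv := inverted_of_fixedPointFree h hu huH hd hdne hx
    have hx' : (x * (u * v)) * d = d * (x * (u * v)) :=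
      (Commute.mul_left (show Commute x d from hx) hcomm).eq
    apply hout _ hx'
    rw [inv_of_orderOf hu] at hinv
    have : u * (x * (u * v)) = (u * x * u) * v := by group
    rw [this, hinv]; exact hxv

/-- A nontrivial element of `D` fixes only the cosets `H` and `u H`. -/
theorem EAHyp.fixed_points (h : EAHyp T) (hu : orderOf u = 2) (huH : u ∉ nrm T)
    {d g : G} (hd : d ∈ two T u) (hdne : d ≠ 1) (hg : g ∉ nrm T)
    (hfix : g⁻¹ * d * g ∈ nrm T) : g⁻¹ * u ∈ nrm T := by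
  obtain ⟨v, hv, hgv⟩ := h.exists_invol_coset hg
  have hvH : v ∉ nrm T := fun e => hg (by simpa using mul_mem e (inv_mem hgv))
  have hdv : d ∈ two T v := by
    refine mem_two.2 ⟨(mem_two.1 hd).1, ?_⟩
    have h1 : v⁻¹ * d * v = (g⁻¹ * v)⁻¹ * (g⁻¹ * d * g) * (g⁻¹ * v) := by group
    rw [h1]
    exact mul_mem (mul_mem (inv_mem hgv) hfix) hgv
  have hcomm : (u * v) * d = d * (u * v) := by
    have h1 := h.invert hv hvH d hdv
    have h2 := h.invert hu huH d hd
    have h3 : (u * v) * d * (u * v)⁻¹ = d := by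
      have : (u * v) * d * (u * v)⁻¹ = u * (v * d * v⁻¹) * u⁻¹ := by group
      rw [this, h1]
      have : u * d⁻¹ * u⁻¹ = (u * d * u⁻¹)⁻¹ := by group
      rw [this, h2, inv_inv]
    exact mul_inv_eq_iff_eq_mul.1 h3
  have hmem := (mem_two.1 (h.centralizer_two hu huH hd hdne hcomm)).1
  have : g⁻¹ * u = (g⁻¹ * v) * (u * v)⁻¹ := by
    rw [mul_inv_rev, inv_of_orderOf hv, inv_of_orderOf hu, mul_assoc, ← mul_assoc v v u,
      mul_self_of_orderOf hv, one_mul]
  rw [this]; exact mul_mem hgv (inv_mem hmem)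

/-- Every coset other than `H` is `t u H` for some `t ∈ T`. -/
theorem EAHyp.exists_coset_rep (h : EAHyp T) (hu : orderOf u = 2) (huH : u ∉ nrm T)
    {g : G} (hg : g ∉ nrm T) :
    ∃ t ∈ T, (QuotientGroup.mk g : G ⧸ nrm T) = QuotientGroup.mk (t * u) := by
  classical
  obtain ⟨v, hv, hgv⟩ := h.exists_invol_coset hg
  have hvH : v ∉ nrm T := fun e => hg (by simpa using mul_mem e (inv_mem hgv))
  obtain ⟨e, he, hene⟩ := h.exists_two_ne_one hv hvH
  obtain ⟨d, hd, hdt⟩ := h.decomp hu huH (mem_two.1 he).1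
  have hdne : d ≠ 1 := by
    rintro rfl
    exact hene (h.two_inf_T hvH he (by simpa using hdt))
  let ψ : T → T := fun s =>
    ⟨(s : G) * (d * (s : G) * d⁻¹), mul_mem s.2 (conj_mem_T (mem_two.1 hd).1 s.2)⟩
  have hinj : Function.Injective ψ := by
    intro a b hab
    have hab' : (a : G) * (d * a * d⁻¹) = (b : G) * (d * b * d⁻¹) := congrArg Subtype.val hab
    by_contra hne
    have hne' : (b : G) * a ≠ 1 := fun e => hne (Subtype.ext (by
      rw [← inv_of_orderOf (h.orderOf_mem a.2 ?_)]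
      · exact (inv_eq_of_mul_eq_one_left e).trans rfl
      · intro ha
        apply hne
        refine Subtype.ext ?_
        rw [ha, mul_one] at e
        rw [ha, e]))
    apply hdne
    refine h.two_free huH hd (mul_mem b.2 a.2) hne' ?_
    have h1 : d * ((b : G) * a) * d⁻¹ = (d * b * d⁻¹) * (d * a * d⁻¹) := by group
    have h2 : (d * (a : G) * d⁻¹) = (a : G) * ((b : G) * (d * b * d⁻¹)) := by
      rw [← hab', ← mul_assoc, h.mul_self a.2, one_mul]
    rw [h1, h2]
    have hb' := conj_mem_T (mem_two.1 hd).1 b.2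
    rw [h.comm hb' (mul_mem a.2 (mul_mem b.2 hb')), mul_assoc, mul_assoc, h.mul_self hb', mul_one,
      h.comm a.2 b.2]
  obtain ⟨s, hs⟩ := Finite.injective_iff_surjective.1 hinj
    ⟨d * (d⁻¹ * e) * d⁻¹, conj_mem_T (mem_two.1 hd).1 hdt⟩
  have hs' : (s : G) * (d * (s : G) * d⁻¹) = d * (d⁻¹ * e) * d⁻¹ := congrArg Subtype.val hs
  have hse : (s : G) * d * (s : G) = e := by
    have h1 := congrArg (· * d) hs'
    simpa [mul_assoc] using h1
  refine ⟨s, s.2, ?_⟩
  have hsT : (s : G) ∈ nrm T := T_le s.2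
  have hsg : (s : G) * g ∉ nrm T := fun e => hg (by simpa using mul_mem (inv_mem hsT) e)
  have hfix : ((s : G) * g)⁻¹ * d * ((s : G) * g) ∈ nrm T := by
    have h1 : ((s : G) * g)⁻¹ * d * ((s : G) * g) = g⁻¹ * ((s : G)⁻¹ * d * s) * g := by group
    have h2 : (s : G)⁻¹ = s := inv_eq_of_mul_eq_one_right (h.mul_self s.2)
    rw [h1, h2, hse]
    have h3 : g⁻¹ * e * g = (g⁻¹ * v) * (v⁻¹ * e * v) * (g⁻¹ * v)⁻¹ := by group
    rw [h3]
    exact mul_mem (mul_mem hgv (mem_two.1 he).2) (inv_mem hgv)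
  have := h.fixed_points hu huH hd hdne hsg hfix
  rw [mk_eq_mk]
  rw [mul_inv_rev, inv_eq_of_mul_eq_one_right (h.mul_self s.2), mul_assoc] at this
  exact this

theorem EAHyp.coset_rep_unique (h : EAHyp T) (hu : orderOf u = 2) (huH : u ∉ nrm T)
    {s t : G} (hs : s ∈ T) (ht : t ∈ T)
    (he : (QuotientGroup.mk (s * u) : G ⧸ nrm T) = QuotientGroup.mk (t * u)) : s = t := by
  rw [mk_eq_mk] at he
  have h1 : s⁻¹ * t ∈ two T u := by
    refine mem_two.2 ⟨T_le (mul_mem (inv_mem hs) ht), ?_⟩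
    simpa [mul_assoc] using he
  exact inv_mul_eq_one.1 (h.two_inf_T huH h1 (mul_mem (inv_mem hs) ht))

theorem mk_one_ne {g : G} (hg : g ∉ nrm T) :
    (QuotientGroup.mk g : G ⧸ nrm T) ≠ QuotientGroup.mk 1 := by
  rw [Ne, mk_eq_mk]
  simpa using hg

omit [Finite G] in
theorem EAHyp.tu_notMem (huH : u ∉ nrm T) {t : G} (ht : t ∈ T) : t * u ∉ nrm T :=
  fun e => huH (by simpa using mul_mem (inv_mem (T_le ht)) e)

theorem EAHyp.exists_rep_point (h : EAHyp T) (hu : orderOf u = 2) (huH : u ∉ nrm T)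
    {x : G ⧸ nrm T} (hx : x ≠ QuotientGroup.mk 1) :
    ∃ t ∈ T, x = QuotientGroup.mk (t * u) := by
  induction x using QuotientGroup.induction_on with
  | H g =>
    refine h.exists_coset_rep hu huH fun hg => hx ?_
    rw [mk_eq_mk]
    simpa using inv_mem hg

/-- `T` is regular on the cosets other than `H`. -/
theorem EAHyp.regular (h : EAHyp T) {x y : G ⧸ nrm T}
    (hx : x ≠ QuotientGroup.mk 1) (hy : y ≠ QuotientGroup.mk 1) :
    ∃! t : G, t ∈ T ∧ t • x = y := by
  obtain ⟨u, hu, huH⟩ := h.exists_invol_notMem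
  obtain ⟨s, hs, rfl⟩ := h.exists_rep_point hu huH hx
  obtain ⟨s', hs', rfl⟩ := h.exists_rep_point hu huH hy
  refine ⟨s' * s⁻¹, ⟨mul_mem hs' (inv_mem hs), ?_⟩, ?_⟩
  · rw [MulAction.Quotient.smul_mk, smul_eq_mul]
    congr 1
    group
  · rintro t ⟨ht, hte⟩
    rw [MulAction.Quotient.smul_mk, smul_eq_mul, ← mul_assoc] at hte
    have := h.coset_rep_unique hu huH (mul_mem ht hs) hs' hte
    rw [← this, mul_inv_cancel_right]

theorem EAHyp.exists_move (h : EAHyp T) {u t₀ : G} (hu : orderOf u = 2) (huH : u ∉ nrm T)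
    (ht₀ : t₀ ∈ T) (ht₀ne : t₀ ≠ 1) {x₁ x₂ x₃ : G ⧸ nrm T}
    (h12 : x₁ ≠ x₂) (h13 : x₁ ≠ x₃) (h23 : x₂ ≠ x₃) :
    ∃ g : G, g • (QuotientGroup.mk 1 : G ⧸ nrm T) = x₁ ∧
      g • (QuotientGroup.mk u : G ⧸ nrm T) = x₂ ∧
      g • (QuotientGroup.mk (t₀ * u) : G ⧸ nrm T) = x₃ := by
  obtain ⟨g₁, rfl⟩ : ∃ g₁ : G, g₁ • (QuotientGroup.mk 1 : G ⧸ nrm T) = x₁ :=
    MulAction.exists_smul_eq G _ _
  obtain ⟨s, hs, hse⟩ := h.exists_rep_point hu huH (x := g₁⁻¹ • x₂)
    (fun e => h12 (by rw [← e, smul_inv_smul]))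
  have hs1 : s • (QuotientGroup.mk 1 : G ⧸ nrm T) = QuotientGroup.mk 1 := by
    rw [MulAction.Quotient.smul_mk, smul_eq_mul, mul_one, mk_eq_mk]
    simpa using inv_mem (T_le hs)
  have hsu : s • (QuotientGroup.mk u : G ⧸ nrm T) = g₁⁻¹ • x₂ := by
    rw [hse, MulAction.Quotient.smul_mk, smul_eq_mul]
  obtain ⟨t, ht, hte⟩ := h.exists_rep_point hu huH (x := s⁻¹ • g₁⁻¹ • x₃) (fun e => by
    apply h13
    have := congrArg (fun z => g₁ • s • z) e
    simp only [smul_inv_smul] at this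
    rw [this, hs1])
  have htne : t ≠ 1 := by
    rintro rfl
    apply h23
    have := congrArg (fun z => g₁ • s • z) hte
    simp only [smul_inv_smul, one_mul] at this
    rw [this, hsu, smul_inv_smul]
  obtain ⟨d, hd, hdt⟩ := h.two_transitive hu huH ht₀ ht₀ne ht htne
  have hd1 : d • (QuotientGroup.mk 1 : G ⧸ nrm T) = QuotientGroup.mk 1 := by
    rw [MulAction.Quotient.smul_mk, smul_eq_mul, mul_one, mk_eq_mk]
    simpa using inv_mem (mem_two.1 hd).1
  have hdu : d • (QuotientGroup.mk u : G ⧸ nrm T) = QuotientGroup.mk u := by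
    rw [MulAction.Quotient.smul_mk, smul_eq_mul, mk_eq_mk]
    have := inv_mem (mem_two.1 hd).2
    simpa [mul_assoc] using this
  have hd0 : d • (QuotientGroup.mk (t₀ * u) : G ⧸ nrm T) = QuotientGroup.mk (t * u) := by
    have : d * (t₀ * u) = t * (d * u) := by
      rw [← hdt]; group
    rw [MulAction.Quotient.smul_mk, smul_eq_mul, this]
    rw [MulAction.Quotient.smul_mk, smul_eq_mul] at hdu
    have h2 := congrArg (fun z : G ⧸ nrm T => t • z) hdu
    simpa [MulAction.Quotient.smul_mk] using h2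
  refine ⟨g₁ * s * d, ?_, ?_, ?_⟩
  · rw [mul_smul, mul_smul, hd1, hs1]
  · rw [mul_smul, mul_smul, hdu, hsu, smul_inv_smul]
  · rw [mul_smul, mul_smul, hd0, ← hte, smul_inv_smul, smul_inv_smul]

theorem EAHyp.three_transitive (h : EAHyp T) {x₁ x₂ x₃ y₁ y₂ y₃ : G ⧸ nrm T}
    (h12 : x₁ ≠ x₂) (h13 : x₁ ≠ x₃) (h23 : x₂ ≠ x₃)
    (k12 : y₁ ≠ y₂) (k13 : y₁ ≠ y₃) (k23 : y₂ ≠ y₃) :
    ∃ g : G, g • x₁ = y₁ ∧ g • x₂ = y₂ ∧ g • x₃ = y₃ := by
  obtain ⟨u, hu, huH⟩ := h.exists_invol_notMem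
  obtain ⟨t₀, ht₀, ht₀T, -⟩ := h.exists_central
  obtain ⟨a, a1, a2, a3⟩ := h.exists_move hu huH ht₀T (ne_one_of_orderOf ht₀) h12 h13 h23
  obtain ⟨b, b1, b2, b3⟩ := h.exists_move hu huH ht₀T (ne_one_of_orderOf ht₀) k12 k13 k23
  exact ⟨b * a⁻¹, by rw [mul_smul, ← a1, inv_smul_smul, b1],
    by rw [mul_smul, ← a2, inv_smul_smul, b2], by rw [mul_smul, ← a3, inv_smul_smul, b3]⟩

theorem EAHyp.sharp (h : EAHyp T) {g : G} {x₁ x₂ x₃ : G ⧸ nrm T}
    (h12 : x₁ ≠ x₂) (h13 : x₁ ≠ x₃) (h23 : x₂ ≠ x₃)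
    (g1 : g • x₁ = x₁) (g2 : g • x₂ = x₂) (g3 : g • x₃ = x₃) : g = 1 := by
  obtain ⟨u, hu, huH⟩ := h.exists_invol_notMem
  obtain ⟨t₀, ht₀, ht₀T, -⟩ := h.exists_central
  obtain ⟨a, a1, a2, a3⟩ := h.exists_move hu huH ht₀T (ne_one_of_orderOf ht₀) h12 h13 h23
  set e := a⁻¹ * g * a with he
  have key : ∀ k : G, a • (QuotientGroup.mk k : G ⧸ nrm T) = g • (a • QuotientGroup.mk k) →
      k⁻¹ * e * k ∈ nrm T := by
    intro k hk
    rw [MulAction.Quotient.smul_mk, MulAction.Quotient.smul_mk, smul_eq_mul, smul_eq_mul,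
      mk_eq_mk] at hk
    have h2 : k⁻¹ * e * k = (a * k)⁻¹ * (g * (a * k)) := by rw [he]; group
    rw [h2]; exact hk
  have e1 := key 1 (by rw [a1, g1])
  have e2 := key u (by rw [a2, g2])
  have e3 := key (t₀ * u) (by rw [a3, g3])
  by_contra hg
  have hene : e ≠ 1 := fun e0 => hg (by
    rw [he, mul_assoc, inv_mul_eq_iff_eq_mul, mul_one] at e0
    simpa using e0)
  have heD : e ∈ two T u := mem_two.2 ⟨by simpa using e1, e2⟩
  have h4 := h.fixed_points hu huH heD hene (EAHyp.tu_notMem huH ht₀T) e3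
  rw [← mk_eq_mk] at h4
  exact ne_one_of_orderOf ht₀
    (h.coset_rep_unique hu huH ht₀T (one_mem _) (by rwa [one_mul]))

theorem EAHyp.normalizer_two (h : EAHyp T) (hu : orderOf u = 2) (huH : u ∉ nrm T) :
    normalizer (two T u : Set G) = two T u ⊔ zpowers u := by
  apply le_antisymm
  · intro n hn
    obtain ⟨d, hd, hdne⟩ := h.exists_two_ne_one hu huH
    have hHcase : ∀ m ∈ normalizer (two T u : Set G), m ∈ nrm T → m ∈ two T u := by
      intro m hm hmH
      obtain ⟨e, he, het⟩ := h.decomp hu huH hmH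
      have hd' : m * d * m⁻¹ ∈ two T u := (mem_normalizer_iff.1 hm d).1 hd
      have hs : (e⁻¹ * m) * d * (e⁻¹ * m)⁻¹ ∈ two T u := by
        have : (e⁻¹ * m) * d * (e⁻¹ * m)⁻¹ = e⁻¹ * (m * d * m⁻¹) * e := by group
        rw [this]; exact mul_mem (mul_mem (inv_mem he) hd') he
      set s := e⁻¹ * m with hsdef
      have h1 : s * (d * s * d⁻¹) = (s * d * s⁻¹) * d⁻¹ := by
        rw [inv_eq_of_mul_eq_one_right (h.mul_self het)]; group
      have h2 := h.two_inf_T huH (x := s * (d * s * d⁻¹))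
        (h1 ▸ mul_mem hs (inv_mem hd)) (mul_mem het (conj_mem_T (mem_two.1 hd).1 het))
      by_cases hs1 : s = 1
      · rw [hsdef] at hs1; exact (inv_mul_eq_one.1 hs1) ▸ he
      · exfalso
        apply hdne
        refine h.two_free huH hd het hs1 ?_
        have h5 := congrArg (fun z => s * z) h2
        simp only [← mul_assoc, h.mul_self het, one_mul, mul_one] at h5
        exact h5
    by_cases hnH : n ∈ nrm T
    · exact mem_sup_left (hHcase n hn hnH)
    · have hfix : n⁻¹ * d * n ∈ nrm T := by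
        have := (mem_normalizer_iff.1 (inv_mem hn) d).1 hd
        rw [inv_inv] at this
        exact (mem_two.1 this).1
      have h6 := h.fixed_points hu huH hd hdne hnH hfix
      have hu' : u ∈ normalizer (two T u : Set G) := by
        apply Cfsg.Agent.Lib.Fusion.Alperin.mem_normalizer_of_conjS_eq
        refine eq_of_le_of_card_ge (fun z hz => ?_)
          (Cfsg.Agent.Lib.Fusion.Alperin.card_conjS u _).ge
        rw [Cfsg.Agent.Lib.Fusion.Alperin.mem_conjS] at hz
        have := two_swap hu hz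
        simpa [mul_assoc] using this
      have h7 : u⁻¹ * n ∈ two T u :=
        hHcase _ (mul_mem (inv_mem hu') hn) (by simpa [mul_assoc] using inv_mem h6)
      rw [show n = u * (u⁻¹ * n) by group]
      exact mul_mem (mem_sup_right (mem_zpowers u)) (mem_sup_left h7)
  · refine sup_le le_normalizer (zpowers_le.2 ?_)
    apply Cfsg.Agent.Lib.Fusion.Alperin.mem_normalizer_of_conjS_eq
    refine eq_of_le_of_card_ge (fun z hz => ?_)
      (Cfsg.Agent.Lib.Fusion.Alperin.card_conjS u _).ge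
    rw [Cfsg.Agent.Lib.Fusion.Alperin.mem_conjS] at hz
    have := two_swap hu hz
    simpa [mul_assoc] using this

end Cfsg.Agent.Lib.Fusion.EACentralizers
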