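import Mathlib
import Cfsg.Agent.Lib.Fusion.SectionCount
import Cfsg.Agent.Lib.Fusion.RankTwoFusionSimple
import Cfsg.Agent.Lib.Suzuki2.Basic

/-!
A `2`-group with an elementary abelian subgroup `T` of order `16` containing a four-subgroup `B`
all of whose involutions have centralizer `T`: its elementary abelian sections have order at most
`16`.
-/

set_option autoImplicit false

namespace Cfsg.Agent.Lib.Fusion.FourByFour

open Subgroup Alperin SectionCount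
open Cfsg.Agent.Lib.Fusion.RankTwoFusionSimple (Four mem_normalizer_of conj_mem conj_inj conj_mul')
open scoped commutatorElement

variable {G : Type*} [Group G]

/-- The configuration. -/
structure Setup (S T B : Subgroup G) : Prop where
  pgroup : IsPGroup 2 S
  le : T ≤ S
  card : Nat.card T = 16
  sq : ∀ t ∈ T, t * t = 1
  four : Four B
  bT : B ≤ T
  cent : ∀ b ∈ B, b ≠ 1 → ∀ s ∈ S, s * b = b * s → s ∈ T

/-- An involution of `N_S(T) / T`. -/
structure Inv (S T : Subgroup G) (g : G) : Prop where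
  memS : g ∈ S
  norm : ∀ t ∈ T, g * t * g⁻¹ ∈ T
  notMem : g ∉ T
  sq : g * g ∈ T

namespace Setup

variable {S T B : Subgroup G} (X : Setup S T B)
include X

theorem inv {t : G} (ht : t ∈ T) : t⁻¹ = t := inv_eq_of_mul_eq_one_right (X.sq t ht)

theorem comm {a b : G} (ha : a ∈ T) (hb : b ∈ T) : a * b = b * a := by
  rw [← X.inv (T.mul_mem ha hb), mul_inv_rev, X.inv ha, X.inv hb]

theorem self_centralizing {s : G} (hs : s ∈ S) (hc : ∀ t ∈ T, s * t * s⁻¹ = t) : s ∈ T := by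
  obtain ⟨b, hb, hb1, -⟩ := X.four.exists_ne 1
  exact X.cent b hb hb1 s hs (mul_inv_eq_iff_eq_mul.1 (hc b (X.bT hb)))

theorem fixed_conj {g t : G} (ht : t ∈ T) (hg : g * g ∈ T) :
    g * (g * t * g⁻¹) * g⁻¹ = t := by
  rw [show g * (g * t * g⁻¹) * g⁻¹ = g * g * t * (g * g)⁻¹ by group, X.comm hg ht,
    mul_inv_cancel_right]

theorem mul_conj_fixed {g t : G} (hg : Inv S T g) (ht : t ∈ T) :
    g * (t * (g * t * g⁻¹)) * g⁻¹ = t * (g * t * g⁻¹) := by
  rw [show g * (t * (g * t * g⁻¹)) * g⁻¹ = g * t * g⁻¹ * (g * (g * t * g⁻¹) * g⁻¹) by group,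
    X.fixed_conj ht hg.sq, X.comm (hg.norm t ht) ht]

end Setup

variable [Finite G]

/-- Two subgroups of `T` meeting trivially. -/
theorem card_mul_le {T A B : Subgroup G} (hA : A ≤ T) (hB : B ≤ T)
    (h : ∀ x ∈ A, x ∈ B → x = 1) : Nat.card A * Nat.card B ≤ Nat.card T := by
  rw [← Nat.card_prod]
  refine Nat.card_le_card_of_injective
    (fun p : A × B => (⟨(p.1 : G) * p.2, T.mul_mem (hA p.1.2) (hB p.2.2)⟩ : T)) ?_
  rintro ⟨a, b⟩ ⟨a', b'⟩ e
  have e' : (a : G) * b = a' * b' := congrArg Subtype.val e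
  have h1 : (a' : G)⁻¹ * a = 1 := by
    refine h _ (A.mul_mem (A.inv_mem a'.2) a.2) ?_
    rw [show (a' : G)⁻¹ * a = b' * (b : G)⁻¹ by
      rw [eq_mul_inv_iff_mul_eq, mul_assoc, e', inv_mul_cancel_left]]
    exact B.mul_mem b'.2 (B.inv_mem b.2)
  have ha : (a' : G) = a := inv_mul_eq_one.1 h1
  rw [ha] at e'
  exact Prod.ext (Subtype.ext ha.symm) (Subtype.ext (mul_left_cancel e'))

/-- Bounding an index by a function separating the cosets. -/
theorem relIndex_le_of_fun {A C : Subgroup G} {α : Type*} [Finite α] (f : C → α)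
    (h : ∀ x y : C, f x = f y → (x : G)⁻¹ * y ∈ A) : A.relIndex C ≤ Nat.card α := by
  refine Nat.card_le_card_of_injective (fun q : C ⧸ A.subgroupOf C => f q.out) fun q q' e => ?_
  rw [← QuotientGroup.out_eq' q, ← QuotientGroup.out_eq' q', QuotientGroup.eq, mem_subgroupOf]
  exact h _ _ e

/-- A killed element does not contribute. -/
theorem relIndex_le_mul_mem {H K M Y : Subgroup G} {x : G} (hx : x ∈ K) (hxY : x ∈ H ⊓ Y)
    (hMY : M ≤ Y) (hcov : ∀ y ∈ Y, y ∈ M ∨ y * x⁻¹ ∈ M) :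
    K.relIndex (H ⊓ Y) ≤ K.relIndex (H ⊓ M) := by
  have hle : H ⊓ M ≤ H ⊓ Y := inf_le_inf_left H hMY
  refine Nat.card_le_card_of_surjective
    (fun q : ↥(H ⊓ M) ⧸ K.subgroupOf (H ⊓ M) =>
      ((⟨q.out.1, hle q.out.2⟩ : ↥(H ⊓ Y)) : ↥(H ⊓ Y) ⧸ K.subgroupOf (H ⊓ Y))) fun q => ?_
  obtain ⟨⟨y, hy⟩, rfl⟩ := QuotientGroup.mk_surjective q
  obtain ⟨m, hm, hym⟩ : ∃ m, m ∈ H ⊓ M ∧ m⁻¹ * y ∈ K := by
    rcases hcov y hy.2 with h | h
    · exact ⟨y, ⟨hy.1, h⟩, by rw [inv_mul_cancel]; exact K.one_mem⟩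
    · exact ⟨y * x⁻¹, ⟨H.mul_mem hy.1 (H.inv_mem hxY.1), h⟩, by
        rw [show (y * x⁻¹)⁻¹ * y = x by group]; exact hx⟩
  refine ⟨((⟨m, hm⟩ : ↥(H ⊓ M)) : ↥(H ⊓ M) ⧸ K.subgroupOf (H ⊓ M)), ?_⟩
  have h1 := QuotientGroup.mk_out_eq_mul (K.subgroupOf (H ⊓ M)) (⟨m, hm⟩ : ↥(H ⊓ M))
  obtain ⟨⟨k, hk⟩, hkm⟩ := h1
  rw [QuotientGroup.eq, mem_subgroupOf]
  simp only [Subgroup.coe_mul, Subgroup.coe_inv]
  rw [hkm]
  simp only [Subgroup.coe_mul]
  rw [mem_subgroupOf] at hk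
  rw [show (m * (k : G))⁻¹ * y = (k : G)⁻¹ * (m⁻¹ * y) by group]
  exact K.mul_mem (K.inv_mem hk) hym

namespace Setup

variable {S T B : Subgroup G} (X : Setup S T B)
include X

omit [Finite G] in
theorem meet {g : G} (hg : Inv S T g) {x : G} (hx : x ∈ T ⊓ centralizer ({g} : Set G))
    (hxB : x ∈ B) : x = 1 := by
  by_contra h1
  exact hg.notMem (X.cent x hxB h1 g hg.memS (mem_centralizer_singleton_iff.1 hx.2).symm)

/-- The commutator with an involution of `N_S(T) / T`. -/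
def comHom {g : G} (hg : Inv S T g) : T →* T where
  toFun t := ⟨(t : G) * (g * t * g⁻¹), T.mul_mem t.2 (hg.norm t t.2)⟩
  map_one' := Subtype.ext (by simp)
  map_mul' a b := Subtype.ext (by
    show (a : G) * b * (g * (a * b) * g⁻¹) = a * (g * a * g⁻¹) * (b * (g * b * g⁻¹))
    rw [show g * ((a : G) * b) * g⁻¹ = g * a * g⁻¹ * (g * b * g⁻¹) by group, mul_assoc,
      ← mul_assoc (b : G), X.comm b.2 (hg.norm a a.2)]
    group)

theorem card_fixed {g : G} (hg : Inv S T g) :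
    Nat.card (T ⊓ centralizer ({g} : Set G) : Subgroup G) = 4 := by
  have h1 := card_mul_le (A := T ⊓ centralizer ({g} : Set G)) (B := B) inf_le_left X.bT
    fun x hx hxB => X.meet hg hx hxB
  rw [X.four.card, X.card] at h1
  set C : Subgroup G := T ⊓ centralizer ({g} : Set G)
  have hker : Nat.card (X.comHom hg).ker ≤ Nat.card C := by
    refine Nat.card_le_card_of_injective (fun t => (⟨((t : T) : G), (t : T).2, mem_centralizer_singleton_iff.2 ?_⟩ : C)) ?_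
    · have h : ((t : T) : G) * (g * (t : T) * g⁻¹) = 1 := congrArg Subtype.val t.2
      have h' := (inv_eq_of_mul_eq_one_right h).symm
      rw [X.inv (t : T).2, mul_inv_eq_iff_eq_mul] at h'
      exact h'.symm
    · intro a b h
      exact Subtype.ext (Subtype.ext (congrArg (fun z : C => (z : G)) h))
  have hran : Nat.card (X.comHom hg).range ≤ Nat.card C := by
    refine Nat.card_le_card_of_injective (fun t => (⟨((t : T) : G), (t : T).2, mem_centralizer_singleton_iff.2 ?_⟩ : C)) ?_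
    · obtain ⟨s, hs⟩ := t.2
      have h' := X.mul_conj_fixed hg s.2
      rw [← hs]
      exact (mul_inv_eq_iff_eq_mul.1 h').symm
    · intro a b h
      exact Subtype.ext (Subtype.ext (congrArg (fun z : C => (z : G)) h))
  have h2 := (X.comHom hg).ker.card_mul_index
  rw [Subgroup.index_ker, X.card] at h2
  have : 4 * 4 ≤ Nat.card C * Nat.card C := by
    calc 4 * 4 = Nat.card (X.comHom hg).ker * Nat.card (X.comHom hg).range := h2.symm
      _ ≤ _ := Nat.mul_le_mul hker hran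
  nlinarith

omit [Finite G] in
theorem two_power {U : Subgroup G} (hU : U ≤ S) {g : G} (hg : g ∈ U) {M : Subgroup G}
    (hgM : g ∉ M) : ∃ j : ℕ, g ^ 2 ^ j ∉ M ∧ g ^ 2 ^ (j + 1) ∈ M := by
  classical
  obtain ⟨n, hn⟩ := X.pgroup ⟨g, hU hg⟩
  have hex : ∃ j, g ^ 2 ^ j ∈ M := ⟨n, by
    have : g ^ 2 ^ n = 1 := by simpa using congrArg Subtype.val hn
    rw [this]; exact M.one_mem⟩
  have h0 : Nat.find hex ≠ 0 := fun h => hgM (by simpa [h] using Nat.find_spec hex)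
  refine ⟨Nat.find hex - 1, Nat.find_min hex (by omega), ?_⟩
  rw [show Nat.find hex - 1 + 1 = Nat.find hex by omega]
  exact Nat.find_spec hex

/-- A central involution of `N_S(T) / T`. -/
theorem exists_g0 (hne : ¬ S ⊓ normalizer (T : Set G) ≤ T) :
    ∃ g₀ : G, Inv S T g₀ ∧
      ∀ n ∈ S ⊓ normalizer (T : Set G), ∃ t ∈ T, n * g₀ * n⁻¹ = t * g₀ := by
  have : Fact (Nat.Prime 2) := ⟨Nat.prime_two⟩
  set N : Subgroup G := S ⊓ normalizer (T : Set G)
  have hTN : T ≤ N := le_inf X.le le_normalizer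
  have hnor : (T.subgroupOf N).Normal := ⟨fun a ha n => by
    rw [mem_subgroupOf] at ha ⊢
    exact conj_mem n.2.2 ha⟩
  have hp : IsPGroup 2 (N ⧸ T.subgroupOf N) := (X.pgroup.to_le inf_le_left).to_quotient _
  have : Nontrivial (N ⧸ T.subgroupOf N) := by
    obtain ⟨n, hn, hnT⟩ := SetLike.not_le_iff_exists.1 hne
    exact nontrivial_of_ne ((⟨n, hn⟩ : N) : N ⧸ T.subgroupOf N) 1
      (by rwa [Ne, QuotientGroup.eq_one_iff, mem_subgroupOf])
  have := hp.center_nontrivial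
  obtain ⟨⟨c, hc⟩, hc1⟩ := exists_ne (1 : center (N ⧸ T.subgroupOf N))
  obtain ⟨j, hj1, hj⟩ := Suzuki2.Basic.exists_involution_pow hp (x := c)
    fun h => hc1 (Subtype.ext h)
  obtain ⟨⟨g, hgN⟩, hg⟩ := QuotientGroup.mk_surjective (c ^ 2 ^ j)
  rw [← hg, Ne, QuotientGroup.eq_one_iff, mem_subgroupOf] at hj1
  rw [← hg, ← QuotientGroup.mk_mul, QuotientGroup.eq_one_iff, mem_subgroupOf] at hj
  refine ⟨g, ⟨hgN.1, fun t ht => conj_mem hgN.2 ht, hj1, hj⟩, fun n hn => ?_⟩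
  have hcen : c ^ 2 ^ j ∈ center (N ⧸ T.subgroupOf N) := pow_mem hc _
  rw [← hg, mem_center_iff] at hcen
  have h' := hcen ((⟨n, hn⟩ : N) : N ⧸ T.subgroupOf N)
  rw [← QuotientGroup.mk_mul, ← QuotientGroup.mk_mul, QuotientGroup.eq, mem_subgroupOf] at h'
  refine ⟨n * g * n⁻¹ * g⁻¹, ?_, by group⟩
  simp only [Subgroup.coe_mul, Subgroup.coe_inv] at h' ⊢
  have e := conj_mem (mul_mem hn.2 hgN.2) h'
  rw [show n * g * ((n * g)⁻¹ * (g * n)) * (n * g)⁻¹ = g * n * g⁻¹ * n⁻¹ by group] at e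
  have := T.inv_mem e
  rwa [show (g * n * g⁻¹ * n⁻¹)⁻¹ = n * g * n⁻¹ * g⁻¹ by group] at this

omit [Finite G] in
theorem delta_mem {g₀ : G} (h₀ : Inv S T g₀) {t : G} (ht : t ∈ T) :
    t * (g₀ * t * g₀⁻¹) ∈ T ⊓ centralizer ({g₀} : Set G) :=
  ⟨T.mul_mem ht (h₀.norm t ht), mem_centralizer_singleton_iff.2
    (mul_inv_eq_iff_eq_mul.1 (X.mul_conj_fixed h₀ ht)).symm⟩

omit [Finite G] in
theorem eq_of_moves {g₀ : G} {t : G} (ht : t ∈ T) (h1 : t * (g₀ * t * g₀⁻¹) = 1) :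
    t ∈ T ⊓ centralizer ({g₀} : Set G) := by
  refine ⟨ht, mem_centralizer_singleton_iff.2 ?_⟩
  have h' := (inv_eq_of_mul_eq_one_right h1).symm
  rw [X.inv ht, mul_inv_eq_iff_eq_mul] at h'
  exact h'.symm

section Central

variable {g₀ : G} (h₀ : Inv S T g₀)
  (hc : ∀ n ∈ S ⊓ normalizer (T : Set G), ∃ t ∈ T, n * g₀ * n⁻¹ = t * g₀)
include h₀ hc

omit [Finite G] in
/-- Conjugation by `g₀` commutes with `N_S(T)` on `T`. -/
theorem equivariant {n : G} (hn : n ∈ S ⊓ normalizer (T : Set G)) {t : G} (ht : t ∈ T) :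
    g₀ * (n * t * n⁻¹) * g₀⁻¹ = n * (g₀ * t * g₀⁻¹) * n⁻¹ := by
  obtain ⟨s, hs, he⟩ := hc n hn
  have hm : g₀ * (n * t * n⁻¹) * g₀⁻¹ ∈ T := h₀.norm _ (conj_mem hn.2 ht)
  calc g₀ * (n * t * n⁻¹) * g₀⁻¹
      = s * (g₀ * (n * t * n⁻¹) * g₀⁻¹) * s⁻¹ := by
        rw [X.comm hs hm, mul_inv_cancel_right]
    _ = (s * g₀) * (n * t * n⁻¹) * (s * g₀)⁻¹ := by group
    _ = n * (g₀ * t * g₀⁻¹) * n⁻¹ := by rw [← he]; group

omit [Finite G] in
theorem conj_fixed {n : G} (hn : n ∈ S ⊓ normalizer (T : Set G)) {w : G}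
    (hw : w ∈ T ⊓ centralizer ({g₀} : Set G)) :
    n * w * n⁻¹ ∈ T ⊓ centralizer ({g₀} : Set G) := by
  refine ⟨conj_mem hn.2 hw.1, mem_centralizer_singleton_iff.2 ?_⟩
  have h := X.equivariant h₀ hc hn hw.1
  have hw' : g₀ * w * g₀⁻¹ = w := by
    rw [← mem_centralizer_singleton_iff.1 hw.2, mul_inv_cancel_right]
  rw [hw'] at h
  exact (mul_inv_eq_iff_eq_mul.1 h).symm

/-- An involution of `N_S(T)/T` fixes the same elements as `g₀`. -/
theorem fixes {k : G} (hk : Inv S T k) {w : G} (hw : w ∈ T ⊓ centralizer ({g₀} : Set G)) :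
    k * w * k⁻¹ = w := by
  set W : Subgroup G := T ⊓ centralizer ({g₀} : Set G) with hWdef
  set P : Subgroup G := T ⊓ centralizer ({k} : Set G) with hPdef
  have hkN : k ∈ S ⊓ normalizer (T : Set G) := ⟨hk.memS, mem_normalizer_of hk.norm⟩
  by_contra hmove
  have hPW : ∀ {x}, x ∈ P → k * x * k⁻¹ = x := fun hx => by
    rw [← mem_centralizer_singleton_iff.1 hx.2, mul_inv_cancel_right]
  have hWg : ∀ {x}, x ∈ W → g₀ * x * g₀⁻¹ = x := fun hx => by
    rw [← mem_centralizer_singleton_iff.1 hx.2, mul_inv_cancel_right]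
  have hne : ¬ W ≤ P := fun h => hmove (hPW (h hw))
  -- `g₀ * k` is an involution modulo `T`
  obtain ⟨s, hs, hse⟩ := hc k hkN
  have hgk : Inv S T (g₀ * k) := by
    refine ⟨mul_mem h₀.memS hk.memS, fun t ht => ?_, fun h => hmove ?_, ?_⟩
    · rw [show g₀ * k * t * (g₀ * k)⁻¹ = g₀ * (k * t * k⁻¹) * g₀⁻¹ by group]
      exact h₀.norm _ (hk.norm t ht)
    · have e : g₀ * k * w * (g₀ * k)⁻¹ = w := by rw [X.comm h hw.1, mul_inv_cancel_right]
      apply conj_inj (g := g₀)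
      rw [show g₀ * (k * w * k⁻¹) * g₀⁻¹ = g₀ * k * w * (g₀ * k)⁻¹ by group, e, hWg hw]
    · rw [show g₀ * k * (g₀ * k) = g₀ * (k * g₀ * k⁻¹) * (k * k) by group, hse,
        show g₀ * (s * g₀) = g₀ * s * g₀⁻¹ * (g₀ * g₀) by group]
      exact T.mul_mem (T.mul_mem (h₀.norm s hs) h₀.sq) hk.sq
  have hcardW : Nat.card W = 4 := X.card_fixed h₀
  -- `B` meets `W P`
  obtain ⟨b, hbB, hb1, a, haW, p, hpP, rfl⟩ : ∃ b ∈ B, b ≠ 1 ∧ ∃ a ∈ W, ∃ p ∈ P, a * p = b := by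
    by_contra hcon
    push Not at hcon
    let M : Subgroup G :=
      { carrier := {x | ∃ a ∈ W, ∃ p ∈ P, a * p = x}
        one_mem' := ⟨1, W.one_mem, 1, P.one_mem, one_mul 1⟩
        mul_mem' := by
          rintro _ _ ⟨a, ha, p, hp, rfl⟩ ⟨a', ha', p', hp', rfl⟩
          refine ⟨a * a', W.mul_mem ha ha', p * p', P.mul_mem hp hp', ?_⟩
          rw [mul_assoc, ← mul_assoc a', X.comm ha'.1 hp.1]
          group
        inv_mem' := by
          rintro _ ⟨a, ha, p, hp, rfl⟩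
          exact ⟨a⁻¹, W.inv_mem ha, p⁻¹, P.inv_mem hp, by
            rw [mul_inv_rev, X.comm (T.inv_mem ha.1) (T.inv_mem hp.1)]⟩ }
    have hMT : M ≤ T := by rintro _ ⟨a, ha, p, hp, rfl⟩; exact T.mul_mem ha.1 hp.1
    have h := card_mul_le (A := M) (B := B) hMT X.bT (fun x hx hxB => by
      obtain ⟨a, ha, p, hp, rfl⟩ := hx
      by_contra h1
      exact hcon _ hxB h1 a ha p hp rfl)
    rw [X.four.card, X.card] at h
    have hPM : P ≤ M := fun p hp => ⟨1, W.one_mem, p, hp, one_mul p⟩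
    have hWM : W ≤ M := fun a ha => ⟨a, ha, 1, P.one_mem, mul_one a⟩
    have e : P = M := eq_of_le_of_card_ge hPM (by rw [X.card_fixed hk]; omega)
    exact hne (e ▸ hWM)
  by_cases ha : k * a * k⁻¹ = a
  · exact hb1 (X.meet hk ⟨T.mul_mem haW.1 hpP.1, mem_centralizer_singleton_iff.2 (by
      refine (mul_inv_eq_iff_eq_mul.1 ?_).symm
      rw [show k * (a * p) * k⁻¹ = k * a * k⁻¹ * (k * p * k⁻¹) by group, ha, hPW hpP])⟩ hbB)
  by_cases hp : p ∈ W
  · exact hb1 (X.meet h₀ (W.mul_mem haW hp) hbB)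
  refine hb1 (X.meet hgk ⟨T.mul_mem haW.1 hpP.1, mem_centralizer_singleton_iff.2 ?_⟩ hbB)
  refine (mul_inv_eq_iff_eq_mul.1 ?_).symm
  -- the two elements of `W ∩ P`
  set δ := p * (g₀ * p * g₀⁻¹) with hδ
  have hδW : δ ∈ W := X.delta_mem h₀ hpP.1
  have hδ1 : δ ≠ 1 := fun h => hp (X.eq_of_moves hpP.1 h)
  have hδk : k * δ * k⁻¹ = δ := by
    have h' := X.equivariant h₀ hc hkN hpP.1
    rw [hPW hpP] at h'
    rw [hδ, show k * (p * (g₀ * p * g₀⁻¹)) * k⁻¹ = k * p * k⁻¹ * (k * (g₀ * p * g₀⁻¹) * k⁻¹) by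
      group, hPW hpP, ← h']
  have hFW : Four W := ⟨hcardW, fun x hx => X.sq x hx.1⟩
  have ha1 : a ≠ 1 := fun h => ha (by rw [h]; group)
  have hδa : δ ≠ a := fun h => ha (h ▸ hδk)
  have hkaW : k * a * k⁻¹ ∈ W := X.conj_fixed h₀ hc hkN haW
  have hka : k * a * k⁻¹ = δ * a := by
    rcases hFW.cases hδW haW hδ1 ha1 hδa.symm hkaW with e | e | e | e
    · exact absurd (conj_eq_one_iff.1 e) ha1
    · exact absurd (conj_inj (e.trans hδk.symm)) hδa.symm
    · exact absurd e ha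
    · exact e
  rw [show g₀ * k * (a * p) * (g₀ * k)⁻¹ = g₀ * (k * a * k⁻¹) * g₀⁻¹ * (g₀ * (k * p * k⁻¹) * g₀⁻¹) by
    group, hWg hkaW, hka, hPW hpP]
  have hgp : g₀ * p * g₀⁻¹ = p * δ := by rw [hδ, ← mul_assoc, X.sq p hpP.1, one_mul]
  rw [hgp, X.comm hδW.1 haW.1, mul_assoc, ← mul_assoc δ, X.comm hδW.1 hpP.1, mul_assoc p,
    X.sq δ hδW.1, mul_one]

omit [Finite G] in
/-- The elements centralizing `W` act trivially on `T / W`. -/
theorem kernel_delta {n : G} (hn : n ∈ S ⊓ normalizer (T : Set G))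
    (hW : ∀ w ∈ T ⊓ centralizer ({g₀} : Set G), n * w * n⁻¹ = w) {t : G} (ht : t ∈ T) :
    t * (n * t * n⁻¹) ∈ T ⊓ centralizer ({g₀} : Set G) := by
  have ht' := conj_mem hn.2 ht
  refine X.eq_of_moves (T.mul_mem ht ht') ?_
  have h1 := hW _ (X.delta_mem h₀ ht)
  rw [show n * (t * (g₀ * t * g₀⁻¹)) * n⁻¹ = n * t * n⁻¹ * (n * (g₀ * t * g₀⁻¹) * n⁻¹) by group,
    ← X.equivariant h₀ hc hn ht] at h1
  rw [show g₀ * (t * (n * t * n⁻¹)) * g₀⁻¹ = g₀ * t * g₀⁻¹ * (g₀ * (n * t * n⁻¹) * g₀⁻¹) by group,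
    mul_assoc, ← mul_assoc (n * t * n⁻¹), X.comm ht' (h₀.norm t ht), mul_assoc (g₀ * t * g₀⁻¹),
    h1, ← mul_assoc, ← mul_assoc]
  exact X.sq _ (T.mul_mem ht (h₀.norm t ht)) ▸ by group

/-- The elements of `N_S(T)` centralizing `W`. -/
theorem sq_mem_of_fixes {n : G} (hn : n ∈ S ⊓ normalizer (T : Set G))
    (hW : ∀ w ∈ T ⊓ centralizer ({g₀} : Set G), n * w * n⁻¹ = w) : n * n ∈ T := by
  refine X.self_centralizing (mul_mem hn.1 hn.1) fun t ht => ?_
  have hd := X.kernel_delta h₀ hc hn hW ht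
  have h := hW _ hd
  rw [conj_mul'] at h
  have ht' := conj_mem hn.2 ht
  have e : n * (n * t * n⁻¹) * n⁻¹ = t := by
    apply mul_left_cancel (a := n * t * n⁻¹)
    rw [h, X.comm ht ht']
  rwa [show n * (n * t * n⁻¹) * n⁻¹ = n * n * t * (n * n)⁻¹ by group] at e

omit hc in
theorem relIndex_kernel_le {N₀ : Subgroup G} (hN₀ : N₀ ≤ S ⊓ normalizer (T : Set G))
    (hδ : ∀ n ∈ N₀, ∀ t ∈ T, t * (n * t * n⁻¹) ∈ T ⊓ centralizer ({g₀} : Set G)) :
    T.relIndex N₀ ≤ 4 := by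
  obtain ⟨b, hb, hb1, -⟩ := X.four.exists_ne 1
  refine (relIndex_le_of_fun
    (fun n : N₀ => (⟨b * (n * b * (n : G)⁻¹), hδ n n.2 b (X.bT hb)⟩ :
      (T ⊓ centralizer ({g₀} : Set G) : Subgroup G))) fun x y e => ?_).trans (X.card_fixed h₀).le
  have e' : (x : G) * b * (x : G)⁻¹ = y * b * (y : G)⁻¹ :=
    mul_left_cancel (congrArg Subtype.val e)
  refine X.cent b hb hb1 _ (mul_mem (inv_mem (hN₀ x.2).1) (hN₀ y.2).1) ?_
  calc (x : G)⁻¹ * y * b = (x : G)⁻¹ * (y * b * (y : G)⁻¹) * y := by group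
    _ = (x : G)⁻¹ * (x * b * (x : G)⁻¹) * y := by rw [e']
    _ = b * ((x : G)⁻¹ * y) := by group

/-- Modulo the centralizer of `W`, `N_S(T)` has order at most two. -/
theorem prod_fixes {n m : G} (hn : n ∈ S ⊓ normalizer (T : Set G))
    (hm : m ∈ S ⊓ normalizer (T : Set G))
    (hn' : ¬ ∀ w ∈ T ⊓ centralizer ({g₀} : Set G), n * w * n⁻¹ = w)
    (hm' : ¬ ∀ w ∈ T ⊓ centralizer ({g₀} : Set G), m * w * m⁻¹ = w) :
    ∀ w ∈ T ⊓ centralizer ({g₀} : Set G), n * m * w * (n * m)⁻¹ = w := by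
  set W : Subgroup G := T ⊓ centralizer ({g₀} : Set G) with hWdef
  have F : Four W := ⟨X.card_fixed h₀, fun x hx => X.sq x hx.1⟩
  -- no element permutes the three involutions cyclically
  have hex : ∀ {k}, k ∈ S ⊓ normalizer (T : Set G) →
      ∃ u ∈ W, u ≠ 1 ∧ k * u * k⁻¹ = u := by
    intro k hk
    by_contra hcon
    push Not at hcon
    obtain ⟨u, hu, hu1, -⟩ := F.exists_ne 1
    have hkW : k ∈ normalizer (W : Set G) := mem_normalizer_of fun x hx => X.conj_fixed h₀ hc hk hx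
    have C : RankTwoFusionSimple.Cyc k W := ⟨hkW, fun v hv hv1 => hcon v hv hv1⟩
    have hk3 : k ^ 3 * u * (k ^ 3)⁻¹ = u := by
      have h2 := C.all F hu hu1 (conj_mem hkW (conj_mem hkW (conj_mem hkW hu)))
        (fun e => hu1 (conj_eq_one_iff.1 (conj_eq_one_iff.1 (conj_eq_one_iff.1 e))))
      rw [show k ^ 3 * u * (k ^ 3)⁻¹ = k * (k * (k * u * k⁻¹) * k⁻¹) * k⁻¹ by simp [pow_succ, mul_assoc]]
      rcases h2 with e | e | e
      · exact e
      · refine absurd (conj_inj e) fun e' => ?_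
        -- a period of two
        have hv := conj_mem hkW hu
        have hv1 : k * u * k⁻¹ ≠ 1 := fun e'' => hu1 (conj_eq_one_iff.1 e'')
        refine hcon _ (W.mul_mem hu hv) (fun e'' => hcon u hu hu1 ?_) ?_
        · exact (inv_eq_of_mul_eq_one_right e'').symm.trans (F.inv hu)
        · rw [conj_mul', e', F.comm hu hv]
      · exact absurd (conj_inj e) (hcon _ (conj_mem hkW hu) (fun e'' => hu1 (conj_eq_one_iff.1 e'')))
    obtain ⟨a, ha⟩ := X.pgroup ⟨k, hk.1⟩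
    have ha' : k ^ 2 ^ a = 1 := by simpa using congrArg Subtype.val ha
    obtain ⟨i, q, hq⟩ : ∃ i q, 2 ^ a * i + 1 = 3 * q := by
      have : 2 ^ a % 3 = 1 ∨ 2 ^ a % 3 = 2 := by
        have : ¬ 3 ∣ 2 ^ a := fun h => by
          have := Nat.prime_three.dvd_of_dvd_pow h; norm_num at this
        omega
      rcases this with h | h
      · exact ⟨2, (2 ^ a * 2 + 1) / 3, by omega⟩
      · exact ⟨1, (2 ^ a + 1) / 3, by omega⟩
    have hmem : k ^ 3 ∈ centralizer ({u} : Set G) :=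
      mem_centralizer_singleton_iff.2 (mul_inv_eq_iff_eq_mul.1 hk3)
    have : k ∈ centralizer ({u} : Set G) := by
      rw [show k = k ^ (2 ^ a * i + 1) by rw [pow_succ, pow_mul, ha', one_pow, one_mul], hq, pow_mul]
      exact pow_mem hmem q
    exact hcon u hu hu1 (by rw [mem_centralizer_singleton_iff.1 this, mul_inv_cancel_right])
  have htr : ∀ {k u}, k ∈ S ⊓ normalizer (T : Set G) → ¬ (∀ w ∈ W, k * w * k⁻¹ = w) →
      u ∈ W → u ≠ 1 → k * u * k⁻¹ = u →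
      ∀ y ∈ W, y ≠ 1 → y ≠ u → k * y * k⁻¹ = u * y := by
    intro k u hk hk' hu hu1 hku y hy hy1 hyu
    rcases F.cases hu hy hu1 hy1 hyu (X.conj_fixed h₀ hc hk hy) with e | e | e | e
    · exact absurd (conj_eq_one_iff.1 e) hy1
    · exact absurd (conj_inj (e.trans hku.symm)) hyu
    · refine absurd (fun w hw => ?_) hk'
      rcases F.cases hu hy hu1 hy1 hyu hw with rfl | rfl | rfl | rfl
      · group
      · exact hku
      · exact e
      · rw [conj_mul', hku, e]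
    · exact e
  obtain ⟨u, hu, hu1, hnu⟩ := hex hn
  obtain ⟨u', hu', hu1', hmu⟩ := hex hm
  obtain ⟨x, hx, hx1, hnmx⟩ := hex (mul_mem hn hm)
  rw [show n * m * x * (n * m)⁻¹ = n * (m * x * m⁻¹) * n⁻¹ by group] at hnmx
  have huu : u = u' := by
    by_contra hne
    rcases eq_or_ne x u with rfl | hxu
    · have := conj_inj (hnmx.trans hnu.symm)
      rw [htr hm hm' hu' hu1' hmu x hx hx1 hne] at this
      exact hu1' (mul_eq_right.1 this)
    have h1 : m * x * m⁻¹ = u * x := by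
      have h := htr hn hn' hu hu1 hnu x hx hx1 hxu
      apply conj_inj (g := n)
      rw [hnmx, conj_mul', hnu, h, ← mul_assoc, F.sq u hu, one_mul]
    rcases eq_or_ne x u' with rfl | hxu'
    · rw [hmu] at h1
      exact hu1 (right_eq_mul.1 h1)
    · rw [htr hm hm' hu' hu1' hmu x hx hx1 hxu'] at h1
      exact hne (mul_right_cancel h1).symm
  subst huu
  intro y hy
  rw [show n * m * y * (n * m)⁻¹ = n * (m * y * m⁻¹) * n⁻¹ by group]
  by_cases hy1 : y = 1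
  · subst hy1; group
  by_cases hyu : y = u
  · subst hyu; rw [hmu, hnu]
  rw [htr hm hm' hu hu1 hmu y hy hy1 hyu, conj_mul', hnu, htr hn hn' hu hu1 hnu y hy hy1 hyu,
    ← mul_assoc, F.sq u hu, one_mul]

end Central

section Final

variable {g₀ : G} (h₀ : Inv S T g₀)
  (hc : ∀ n ∈ S ⊓ normalizer (T : Set G), ∃ t ∈ T, n * g₀ * n⁻¹ = t * g₀)
include h₀ hc

/-- The centralizer of `W` in `N_S(T)`. -/
@[reducible] def kern (_ : Setup S T B) (g₀ : G) : Subgroup G :=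
  (S ⊓ normalizer (T : Set G)) ⊓ centralizer ((T ⊓ centralizer ({g₀} : Set G) : Subgroup G) : Set G)

omit h₀ hc [Finite G] in
theorem mem_kern {n : G} : n ∈ X.kern g₀ ↔ n ∈ S ⊓ normalizer (T : Set G) ∧
    ∀ w ∈ T ⊓ centralizer ({g₀} : Set G), n * w * n⁻¹ = w := by
  constructor
  · exact fun h => ⟨h.1, fun w hw => by
      rw [← mem_centralizer_iff.1 h.2 w hw, mul_inv_cancel_right]⟩
  · exact fun h => ⟨h.1, mem_centralizer_iff.2 fun w hw => (mul_inv_eq_iff_eq_mul.1 (h.2 w hw)).symm⟩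

omit h₀ hc [Finite G] in
theorem le_kern : T ≤ X.kern g₀ := fun t ht => X.mem_kern.2
  ⟨⟨X.le ht, le_normalizer ht⟩, fun w hw => by rw [X.comm ht hw.1, mul_inv_cancel_right]⟩

/-- The elements of `kern` fixed by `r` modulo `W`. -/
def fixedMod (g₀ r : G) : Subgroup G where
  carrier := {y | y ∈ X.kern g₀ ∧ y⁻¹ * (r * y * r⁻¹) ∈ T ⊓ centralizer ({g₀} : Set G)}
  one_mem' := ⟨one_mem _, by simp⟩
  mul_mem' := fun {a b} ha hb => ⟨mul_mem ha.1 hb.1, by
    have h := (X.mem_kern.1 (inv_mem hb.1)).2 _ ha.2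
    rw [inv_inv] at h
    rw [show (a * b)⁻¹ * (r * (a * b) * r⁻¹) =
      b⁻¹ * (a⁻¹ * (r * a * r⁻¹)) * b * (b⁻¹ * (r * b * r⁻¹)) by group, h]
    exact mul_mem ha.2 hb.2⟩
  inv_mem' := fun {a} ha => ⟨inv_mem ha.1, by
    have h := (X.mem_kern.1 ha.1).2 _ (inv_mem ha.2)
    rw [show a⁻¹⁻¹ * (r * a⁻¹ * r⁻¹) = a * (a⁻¹ * (r * a * r⁻¹))⁻¹ * a⁻¹ by group, h]
    exact inv_mem ha.2⟩

theorem inv_mem_kern {k : G} (hk : Inv S T k) : k ∈ X.kern g₀ :=
  X.mem_kern.2 ⟨⟨hk.memS, mem_normalizer_of hk.norm⟩, fun _ hw => X.fixes h₀ hc hk hw⟩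

theorem kern_delta {n : G} (hn : n ∈ X.kern g₀) {t : G} (ht : t ∈ T) :
    t * (n * t * n⁻¹) ∈ T ⊓ centralizer ({g₀} : Set G) :=
  X.kernel_delta h₀ hc (X.mem_kern.1 hn).1 (X.mem_kern.1 hn).2 ht

theorem kern_sq {n : G} (hn : n ∈ X.kern g₀) : n * n ∈ T :=
  X.sq_mem_of_fixes h₀ hc (X.mem_kern.1 hn).1 (X.mem_kern.1 hn).2

theorem card_kern_le : T.relIndex (X.kern g₀) ≤ 4 :=
  X.relIndex_kernel_le h₀ inf_le_left fun _ hn _ ht => X.kern_delta h₀ hc hn ht

theorem mul_mem_kern {n m : G} (hn : n ∈ S ⊓ normalizer (T : Set G))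
    (hm : m ∈ S ⊓ normalizer (T : Set G)) (hn' : n ∉ X.kern g₀) (hm' : m ∉ X.kern g₀) :
    n * m ∈ X.kern g₀ := by
  rw [X.mem_kern] at hn' hm' ⊢
  exact ⟨mul_mem hn hm, X.prod_fixes h₀ hc hn hm (fun h => hn' ⟨hn, h⟩) fun h => hm' ⟨hm, h⟩⟩

theorem sq_notMem {n : G} (hn : n ∈ S ⊓ normalizer (T : Set G)) (hn' : n ∉ X.kern g₀) :
    n * n ∉ T := fun hsq =>
  hn' (X.inv_mem_kern h₀ hc ⟨hn.1, fun _ ht => conj_mem hn.2 ht,
    fun h => hn' (X.le_kern h), hsq⟩)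

theorem relIndex_kern_le : (X.kern g₀).relIndex (S ⊓ normalizer (T : Set G)) ≤ 2 := by
  classical
  refine (relIndex_le_of_fun
    (fun n : (S ⊓ normalizer (T : Set G) : Subgroup G) => decide ((n : G) ∈ X.kern g₀))
    fun x y e => ?_).trans (by simp)
  simp only [decide_eq_decide] at e
  by_cases hx : (x : G) ∈ X.kern g₀
  · exact mul_mem (inv_mem hx) (e.1 hx)
  · exact X.mul_mem_kern h₀ hc (inv_mem x.2) y.2 (fun h => hx (by simpa using inv_mem h))
      fun h => hx (e.2 h)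

variable {H K : Subgroup G} (hk : Kills H K)
include hk

omit h₀ hc [Finite G] in
theorem conj_mul_mem {g t : G} (hg : g ∈ H) (htH : t ∈ H) (ht : t ∈ T) :
    t * (g * t * g⁻¹) ∈ K := by
  have h := hk.comm t htH g hg
  rw [commutatorElement_def, show t * g * t⁻¹ * g⁻¹ = t * (g * t⁻¹ * g⁻¹) by group, X.inv ht] at h
  exact h

omit h₀ hc in
/-- The part inside `T`. -/
theorem relIndex_T_le {g : G} (hg : Inv S T g) (hgH : g ∈ H) : K.relIndex (H ⊓ T) ≤ 4 := by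
  set D : Subgroup G := H ⊓ T with hD
  let f : D →* T := (X.comHom hg).comp (inclusion inf_le_right)
  have hker : Nat.card f.ker ≤ 4 := by
    rw [← X.card_fixed hg]
    refine Nat.card_le_card_of_injective
      (fun t => (⟨((t : D) : G), X.eq_of_moves (t : D).2.2 (congrArg Subtype.val t.2)⟩ :
        (T ⊓ centralizer ({g} : Set G) : Subgroup G))) ?_
    intro a b e
    have e' : ((a : D) : G) = ((b : D) : G) :=
      congrArg (fun z : (T ⊓ centralizer ({g} : Set G) : Subgroup G) => (z : G)) e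
    exact Subtype.ext (Subtype.ext e')
  have hran : Nat.card f.range ≤ Nat.card (K ⊓ D : Subgroup G) := by
    refine Nat.card_le_card_of_injective (fun t => (⟨((t : T) : G), ?_⟩ : (K ⊓ D : Subgroup G))) ?_
    · obtain ⟨d, hd⟩ := t.2
      rw [← hd]
      exact ⟨X.conj_mul_mem hk hgH d.2.1 d.2.2,
        H.mul_mem d.2.1 (H.mul_mem (H.mul_mem hgH d.2.1) (H.inv_mem hgH)),
        T.mul_mem d.2.2 (hg.norm _ d.2.2)⟩
    · intro a b e
      have e' : ((a : T) : G) = ((b : T) : G) :=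
        congrArg (fun z : (K ⊓ D : Subgroup G) => (z : G)) e
      exact Subtype.ext (Subtype.ext e')
  have h1 := f.ker.card_mul_index
  rw [Subgroup.index_ker] at h1
  have h2 := relIndex_mul_card (K := K) D
  have : K.relIndex D * Nat.card (K ⊓ D : Subgroup G) ≤ 4 * Nat.card (K ⊓ D : Subgroup G) := by
    rw [h2, ← h1]
    exact Nat.mul_le_mul hker hran
  exact Nat.le_of_mul_le_mul_right this Nat.card_pos

omit h₀ hc in
theorem exists_inv {h : G} (hH : h ∈ H) (hN : h ∈ S ⊓ normalizer (T : Set G)) (hT : h ∉ T) :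
    ∃ g ∈ H, Inv S T g := by
  obtain ⟨j, h1, h2⟩ := X.two_power (U := S ⊓ normalizer (T : Set G)) inf_le_left hN hT
  refine ⟨h ^ 2 ^ j, pow_mem hH _, pow_mem hN.1 _, fun t ht => conj_mem (pow_mem hN.2 _) ht, h1, ?_⟩
  rwa [← pow_add, ← two_mul, ← pow_succ']

/-- The normalizer of `T`. -/
theorem bound_normalizer : K.relIndex (H ⊓ (S ⊓ normalizer (T : Set G))) ≤ 16 := by
  set N : Subgroup G := S ⊓ normalizer (T : Set G) with hN
  by_cases hHT : H ⊓ N ≤ T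
  · rw [← inf_eq_left.2 hHT]
    exact (relIndex_le_card T).trans X.card.le
  obtain ⟨h, ⟨hhH, hhN⟩, hhT⟩ := SetLike.not_le_iff_exists.1 hHT
  obtain ⟨g, hgH, hg⟩ := X.exists_inv hk hhH hhN hhT
  have h4 := X.relIndex_T_le hk hg hgH
  by_cases hH0 : H ⊓ N ≤ X.kern g₀
  · have e : H ⊓ N = H ⊓ X.kern g₀ :=
      le_antisymm (le_inf inf_le_left hH0) (inf_le_inf_left H inf_le_left)
    rw [e]
    exact (step X.le_kern).trans (Nat.mul_le_mul (X.card_kern_le h₀ hc) h4)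
  obtain ⟨n, ⟨hnH, hnN⟩, hn0⟩ := SetLike.not_le_iff_exists.1 hH0
  have hxT : n * n ∉ T := X.sq_notMem h₀ hc hnN hn0
  have hx0 : n * n ∈ X.kern g₀ := X.mul_mem_kern h₀ hc hnN hnN hn0 hn0
  set x := n * n with hx
  have hxx : x * x ∈ T := X.kern_sq h₀ hc hx0
  have hxn : ∀ t ∈ T, x * t * x⁻¹ ∈ T := fun t ht => conj_mem (X.mem_kern.1 hx0).1.2 ht
  let M : Subgroup G :=
    { carrier := {y | y ∈ T ∨ y * x⁻¹ ∈ T}
      one_mem' := Or.inl T.one_mem
      mul_mem' := by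
        rintro a b (ha | ha) (hb | hb)
        · exact Or.inl (T.mul_mem ha hb)
        · exact Or.inr (by rw [mul_assoc]; exact T.mul_mem ha hb)
        · refine Or.inr ?_
          have := T.mul_mem ha (hxn b hb)
          rwa [show a * x⁻¹ * (x * b * x⁻¹) = a * b * x⁻¹ by group] at this
        · refine Or.inl ?_
          have := T.mul_mem (T.mul_mem ha (hxn _ hb)) hxx
          rwa [show a * x⁻¹ * (x * (b * x⁻¹) * x⁻¹) * (x * x) = a * b by group] at this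
      inv_mem' := by
        rintro a (ha | ha)
        · exact Or.inl (T.inv_mem ha)
        · refine Or.inr ?_
          have h' := conj_mem (inv_mem (X.mem_kern.1 hx0).1.2) (T.inv_mem ha)
          have := T.mul_mem h' (T.inv_mem hxx)
          rwa [show x⁻¹ * (a * x⁻¹)⁻¹ * x⁻¹⁻¹ * (x * x)⁻¹ = a⁻¹ * x⁻¹ by group] at this }
  have hTM : T ≤ M := fun y hy => Or.inl hy
  have hxM : x ∈ M := Or.inr (by rw [mul_inv_cancel]; exact T.one_mem)
  have hMk : M ≤ X.kern g₀ := by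
    rintro y (hy | hy)
    · exact X.le_kern hy
    · simpa using mul_mem (X.le_kern hy) hx0
  have h2 : M.relIndex (X.kern g₀) ≤ 2 := by
    have e := relIndex_mul_relIndex T M (X.kern g₀) hTM hMk
    have h3 := X.card_kern_le h₀ hc
    have h5 : 2 ≤ T.relIndex M := by
      have h6 : T.relIndex M ≠ 1 := fun h => hxT (relIndex_eq_one.1 h hxM)
      have h7 : T.relIndex M ≠ 0 := index_ne_zero_of_finite
      omega
    nlinarith
  calc K.relIndex (H ⊓ N) ≤ (X.kern g₀).relIndex N * K.relIndex (H ⊓ X.kern g₀) :=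
        step inf_le_left
    _ ≤ 2 * (2 * 4) := by
        refine Nat.mul_le_mul (X.relIndex_kern_le h₀ hc) ((step hMk).trans (Nat.mul_le_mul h2 ?_))
        exact (relIndex_le_mul_mem (hk.sq n hnH) ⟨mul_mem hnH hnH, hxM⟩ hTM
          fun y hy => hy).trans h4
    _ = 16 := rfl

omit hk

/-- The structure when `N_S(T) < S`: two conjugates of `T`. -/
structure Pair (_ : Setup S T B) (g₀ : G) (T' : Subgroup G) : Prop where
  ne : T' ≠ T
  le : T' ≤ (S ⊓ normalizer (T : Set G)) ⊓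
    centralizer ((T ⊓ centralizer ({g₀} : Set G) : Subgroup G) : Set G)
  sq : ∀ t ∈ T', t * t = 1
  card : Nat.card T' = 16

variable {T' : Subgroup G} (P : Pair X g₀ T')
include P

theorem inter {y : G} (hy : y ∈ T') (hyT : y ∈ T) : y ∈ T ⊓ centralizer ({g₀} : Set G) := by
  obtain ⟨k, hk, hkT⟩ := SetLike.not_le_iff_exists.1 (fun h => P.ne
    (eq_of_le_of_card_ge h (by rw [P.card, X.card])))
  have hi : Inv S T k := ⟨(P.le hk).1.1, fun t ht => conj_mem (P.le hk).1.2 ht, hkT,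
    by rw [P.sq k hk]; exact T.one_mem⟩
  have hyk : y * k = k * y := by
    rw [← inv_eq_of_mul_eq_one_right (P.sq _ (T'.mul_mem hy hk)), mul_inv_rev,
      inv_eq_of_mul_eq_one_right (P.sq _ hy), inv_eq_of_mul_eq_one_right (P.sq _ hk)]
  have hle : T ⊓ centralizer ({g₀} : Set G) ≤ T ⊓ centralizer ({k} : Set G) := fun w hw =>
    ⟨hw.1, mem_centralizer_singleton_iff.2
      (mul_inv_eq_iff_eq_mul.1 (X.fixes h₀ hc hi hw)).symm⟩
  rw [eq_of_le_of_card_ge hle (by rw [X.card_fixed h₀, X.card_fixed hi])]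
  exact ⟨hyT, mem_centralizer_singleton_iff.2 hyk⟩

theorem mem_both {y : G} (hy : y ∈ T ⊓ centralizer ({g₀} : Set G)) : y ∈ T' := by
  have h1 : T.relIndex T' ≤ 4 :=
    (relIndex_le_of_le_right P.le index_ne_zero_of_finite).trans (X.card_kern_le h₀ hc)
  have h2 := relIndex_mul_card (K := T) T'
  rw [P.card] at h2
  have hle : T ⊓ T' ≤ T ⊓ centralizer ({g₀} : Set G) := fun x hx =>
    X.inter h₀ hc P hx.2 hx.1
  have e : T ⊓ T' = T ⊓ centralizer ({g₀} : Set G) :=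
    eq_of_le_of_card_ge hle (by rw [X.card_fixed h₀]; nlinarith)
  exact (e ▸ hy : y ∈ T ⊓ T').2

theorem decomp {y : G} (hy : y ∈ X.kern g₀) : ∃ t ∈ T, ∃ u ∈ T', y = t * u := by
  have h1 : T.relIndex T' = T.relIndex (X.kern g₀) := by
    refine le_antisymm (relIndex_le_of_le_right P.le index_ne_zero_of_finite) ?_
    have h2 := relIndex_mul_card (K := T) T'
    have h3 : Nat.card (T ⊓ T' : Subgroup G) ≤ 4 := by
      rw [← X.card_fixed h₀]
      exact card_le_of_le fun x hx => X.inter h₀ hc P hx.2 hx.1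
    rw [P.card] at h2
    nlinarith [X.card_kern_le h₀ hc]
  have hinj := (quotientSubgroupOfEmbeddingOfLE T (P.le : T' ≤ X.kern g₀)).injective
  obtain ⟨q, hq⟩ := (hinj.bijective_of_nat_card_le h1.ge).2
    ((⟨y⁻¹, inv_mem hy⟩ : X.kern g₀) : X.kern g₀ ⧸ T.subgroupOf (X.kern g₀))
  obtain ⟨⟨u, hu⟩, rfl⟩ := QuotientGroup.mk_surjective q
  rw [quotientSubgroupOfEmbeddingOfLE_apply_mk, QuotientGroup.eq, mem_subgroupOf] at hq
  simp only [Subgroup.coe_mul, Subgroup.coe_inv, Subgroup.coe_inclusion] at hq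
  refine ⟨(u⁻¹ * y⁻¹)⁻¹, T.inv_mem hq, u⁻¹, T'.inv_mem hu, by group⟩

theorem eq_mem_of_sq {t u : G} (ht : t ∈ T) (hu : u ∈ T') (h : t * u * (t * u) = 1) :
    t * u ∈ T ∨ t * u ∈ T' := by
  by_cases huT : u ∈ T
  · exact Or.inl (T.mul_mem ht huT)
  refine Or.inr (T'.mul_mem (X.mem_both h₀ hc P ?_) hu)
  have hi : Inv S T u := ⟨(P.le hu).1.1, fun a ha => conj_mem (P.le hu).1.2 ha, huT,
    by rw [P.sq u hu]; exact T.one_mem⟩
  have hle : T ⊓ centralizer ({g₀} : Set G) ≤ T ⊓ centralizer ({u} : Set G) := fun w hw =>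
    ⟨hw.1, mem_centralizer_singleton_iff.2
      (mul_inv_eq_iff_eq_mul.1 (X.fixes h₀ hc hi hw)).symm⟩
  rw [eq_of_le_of_card_ge hle (by rw [X.card_fixed h₀, X.card_fixed hi])]
  refine X.eq_of_moves ht ?_
  rw [inv_eq_of_mul_eq_one_right (P.sq u hu), show t * (u * t * u) = t * u * (t * u) by group, h]

omit P in
theorem mem_kern_of_sq {y : G} (hy : y ∈ S ⊓ normalizer (T : Set G)) (hyy : y * y = 1) :
    y ∈ X.kern g₀ := by
  by_cases hT : y ∈ T
  · exact X.le_kern hT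
  · exact X.inv_mem_kern h₀ hc
      ⟨hy.1, fun t ht => conj_mem hy.2 ht, hT, by rw [hyy]; exact T.one_mem⟩

theorem cases16 {R : Subgroup G} (hR : R ≤ S ⊓ normalizer (T : Set G))
    (hsq : ∀ r ∈ R, r * r = 1) (hcard : Nat.card R = 16) : R = T ∨ R = T' := by
  have hmem : ∀ y ∈ R, y ∈ T ∨ y ∈ T' := fun y hy => by
    obtain ⟨t, ht, u, hu, rfl⟩ := X.decomp h₀ hc P (X.mem_kern_of_sq h₀ hc (hR hy) (hsq y hy))
    exact X.eq_mem_of_sq h₀ hc P ht hu (hsq _ hy)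
  by_cases h1 : R ≤ T
  · exact Or.inl (eq_of_le_of_card_ge h1 (by rw [X.card, hcard]))
  by_cases h2 : R ≤ T'
  · exact Or.inr (eq_of_le_of_card_ge h2 (by rw [P.card, hcard]))
  exfalso
  obtain ⟨a, ha, haT⟩ := SetLike.not_le_iff_exists.1 h1
  obtain ⟨b, hb, hbT'⟩ := SetLike.not_le_iff_exists.1 h2
  have ha' := (hmem a ha).resolve_left haT
  have hb' := (hmem b hb).resolve_right hbT'
  rcases hmem _ (R.mul_mem ha hb) with h | h
  · exact haT (by simpa using T.mul_mem h (T.inv_mem hb'))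
  · exact hbT' (by simpa using T'.mul_mem (T'.inv_mem ha') h)

omit P in
theorem conj_sq {R : Subgroup G} (hsq : ∀ r ∈ R, r * r = 1) (g : G) :
    ∀ r ∈ conjS g R, r * r = 1 := by
  intro r hr
  rw [mem_conjS] at hr
  have h := hsq _ hr
  rw [show g⁻¹ * r * g * (g⁻¹ * r * g) = g⁻¹ * (r * r) * g by group] at h
  rw [show r * r = g * (g⁻¹ * (r * r) * g) * g⁻¹ by group, h]
  group

theorem norm_pair {n : G} (hn : n ∈ S ⊓ normalizer (T : Set G)) : conjS n T' = T' := by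
  refine (X.cases16 h₀ hc P ?_ (X.conj_sq h₀ hc P.sq n) ((card_conjS n T').trans P.card)).resolve_left
    fun h => P.ne ?_
  · intro y hy
    rw [mem_conjS] at hy
    have := mul_mem (mul_mem hn (P.le hy).1) (inv_mem hn)
    rwa [show n * (n⁻¹ * y * n) * n⁻¹ = y by group] at this
  · have h' := congrArg (conjS n⁻¹) h
    rw [conjS_inv_conjS, conjS_eq_of_mem_normalizer (inv_mem hn.2)] at h'
    exact h'

/-- Outside `N_S(T)` the two subgroups are exchanged. -/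
theorem swap (hS : ¬ S ≤ normalizer (T : Set G)) {s : G} (hs : s ∈ S)
    (hsN : s ∉ normalizer (T : Set G)) : conjS s T = T' ∧ conjS s T' = T := by
  set N : Subgroup G := S ⊓ normalizer (T : Set G)
  have hT' : T' ≤ N := fun y hy => (P.le hy).1
  have h1 : ∀ g ∈ S, g ∈ normalizer (N : Set G) → g ∉ normalizer (T : Set G) →
      conjS g T = T' ∧ conjS g T' = T := by
    intro g hg hgN hgT
    have hc1 : ∀ {R : Subgroup G}, R ≤ N → conjS g R ≤ N := fun hR =>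
      (conjS_mono hR).trans (conjS_eq_of_mem_normalizer hgN).le
    have e1 : conjS g T = T' := (X.cases16 h₀ hc P (hc1 (le_inf X.le le_normalizer))
      (X.conj_sq h₀ hc X.sq g) ((card_conjS g T).trans X.card)).resolve_left
        fun h => hgT (mem_normalizer_of_conjS_eq h)
    refine ⟨e1, (X.cases16 h₀ hc P (hc1 hT')
      (X.conj_sq h₀ hc P.sq g) ((card_conjS g T').trans P.card)).resolve_right fun h => P.ne ?_⟩
    have := congrArg (conjS g⁻¹) (h.trans e1.symm)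
    rwa [conjS_inv_conjS, conjS_inv_conjS] at this
  refine h1 s hs ?_ hsN
  by_contra hsN2
  set N₂ : Subgroup G := S ⊓ normalizer (N : Set G)
  have : Fact (Nat.Prime 2) := ⟨Nat.prime_two⟩
  have hlt : N₂ < S := lt_of_le_of_ne inf_le_left fun h => hsN2 (h.symm ▸ hs : s ∈ N₂).2
  obtain ⟨g, hg, hg2⟩ := SetLike.exists_of_lt (lt_inf_normalizer X.pgroup hlt)
  have hNN : N ≤ N₂ := le_inf inf_le_left le_normalizer
  set R := conjS g T with hR
  have hR2 : R ≤ N₂ :=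
    (conjS_mono ((le_inf X.le le_normalizer).trans hNN)).trans
      (conjS_eq_of_mem_normalizer hg.2).le
  have hRsq := X.conj_sq h₀ hc X.sq g
  have hRcard : Nat.card R = 16 := (card_conjS g T).trans X.card
  obtain ⟨g₁, hg₁, hg₁T⟩ : ∃ g₁ ∈ N₂, g₁ ∉ normalizer (T : Set G) := by
    by_contra hcon
    push Not at hcon
    have hNlt : N < S := lt_of_le_of_ne inf_le_left fun h =>
      hS fun x hx => (h.symm ▸ hx : x ∈ N).2
    obtain ⟨x, hx, hxN⟩ := SetLike.exists_of_lt (lt_inf_normalizer X.pgroup hNlt)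
    exact hxN ⟨hx.1, hcon x hx⟩
  have hprod : ∀ a ∈ N₂, ∀ b ∈ N₂, a ∉ normalizer (T : Set G) → b ∉ normalizer (T : Set G) →
      a * b ∈ N := by
    intro a ha b hb haT hbT
    refine ⟨mul_mem ha.1 hb.1, mem_normalizer_of_conjS_eq ?_⟩
    rw [conjS_mul, (h1 b hb.1 hb.2 hbT).1, (h1 a ha.1 ha.2 haT).2]
  by_cases hRN : R ≤ N
  · rcases X.cases16 h₀ hc P hRN hRsq hRcard with h | h
    · exact hg2 (hNN ⟨hg.1, mem_normalizer_of_conjS_eq h⟩)
    · refine hg2 ?_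
      have hmem : g₁⁻¹ * g ∈ N := by
        refine ⟨S.mul_mem (S.inv_mem hg₁.1) hg.1, mem_normalizer_of_conjS_eq ?_⟩
        rw [conjS_mul, ← hR, h, ← (h1 g₁ hg₁.1 hg₁.2 hg₁T).1, conjS_inv_conjS]
      simpa using mul_mem hg₁ (hNN hmem)
  obtain ⟨r, hr, hrN⟩ := SetLike.not_le_iff_exists.1 hRN
  have hrS : r ∈ S := (hR2 hr).1
  have hsw := h1 r hrS (hR2 hr).2 fun h => hrN ⟨hrS, h⟩
  have hsmall : R ⊓ N ≤ T ⊓ centralizer ({g₀} : Set G) := by
    intro y hy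
    obtain ⟨t, ht, u, hu, rfl⟩ := X.decomp h₀ hc P (X.mem_kern_of_sq h₀ hc hy.2 (hRsq _ hy.1))
    have hry : r * (t * u) * r⁻¹ = t * u := by
      rw [← inv_eq_of_mul_eq_one_right (hRsq _ (R.mul_mem hr hy.1)), mul_inv_rev,
        inv_eq_of_mul_eq_one_right (hRsq _ hy.1), inv_eq_of_mul_eq_one_right (hRsq _ hr), mul_assoc,
        hRsq r hr, mul_one]
    rcases X.eq_mem_of_sq h₀ hc P ht hu (hRsq _ hy.1) with h | h
    · exact X.inter h₀ hc P (hry ▸ (hsw.1 ▸ conj_mem_conjS (g := r) h)) h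
    · exact X.inter h₀ hc P h (hry ▸ (hsw.2 ▸ conj_mem_conjS (g := r) h))
  have hidx : N.relIndex R ≤ 2 := by
    classical
    refine (relIndex_le_of_fun (fun n : R => decide ((n : G) ∈ N)) fun x y e => ?_).trans (by simp)
    simp only [decide_eq_decide] at e
    by_cases hx : (x : G) ∈ N
    · exact mul_mem (inv_mem hx) (e.1 hx)
    · exact hprod _ (inv_mem (hR2 x.2)) _ (hR2 y.2)
        (fun h => hx ⟨(hR2 x.2).1, by simpa using inv_mem h⟩)
        fun h => hx (e.2 ⟨(hR2 y.2).1, h⟩)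
  have h3 := relIndex_mul_card (K := N) R
  rw [hRcard, inf_comm] at h3
  have h4 : Nat.card (R ⊓ N : Subgroup G) ≤ 4 := X.card_fixed h₀ ▸ card_le_of_le hsmall
  nlinarith

theorem kern_conj {r : G} (hsw : conjS r T = T' ∧ conjS r T' = T) {y : G} (hy : y ∈ X.kern g₀) :
    r * y * r⁻¹ ∈ X.kern g₀ := by
  obtain ⟨t, ht, u, hu, rfl⟩ := X.decomp h₀ hc P hy
  rw [conj_mul']
  exact mul_mem (P.le (hsw.1 ▸ conj_mem_conjS ht)) (X.le_kern (hsw.2 ▸ conj_mem_conjS hu))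

theorem W_conj {r : G} (hsw : conjS r T = T' ∧ conjS r T' = T) {w : G}
    (hw : w ∈ T ⊓ centralizer ({g₀} : Set G)) :
    r * w * r⁻¹ ∈ T ⊓ centralizer ({g₀} : Set G) :=
  X.inter h₀ hc P (hsw.1 ▸ conj_mem_conjS hw.1)
    (hsw.2 ▸ conj_mem_conjS (X.mem_both h₀ hc P hw))

theorem pair_delta {t u : G} (ht : t ∈ T) (hu : u ∈ T') :
    t * (u * t * u) ∈ T ⊓ centralizer ({g₀} : Set G) := by
  have h := X.kern_delta h₀ hc (P.le hu : u ∈ X.kern g₀) ht
  rwa [inv_eq_of_mul_eq_one_right (P.sq u hu)] at h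

/-- Commutators inside `kern` lie in `W`. -/
theorem kern_comm {x k : G} (hx : x ∈ X.kern g₀) (hk : k ∈ X.kern g₀) :
    x⁻¹ * (k * x * k⁻¹) ∈ T ⊓ centralizer ({g₀} : Set G) := by
  obtain ⟨t, ht, u, hu, rfl⟩ := X.decomp h₀ hc P hx
  obtain ⟨t', ht', u', hu', rfl⟩ := X.decomp h₀ hc P hk
  have e1 := X.kern_delta h₀ hc hk ht
  set a := t * (t' * u' * t * (t' * u')⁻¹) with ha
  have hu'u : u' * u = u * u' := by
    rw [← inv_eq_of_mul_eq_one_right (P.sq _ (T'.mul_mem hu' hu)), mul_inv_rev,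
      inv_eq_of_mul_eq_one_right (P.sq _ hu'), inv_eq_of_mul_eq_one_right (P.sq _ hu)]
  have e2 := inv_mem (X.pair_delta h₀ hc P ht' hu)
  have h3 : (t * u)⁻¹ * (t' * u' * (t * u) * (t' * u')⁻¹) =
      u⁻¹ * a * u * (u⁻¹ * (t' * u * t'⁻¹)) := by
    rw [ha, mul_inv_rev, X.inv ht]
    have : t' * u' * u * (t' * u')⁻¹ = t' * u * t'⁻¹ := by
      rw [mul_assoc t' u' u, hu'u]; group
    rw [conj_mul' (t' * u') t u, this]
    group
  rw [h3]
  refine mul_mem ?_ ?_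
  · have := (X.mem_kern.1 (inv_mem (P.le hu) : u⁻¹ ∈ X.kern g₀)).2 a e1
    rw [inv_inv] at this
    rw [this]; exact e1
  · convert e2 using 1
    simp only [mul_inv_rev, X.inv ht', inv_eq_of_mul_eq_one_right (P.sq u hu), mul_assoc]

/-- The first components of the elements of `H` fixed by `r` modulo `W`. -/
def comps (r : G) (H : Subgroup G) : Subgroup G where
  carrier := {t | t ∈ T ∧ ∃ u ∈ T', t * u ∈ X.fixedMod g₀ r ∧ t * u ∈ H}
  one_mem' := ⟨T.one_mem, 1, T'.one_mem, by simp, by simp⟩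
  mul_mem' := by
    rintro a b ⟨ha, u, hu, h1, h2⟩ ⟨hb, v, hv, h3, h4⟩
    refine ⟨T.mul_mem ha hb, b⁻¹ * u * b * v, T'.mul_mem ?_ hv, ?_, ?_⟩
    · have hm := X.norm_pair h₀ hc P (n := b⁻¹) (inv_mem ⟨X.le hb, le_normalizer hb⟩)
      have := conj_mem_conjS (g := b⁻¹) hu
      rwa [hm, inv_inv] at this
    · rw [show a * b * (b⁻¹ * u * b * v) = a * u * (b * v) by group]; exact mul_mem h1 h3
    · rw [show a * b * (b⁻¹ * u * b * v) = a * u * (b * v) by group]; exact mul_mem h2 h4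
  inv_mem' := by
    rintro a ⟨ha, u, hu, h1, h2⟩
    refine ⟨T.inv_mem ha, a * u⁻¹ * a⁻¹, ?_, ?_, ?_⟩
    · have hm := X.norm_pair h₀ hc P (n := a) ⟨X.le ha, le_normalizer ha⟩
      have := conj_mem_conjS (g := a) (T'.inv_mem hu)
      rwa [hm] at this
    · rw [show a⁻¹ * (a * u⁻¹ * a⁻¹) = (a * u)⁻¹ by group]; exact inv_mem h1
    · rw [show a⁻¹ * (a * u⁻¹ * a⁻¹) = (a * u)⁻¹ by group]; exact inv_mem h2

section Outside

variable {r : G} (hsw : conjS r T = T' ∧ conjS r T' = T)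
include hsw

theorem W_le_fixedMod : T ⊓ centralizer ({g₀} : Set G) ≤ X.fixedMod g₀ r := fun w hw =>
  ⟨X.le_kern hw.1, mul_mem (inv_mem hw) (X.W_conj h₀ hc P hsw hw)⟩

/-- `fixedMod` meets `T` in `W`. -/
theorem fixedMod_T {y : G} (hy : y ∈ X.fixedMod g₀ r) (hyT : y ∈ T) :
    y ∈ T ⊓ centralizer ({g₀} : Set G) := by
  have h1 : r * y * r⁻¹ ∈ T ⊓ centralizer ({g₀} : Set G) := by
    refine X.inter h₀ hc P (hsw.1 ▸ conj_mem_conjS hyT) ?_
    have := T.mul_mem hyT hy.2.1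
    rwa [mul_inv_cancel_left] at this
  have h2 := mul_mem h1 (inv_mem hy.2)
  rwa [show r * y * r⁻¹ * (y⁻¹ * (r * y * r⁻¹))⁻¹ = y by group] at h2

theorem fixedMod_T' {y : G} (hy : y ∈ X.fixedMod g₀ r) (hyT : y ∈ T') :
    y ∈ T ⊓ centralizer ({g₀} : Set G) := by
  have h1 : r * y * r⁻¹ ∈ T := hsw.2 ▸ conj_mem_conjS hyT
  have h2 := T.mul_mem h1 (T.inv_mem hy.2.1)
  rw [show r * y * r⁻¹ * (y⁻¹ * (r * y * r⁻¹))⁻¹ = y by group] at h2
  exact X.inter h₀ hc P hyT h2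

theorem sq_fixedMod {y : G} (hy : y ∈ X.fixedMod g₀ r) :
    y * y ∈ T ⊓ centralizer ({g₀} : Set G) ∧
      (y * y = 1 → y ∈ T ⊓ centralizer ({g₀} : Set G)) := by
  obtain ⟨t, ht, u, hu, rfl⟩ := X.decomp h₀ hc P hy.1
  refine ⟨?_, fun h => ?_⟩
  · rw [show t * u * (t * u) = t * (u * t * u) by group]
    exact X.pair_delta h₀ hc P ht hu
  · rcases X.eq_mem_of_sq h₀ hc P ht hu h with h' | h'
    · exact X.fixedMod_T h₀ hc P hsw hy h'
    · exact X.fixedMod_T' h₀ hc P hsw hy h'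

theorem W_le_comps (H : Subgroup G) :
    T ⊓ centralizer ({g₀} : Set G) ≤ X.comps h₀ hc P r H := fun w hw =>
  ⟨hw.1, w⁻¹, T'.inv_mem (X.mem_both h₀ hc P hw), by simp, by simp⟩

theorem relIndex_comps (H : Subgroup G) :
    (T ⊓ centralizer ({g₀} : Set G)).relIndex (H ⊓ X.fixedMod g₀ r) ≤
      (T ⊓ centralizer ({g₀} : Set G)).relIndex (X.comps h₀ hc P r H) := by
  classical
  set Y := H ⊓ X.fixedMod g₀ r
  set W : Subgroup G := T ⊓ centralizer ({g₀} : Set G)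
  choose t ht u hu he using fun y : Y => X.decomp h₀ hc P y.2.2.1
  refine relIndex_le_of_fun (fun y => ((⟨t y, ht y, u y, hu y, he y ▸ y.2.2, he y ▸ y.2.1⟩ :
    X.comps h₀ hc P r H) :
      X.comps h₀ hc P r H ⧸ W.subgroupOf (X.comps h₀ hc P r H))) fun x y e => ?_
  rw [QuotientGroup.eq, mem_subgroupOf] at e
  simp only [Subgroup.coe_mul, Subgroup.coe_inv] at e
  refine X.fixedMod_T' h₀ hc P hsw (mul_mem (inv_mem x.2.2) y.2.2) ?_
  rw [he x, he y, show (t x * u x)⁻¹ * (t y * u y) = (u x)⁻¹ * ((t x)⁻¹ * t y) * u y by group]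
  exact T'.mul_mem (T'.mul_mem (T'.inv_mem (hu x)) (X.mem_both h₀ hc P e)) (hu y)

variable (hrH : r ∈ H)
include hk hrH

theorem relIndex_kern :
    K.relIndex (H ⊓ X.kern g₀) ≤
      (T ⊓ centralizer ({g₀} : Set G)).relIndex (H ⊓ X.fixedMod g₀ r) *
        K.relIndex (H ⊓ (T ⊓ centralizer ({g₀} : Set G))) := by
  set W : Subgroup G := T ⊓ centralizer ({g₀} : Set G)
  set Xk : Subgroup G := H ⊓ X.kern g₀
  set Y : Subgroup G := H ⊓ X.fixedMod g₀ r
  have hYX : Y ≤ Xk := fun y hy => ⟨hy.1, hy.2.1⟩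
  -- the commutators with `r` fill the killed part
  have hcount : Y.relIndex Xk * Nat.card (K ⊓ (H ⊓ W) : Subgroup G) ≤
      Nat.card (K ⊓ Xk : Subgroup G) := by
    show Nat.card (Xk ⧸ Y.subgroupOf Xk) * _ ≤ _
    rw [← Nat.card_prod]
    have hD : ∀ y : Xk, (y : G)⁻¹ * (r * y * r⁻¹) ∈ K ⊓ Xk := by
      intro y
      refine ⟨?_, mul_mem (H.inv_mem y.2.1) (mul_mem (mul_mem hrH y.2.1) (H.inv_mem hrH)),
        (X.kern g₀).mul_mem ((X.kern g₀).inv_mem y.2.2) (X.kern_conj h₀ hc P hsw y.2.2)⟩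
      have := hk.comm _ (H.inv_mem y.2.1) r hrH
      rwa [commutatorElement_def, inv_inv,
        show (y : G)⁻¹ * r * y * r⁻¹ = (y : G)⁻¹ * (r * y * r⁻¹) by group] at this
    refine Nat.card_le_card_of_injective (fun p =>
      (⟨(p.1.out : G)⁻¹ * (r * p.1.out * r⁻¹) * p.2,
        mul_mem (hD _) ⟨p.2.2.1, p.2.2.2.1, X.le_kern p.2.2.2.2.1⟩⟩ :
        (K ⊓ Xk : Subgroup G))) ?_
    rintro ⟨q, k⟩ ⟨q', k'⟩ e
    have e' : (q.out : G)⁻¹ * (r * q.out * r⁻¹) * k = (q'.out : G)⁻¹ * (r * q'.out * r⁻¹) * k' :=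
      congrArg (fun z : (K ⊓ Xk : Subgroup G) => (z : G)) e
    have hq : q = q' := by
      rw [← QuotientGroup.out_eq' q, ← QuotientGroup.out_eq' q', QuotientGroup.eq, mem_subgroupOf]
      simp only [Subgroup.coe_mul, Subgroup.coe_inv]
      set a := (q.out : G)
      set b := (q'.out : G)
      refine ⟨H.mul_mem (H.inv_mem q.out.2.1) q'.out.2.1,
        mul_mem (inv_mem q.out.2.2) q'.out.2.2, ?_⟩
      set x := a⁻¹ * b
      set d := a⁻¹ * (r * a * r⁻¹)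
      have hd : d ∈ X.kern g₀ := mul_mem (inv_mem q.out.2.2) (X.kern_conj h₀ hc P hsw q.out.2.2)
      have hx : x ∈ X.kern g₀ := mul_mem (inv_mem q.out.2.2) q'.out.2.2
      have h1 := X.kern_comm h₀ hc P (inv_mem hd) (inv_mem hx)
      rw [inv_inv, inv_inv] at h1
      have h1' := (X.mem_kern.1 (inv_mem hd)).2 _ h1
      rw [inv_inv] at h1'
      rw [show x⁻¹ * (r * x * r⁻¹) = d⁻¹ * (d * (x⁻¹ * d⁻¹ * x)) * d *
        (d⁻¹ * (b⁻¹ * (r * b * r⁻¹))) by simp only [x, d]; group, h1']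
      refine mul_mem h1 ?_
      have : d⁻¹ * (b⁻¹ * (r * b * r⁻¹)) = (k : G) * (k' : G)⁻¹ := by
        rw [eq_mul_inv_iff_mul_eq, mul_assoc, ← e', inv_mul_cancel_left]
      rw [this]
      exact mul_mem k.2.2.2 (inv_mem k'.2.2.2)
    subst hq
    exact Prod.ext rfl (Subtype.ext (mul_left_cancel e'))
  have h1 := relIndex_mul_card (K := K) Xk
  have h2 := relIndex_mul_card (K := K) (H ⊓ W)
  have h3 := relIndex_mul_card (K := W) Y
  have h4 := relIndex_mul_card (K := Y) Xk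
  rw [inf_eq_left.2 hYX] at h4
  have h5 : W ⊓ Y = H ⊓ W := by
    refine le_antisymm (fun y hy => ⟨hy.2.1, hy.1⟩) fun y hy => ⟨hy.2, hy.1, ?_⟩
    exact X.W_le_fixedMod h₀ hc P hsw hy.2
  rw [h5, ← h2] at h3
  rw [← h4, ← h3] at h1
  refine Nat.le_of_mul_le_mul_right (c := Nat.card (K ⊓ Xk : Subgroup G)) ?_ Nat.card_pos
  rw [h1]
  calc _ = W.relIndex Y * K.relIndex (H ⊓ W) *
        (Y.relIndex Xk * Nat.card (K ⊓ (H ⊓ W) : Subgroup G)) := by ring
    _ ≤ _ := Nat.mul_le_mul_left _ hcount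

end Outside

omit P in
theorem exists_delta {w : G} (hw : w ∈ T ⊓ centralizer ({g₀} : Set G)) :
    ∃ t ∈ T, t * (g₀ * t * g₀⁻¹) = w := by
  set f := X.comHom h₀ with hf
  have hker : Nat.card f.ker ≤ 4 := by
    rw [← X.card_fixed h₀]
    refine Nat.card_le_card_of_injective
      (fun t => (⟨((t : T) : G), X.eq_of_moves (t : T).2 (congrArg Subtype.val t.2)⟩ :
        (T ⊓ centralizer ({g₀} : Set G) : Subgroup G))) ?_
    intro a b e
    have e' : ((a : T) : G) = ((b : T) : G) :=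
      congrArg (fun z : (T ⊓ centralizer ({g₀} : Set G) : Subgroup G) => (z : G)) e
    exact Subtype.ext (Subtype.ext e')
  have h1 := f.ker.card_mul_index
  rw [Subgroup.index_ker, X.card] at h1
  have hle : f.range.map T.subtype ≤ T ⊓ centralizer ({g₀} : Set G) := by
    rintro _ ⟨_, ⟨t, rfl⟩, rfl⟩
    exact X.delta_mem h₀ t.2
  have e : f.range.map T.subtype = T ⊓ centralizer ({g₀} : Set G) := by
    refine eq_of_le_of_card_ge hle ?_
    rw [X.card_fixed h₀, Subgroup.card_map_of_injective (subtype_injective T)]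
    nlinarith
  obtain ⟨_, ⟨t, rfl⟩, ht⟩ := e.ge hw
  exact ⟨t, t.2, ht⟩

theorem comm_fixed {v t : G} (hv : v ∈ T') (ht : t ∈ T)
    (ht' : t ∉ T ⊓ centralizer ({g₀} : Set G)) (he : v * t = t * v) :
    v ∈ T ⊓ centralizer ({g₀} : Set G) := by
  by_cases hvT : v ∈ T
  · exact X.inter h₀ hc P hv hvT
  have hi : Inv S T v := ⟨(P.le hv).1.1, fun a ha => conj_mem (P.le hv).1.2 ha, hvT,
    by rw [P.sq v hv]; exact T.one_mem⟩
  have hle : T ⊓ centralizer ({g₀} : Set G) ≤ T ⊓ centralizer ({v} : Set G) := fun w hw =>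
    ⟨hw.1, mem_centralizer_singleton_iff.2
      (mul_inv_eq_iff_eq_mul.1 (X.fixes h₀ hc hi hw)).symm⟩
  refine absurd ?_ ht'
  rw [eq_of_le_of_card_ge hle (by rw [X.card_fixed h₀, X.card_fixed hi])]
  exact ⟨ht, mem_centralizer_singleton_iff.2 he.symm⟩

omit hc P in
/-- A killed element of `W` halves its contribution. -/
theorem relIndex_W_le {k : G} (hkK : k ∈ K)
    (hkW : k ∈ H ⊓ (T ⊓ centralizer ({g₀} : Set G))) (hk1 : k ≠ 1) :
    K.relIndex (H ⊓ (T ⊓ centralizer ({g₀} : Set G))) ≤ 2 := by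
  set Z : Subgroup G := H ⊓ (T ⊓ centralizer ({g₀} : Set G))
  have h1 := relIndex_mul_card (K := K) Z
  have h2 : 1 < Nat.card (K ⊓ Z : Subgroup G) :=
    (Subgroup.one_lt_card_iff_ne_bot _).2 fun h => hk1 ((Subgroup.eq_bot_iff_forall _).1 h k ⟨hkK, hkW⟩)
  have h3 : Nat.card Z ≤ 4 := X.card_fixed h₀ ▸ card_le_of_le inf_le_right
  nlinarith

theorem relIndex_comps_le (r : G) (H : Subgroup G)
    (hne : X.comps h₀ hc P r H ≠ T) (hle : T ⊓ centralizer ({g₀} : Set G) ≤ X.comps h₀ hc P r H) :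
    (T ⊓ centralizer ({g₀} : Set G)).relIndex (X.comps h₀ hc P r H) ≤ 2 := by
  have hT : X.comps h₀ hc P r H ≤ T := fun t ht => ht.1
  have h1 := relIndex_mul_card (K := T ⊓ centralizer ({g₀} : Set G)) (X.comps h₀ hc P r H)
  rw [inf_eq_left.2 hle, X.card_fixed h₀] at h1
  have h2 : Nat.card (X.comps h₀ hc P r H) ∣ 16 := X.card ▸ Subgroup.card_dvd_of_le hT
  have h3 : Nat.card (X.comps h₀ hc P r H) ≠ 16 := fun h =>
    hne (eq_of_le_of_card_ge hT (by rw [X.card, h]))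
  have h4 := Nat.le_of_dvd (by norm_num) h2
  rw [← h1] at h2 h3 h4
  have : (T ⊓ centralizer ({g₀} : Set G)).relIndex (X.comps h₀ hc P r H) ≤ 4 := by omega
  interval_cases h : (T ⊓ centralizer ({g₀} : Set G)).relIndex (X.comps h₀ hc P r H) <;> omega

/-- Outside `N_S(T)` the part in `N_S(T)` is small. -/
theorem bound_outside (hk : Kills H K) (hHS : H ≤ S) (hS : ¬ S ≤ normalizer (T : Set G)) {r : G}
    (hrH : r ∈ H) (hrN : r ∉ normalizer (T : Set G)) :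
    K.relIndex (H ⊓ (S ⊓ normalizer (T : Set G))) ≤ 8 := by
  set N : Subgroup G := S ⊓ normalizer (T : Set G) with hNdef
  set W : Subgroup G := T ⊓ centralizer ({g₀} : Set G) with hWdef
  have hcW : Nat.card W = 4 := X.card_fixed h₀
  have hsw := fun {s : G} (hs : s ∈ H) (hsN : s ∉ normalizer (T : Set G)) =>
    X.swap h₀ hc P hS (hHS hs) hsN
  have hi4 : ∀ r' : G, conjS r' T = T' ∧ conjS r' T' = T →
      W.relIndex (H ⊓ X.fixedMod g₀ r') ≤ 4 := by
    intro r' h'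
    refine (X.relIndex_comps h₀ hc P h' H).trans ?_
    have h1 := relIndex_mul_card (K := W) (X.comps h₀ hc P r' H)
    rw [inf_eq_left.2 (X.W_le_comps h₀ hc P h' H), hcW] at h1
    have h2 : Nat.card (X.comps h₀ hc P r' H) ≤ 16 :=
      X.card ▸ card_le_of_le fun t ht => ht.1
    show (T ⊓ centralizer ({g₀} : Set G)).relIndex _ ≤ 4
    change (T ⊓ centralizer ({g₀} : Set G)).relIndex _ * 4 = _ at h1
    omega
  by_cases hH0 : H ⊓ N ≤ X.kern g₀
  · have e : H ⊓ N = H ⊓ X.kern g₀ :=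
      le_antisymm (le_inf inf_le_left hH0) (inf_le_inf_left H inf_le_left)
    rw [e]
    refine (X.relIndex_kern h₀ hc hk P (hsw hrH hrN) hrH).trans ?_
    by_cases hy : H ⊓ X.fixedMod g₀ r ≤ W
    · rw [relIndex_eq_one.2 hy, one_mul]
      refine (relIndex_le_card _).trans ?_
      rw [hcW]; norm_num
    obtain ⟨y, ⟨hyH, hy⟩, hyW⟩ := SetLike.not_le_iff_exists.1 hy
    obtain ⟨hs, hs1⟩ := X.sq_fixedMod h₀ hc P (hsw hrH hrN) hy
    exact (Nat.mul_le_mul (hi4 r (hsw hrH hrN)) (X.relIndex_W_le h₀ (hk.sq y hyH)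
      ⟨H.mul_mem hyH hyH, hs⟩ fun h => hyW (hs1 h))).trans le_rfl
  obtain ⟨n, ⟨hnH, hnN⟩, hn0⟩ := SetLike.not_le_iff_exists.1 hH0
  have hrn : r * n ∈ H := H.mul_mem hrH hnH
  have hrnN : r * n ∉ normalizer (T : Set G) := fun h =>
    hrN (by simpa using mul_mem h (inv_mem hnN.2))
  refine (step (inf_le_left : X.kern g₀ ≤ N)).trans ?_
  refine (Nat.mul_le_mul (X.relIndex_kern_le h₀ hc) (?_ : _ ≤ 4)).trans le_rfl
  -- `W` contributes at most two
  have hw2 : K.relIndex (H ⊓ W) ≤ 2 := by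
    by_cases hWH : W ≤ H
    · obtain ⟨w, hw, hmove⟩ : ∃ w ∈ W, n * w * n⁻¹ ≠ w := by
        by_contra hcon
        push Not at hcon
        exact hn0 (X.mem_kern.2 ⟨hnN, hcon⟩)
      have hnw : n * w * n⁻¹ ∈ W := X.conj_fixed h₀ hc hnN hw
      refine X.relIndex_W_le h₀ (X.conj_mul_mem hk hnH (hWH hw) hw.1)
        ⟨hWH (W.mul_mem hw hnw), W.mul_mem hw hnw⟩ fun h => hmove ?_
      rw [← inv_eq_of_mul_eq_one_right h, X.inv hw.1]
    · refine (Nat.le_of_dvd Nat.card_pos (relIndex_dvd_card _ _)).trans ?_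
      have h1 : Nat.card (H ⊓ W : Subgroup G) ∣ 4 := hcW ▸ Subgroup.card_dvd_of_le inf_le_right
      have h2 : Nat.card (H ⊓ W : Subgroup G) ≠ 4 := fun h => hWH
        ((eq_of_le_of_card_ge (inf_le_right : H ⊓ W ≤ W) (by rw [h, hcW])).ge.trans inf_le_left)
      have h3 := Nat.le_of_dvd (by norm_num) h1
      interval_cases Nat.card (H ⊓ W : Subgroup G) <;> omega
  by_cases hA : X.comps h₀ hc P r H = T
  swap
  · refine (X.relIndex_kern h₀ hc hk P (hsw hrH hrN) hrH).trans ?_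
    exact (Nat.mul_le_mul ((X.relIndex_comps h₀ hc P (hsw hrH hrN) H).trans
      (X.relIndex_comps_le h₀ hc P r H hA (X.W_le_comps h₀ hc P (hsw hrH hrN) H))) hw2).trans
        le_rfl
  by_cases hB : X.comps h₀ hc P (r * n) H = T
  swap
  · refine (X.relIndex_kern h₀ hc hk P (hsw hrn hrnN) hrn).trans ?_
    exact (Nat.mul_le_mul ((X.relIndex_comps h₀ hc P (hsw hrn hrnN) H).trans
      (X.relIndex_comps_le h₀ hc P (r * n) H hB (X.W_le_comps h₀ hc P (hsw hrn hrnN) H))) hw2).trans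
        le_rfl
  -- now `H ⊓ W` is killed
  refine (X.relIndex_kern h₀ hc hk P (hsw hrH hrN) hrH).trans ?_
  suffices hkill : H ⊓ W ≤ K by
    rw [relIndex_eq_one.2 hkill, mul_one]
    exact hi4 r (hsw hrH hrN)
  intro w₀ hw₀
  by_contra hw₀K
  have F : Four W := ⟨hcW, fun x hx => X.sq x hx.1⟩
  have huniq : ∀ a ∈ W, ∀ b ∈ W, a ∈ K → b ∈ K → a ≠ 1 → b ≠ 1 → a = b := by
    intro a ha b hb haK hbK ha1 hb1
    by_contra hab
    rcases F.cases ha hb ha1 hb1 (Ne.symm hab) hw₀.2 with e | e | e | e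
    · exact hw₀K (e ▸ K.one_mem)
    · exact hw₀K (e ▸ haK)
    · exact hw₀K (e ▸ hbK)
    · exact hw₀K (e ▸ K.mul_mem haK hbK)
  have hmove : ∀ t ∈ T, t * (n * t * n⁻¹) ∈ W := by
    intro t ht
    by_cases htW : t ∈ W
    · exact W.mul_mem htW (X.conj_fixed h₀ hc hnN htW)
    obtain ⟨-, u, hu, hy, hyH⟩ := hA.ge ht
    obtain ⟨-, u', hu', hy', hy'H⟩ := hB.ge ht
    have hnot : ∀ {v : G}, v ∈ T' → t * v ∉ W := fun {v} hv h => htW (by
      have hvT : v ∈ T := by simpa using T.mul_mem (T.inv_mem ht) h.1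
      simpa using W.mul_mem h (W.inv_mem (X.inter h₀ hc P hv hvT)))
    obtain ⟨hs, hs1⟩ := X.sq_fixedMod h₀ hc P (hsw hrH hrN) hy
    obtain ⟨hs', hs1'⟩ := X.sq_fixedMod h₀ hc P (hsw hrn hrnN) hy'
    have heq := huniq _ hs _ hs' (hk.sq _ hyH) (hk.sq _ hy'H) (fun h => hnot hu (hs1 h))
      fun h => hnot hu' (hs1' h)
    rw [show t * u * (t * u) = t * (u * t * u) by group,
      show t * u' * (t * u') = t * (u' * t * u') by group] at heq
    have heq' := mul_left_cancel heq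
    have hu2 := P.sq u hu
    have hu2' := P.sq u' hu'
    have hv : u * u' * t = t * (u * u') := by
      calc u * u' * t = u * u' * t * (u' * u') := by rw [hu2', mul_one]
        _ = u * (u' * t * u') * u' := by group
        _ = u * (u * t * u) * u' := by rw [heq']
        _ = u * u * (t * (u * u')) := by group
        _ = t * (u * u') := by rw [hu2, one_mul]
    have hvW := X.comm_fixed h₀ hc P (T'.mul_mem hu hu') ht htW hv
    have hyr : t * u' ∈ X.fixedMod g₀ r := by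
      have := mul_mem hy (X.W_le_fixedMod h₀ hc P (hsw hrH hrN) hvW)
      rwa [show t * u * (u * u') = t * (u * u) * u' by group, hu2, mul_one] at this
    set y := t * u' with hydef
    have h3 := W.mul_mem (W.inv_mem hyr.2) hy'.2
    have h4 := X.W_conj h₀ hc P (hsw (H.inv_mem hrH) fun h => hrN (by simpa using inv_mem h)) h3
    rw [show r⁻¹ * ((y⁻¹ * (r * y * r⁻¹))⁻¹ * (y⁻¹ * (r * n * y * (r * n)⁻¹))) * r⁻¹⁻¹ =
      u'⁻¹ * (t⁻¹ * (n * t * n⁻¹)) * (n * u' * n⁻¹) by rw [hydef]; group] at h4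
    have hb : n * u' * n⁻¹ ∈ T' := X.norm_pair h₀ hc P hnN ▸ conj_mem_conjS hu'
    have h5 := T'.mul_mem (T'.mul_mem hu' (X.mem_both h₀ hc P h4)) (T'.inv_mem hb)
    rw [show u' * (u'⁻¹ * (t⁻¹ * (n * t * n⁻¹)) * (n * u' * n⁻¹)) * (n * u' * n⁻¹)⁻¹ =
      t⁻¹ * (n * t * n⁻¹) by group, X.inv ht] at h5
    exact X.inter h₀ hc P h5 (T.mul_mem ht (conj_mem hnN.2 ht))
  refine hn0 (X.mem_kern.2 ⟨hnN, fun w hw => ?_⟩)
  obtain ⟨t, ht, rfl⟩ := X.exists_delta h₀ hc hw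
  have ha := hmove t ht
  have ht' := conj_mem hnN.2 ht
  have hga : g₀ * (t * (n * t * n⁻¹)) * g₀⁻¹ = t * (n * t * n⁻¹) := by
    rw [← mem_centralizer_singleton_iff.1 ha.2, mul_inv_cancel_right]
  rw [conj_mul', ← X.equivariant h₀ hc hnN ht]
  have e : n * t * n⁻¹ = t * (t * (n * t * n⁻¹)) := by rw [← mul_assoc, X.sq t ht, one_mul]
  generalize t * (n * t * n⁻¹) = a at ha hga e
  rw [e, conj_mul', hga, X.comm (h₀.norm t ht) ha.1, mul_assoc, ← mul_assoc a,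
    X.sq a ha.1, one_mul]

end Final

omit X in
/-- Elementary abelian sections of `S` have order at most `16`. -/
theorem bounded {S T B : Subgroup G} (X : Setup S T B) : Bounded 4 S := by
  refine bounded_of_relIndex fun H K hHS hk => ?_
  have : Fact (Nat.Prime 2) := ⟨Nat.prime_two⟩
  by_cases hne : S ⊓ normalizer (T : Set G) ≤ T
  · have e : T = S := by
      by_contra h
      exact (lt_inf_normalizer X.pgroup (lt_of_le_of_ne X.le h)).not_ge hne
    rw [← e]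
    exact (relIndex_le_card T).trans X.card.le
  obtain ⟨g₀, h₀, hc⟩ := X.exists_g0 hne
  set N : Subgroup G := S ⊓ normalizer (T : Set G) with hN
  by_cases hHN : H ≤ normalizer (T : Set G)
  · rw [inf_eq_left.2 hHS, ← inf_eq_left.2 (le_inf hHS hHN : H ≤ N)]
    exact X.bound_normalizer h₀ hc hk
  obtain ⟨r, hrH, hrN⟩ := SetLike.not_le_iff_exists.1 hHN
  have hS : ¬ S ≤ normalizer (T : Set G) := fun h => hrN (h (hHS hrH))
  have hlt : N < S := lt_of_le_of_ne inf_le_left fun h => hS (h ▸ inf_le_right)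
  obtain ⟨g, hg, hgN⟩ := SetLike.exists_of_lt (lt_inf_normalizer X.pgroup hlt)
  have P : Pair X g₀ (conjS g T) :=
    { ne := fun h => hgN ⟨hg.1, mem_normalizer_of_conjS_eq h⟩
      le := fun y hy => X.mem_kern_of_sq h₀ hc
        ((conjS_mono (le_inf X.le le_normalizer : T ≤ N)).trans
          (conjS_eq_of_mem_normalizer hg.2).le hy) (X.conj_sq h₀ hc X.sq g y hy)
      sq := X.conj_sq h₀ hc X.sq g
      card := (card_conjS g T).trans X.card }
  refine (step inf_le_left).trans ((Nat.mul_le_mul (?_ : N.relIndex S ≤ 2)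
    (X.bound_outside h₀ hc P hk hHS hS hrH hrN)).trans le_rfl)
  classical
  refine (relIndex_le_of_fun (fun n : S => decide ((n : G) ∈ N)) fun x y e => ?_).trans (by simp)
  simp only [decide_eq_decide] at e
  by_cases hx : (x : G) ∈ N
  · exact N.mul_mem (N.inv_mem hx) (e.1 hx)
  · have hx' : (x : G)⁻¹ ∉ normalizer (T : Set G) := fun h =>
      hx ⟨x.2, by simpa using inv_mem h⟩
    have hy' : (y : G) ∉ normalizer (T : Set G) := fun h => hx (e.2 ⟨y.2, h⟩)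
    refine ⟨S.mul_mem (S.inv_mem x.2) y.2, mem_normalizer_of_conjS_eq ?_⟩
    rw [conjS_mul, (X.swap h₀ hc P hS y.2 hy').1, (X.swap h₀ hc P hS (S.inv_mem x.2) hx').2]

end Setup

end Cfsg.Agent.Lib.Fusion.FourByFour
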